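/-
Isometric embeddings of nondegenerate quadratic spaces over finite fields, types of nondegenerate subspaces.
-/
import Cfsg.Agent.Lib.Geo.OrthNondegTools
import Cfsg.Agent.Lib.Known.QuadClassify
import Cfsg.Agent.Lib.Classical.Quad.PlusMinusType

set_option autoImplicit false
set_option maxHeartbeats 800000
set_option linter.unusedSectionVars false

namespace CfsgLib.Geo.Elusive

open CfsgLib.Classical CfsgLib.Classical.Quad CfsgLib.Geo.OrthMax
open QuadraticMap (polar polarBilin)

universe u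

variable {F : Type u} [Field F] [Finite F]

/-- A nondegenerate space embeds isometrically in every larger nondegenerate space. -/
theorem exists_emb_aux (n : ℕ) : ∀ {U C : Type u} [AddCommGroup U] [Module F U] [FiniteDimensional F U]
    [AddCommGroup C] [Module F C] [FiniteDimensional F C] (R : QuadraticForm F U) (Q : QuadraticForm F C),
    (polarBilin R).Nondegenerate → (polarBilin Q).Nondegenerate → Module.finrank F U = n → n < Module.finrank F C →
    ∃ j : U →ₗ[F] C, ∀ v, Q (j v) = R v := by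
  induction n using Nat.strong_induction_on with
  | h n ih =>
    intro U C _ _ _ _ _ _ R Q hR hQ hU hC
    rcases Nat.eq_zero_or_pos n with rfl | hn
    · haveI : Subsingleton U := Module.finrank_zero_iff.1 hU
      exact ⟨0, fun v => by rw [Subsingleton.elim v 0, LinearMap.zero_apply, QuadraticMap.map_zero,
        QuadraticMap.map_zero]⟩
    haveI : Nontrivial U := Module.nontrivial_of_finrank_pos (R := F) (by omega)
    rcases Nat.lt_or_ge n 2 with hn1 | hn2
    · obtain ⟨u₀, hu₀⟩ := exists_apply_ne_zero hR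
      have hu0 : u₀ ≠ 0 := fun h => hu₀ (by rw [h, QuadraticMap.map_zero])
      obtain ⟨v, hv⟩ := exists_apply_eq hQ (by omega) hu₀
      let b : Module.Basis Unit F U := Module.basisUnique Unit (by omega)
      obtain ⟨c, hc⟩ := (finrank_eq_one_iff_of_nonzero' u₀ hu0).1 (show Module.finrank F U = 1 by omega) (b ())
      have hc0 : c ≠ 0 := fun h => b.ne_zero () (by rw [← hc, h, zero_smul])
      refine ⟨b.constr F fun _ => c • v, fun u => ?_⟩
      conv_rhs => rw [← b.sum_repr u, Finset.univ_unique, Finset.sum_singleton]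
      conv_lhs => rw [← b.sum_repr u, Finset.univ_unique, Finset.sum_singleton]
      rw [map_smul, b.constr_basis, apply_smul, apply_smul, apply_smul]
      show _ = b.repr u default * b.repr u default * R (b ())
      rw [← hc, apply_smul, hv]
    obtain ⟨v, hv0, hv⟩ := Quad.exists_singular hQ (by omega)
    obtain ⟨K, e, he, hK, hKd⟩ := CfsgLib.Known.QuadClassify.exists_hyperbolic_split Q hQ hv0 hv
    by_cases hs : ∃ w : U, w ≠ 0 ∧ R w = 0
    · obtain ⟨w, hw0, hw⟩ := hs
      obtain ⟨W, f, hf, hW, hWd⟩ := CfsgLib.Known.QuadClassify.exists_hyperbolic_split R hR hw0 hw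
      obtain ⟨j, hj⟩ := ih (Module.finrank F W) (by omega) (R.comp W.subtype) (Q.comp K.subtype) hW hK rfl (by omega)
      refine ⟨e.toLinearMap ∘ₗ LinearMap.prodMap LinearMap.id j ∘ₗ f.symm.toLinearMap, fun u => ?_⟩
      obtain ⟨z, rfl⟩ := f.surjective u
      have h := hj z.2
      simp only [QuadraticMap.comp_apply, Submodule.subtype_apply] at h
      rw [LinearMap.comp_apply, LinearMap.comp_apply, LinearEquiv.coe_coe, LinearEquiv.coe_coe,
        f.symm_apply_apply, he, hf, LinearMap.prodMap_apply, LinearMap.id_apply, h]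
    · push Not at hs
      have hn3 : n = 2 := by
        by_contra hne
        obtain ⟨w, hw0, hw⟩ := Quad.exists_singular hR (by omega)
        exact hs w hw0 hw
      have hani : ∀ x, R x = 0 → x = 0 := fun x hx => by
        by_contra h
        exact hs x h hx
      obtain ⟨ζ, g, hζ, hg⟩ := CfsgLib.Known.QuadClassify.exists_aniso_basis R hR (by omega) hani
      obtain ⟨α, w, hαw⟩ : ∃ (α : F) (w : K), α * (1 - α) + Q (w : C) = ζ := by
        rcases Nat.lt_or_ge (Module.finrank F K) 2 with hK1 | hK2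
        · have h2 : (2 : F) ≠ 0 :=
            CfsgLib.Known.QuadClassify.two_ne_zero_of_odd_finrank (Q.comp K.subtype) hK (by omega)
          haveI : Nontrivial K := Module.nontrivial_of_finrank_pos (R := F) (by omega)
          obtain ⟨w₀, hw₀⟩ := exists_apply_ne_zero hK
          simp only [QuadraticMap.comp_apply, Submodule.subtype_apply] at hw₀
          have h4 : -(4 * Q (w₀ : C)) ≠ 0 :=
            neg_ne_zero.2 (mul_ne_zero (by rw [show (4 : F) = 2 * 2 by norm_num]; exact mul_ne_zero h2 h2) hw₀)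
          obtain ⟨a, b, hab⟩ := Quad.exists_sum_two_squares h2 (one_ne_zero (α := F)) h4
            (1 - 4 * ζ)
          refine ⟨(1 + a) / 2, b • w₀, ?_⟩
          rw [Submodule.coe_smul, apply_smul]
          field_simp
          linear_combination -hab
        · obtain ⟨w, hw⟩ := exists_apply_eq hK hK2 (c := ζ) fun h => hζ 0 (by rw [h]; ring)
          exact ⟨0, w, by simp only [QuadraticMap.comp_apply, Submodule.subtype_apply] at hw; rw [hw]; ring⟩
      let j₀ : (Fin 2 → F) →ₗ[F] (F × F) × K :=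
        { toFun := fun z => ((z 0 + α * z 1, z 0 + (1 - α) * z 1), z 1 • w)
          map_add' := fun x y => by
            refine Prod.ext (Prod.ext ?_ ?_) ?_ <;> simp [add_smul] <;> ring
          map_smul' := fun c x => by
            refine Prod.ext (Prod.ext ?_ ?_) ?_ <;> simp [mul_smul] <;> ring }
      refine ⟨e.toLinearMap ∘ₗ j₀ ∘ₗ g.symm.toLinearMap, fun u => ?_⟩
      obtain ⟨z, rfl⟩ := g.surjective u
      rw [LinearMap.comp_apply, LinearMap.comp_apply, LinearEquiv.coe_coe, LinearEquiv.coe_coe,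
        g.symm_apply_apply, he, hg]
      show (z 0 + α * z 1) * (z 0 + (1 - α) * z 1) + Q ((z 1 • w : K) : C) = _
      rw [Submodule.coe_smul, apply_smul]
      linear_combination (z 1 * z 1) * hαw

theorem exists_emb {U C : Type u} [AddCommGroup U] [Module F U] [FiniteDimensional F U] [AddCommGroup C] [Module F C]
    [FiniteDimensional F C] {R : QuadraticForm F U} {Q : QuadraticForm F C} (hR : (polarBilin R).Nondegenerate)
    (hQ : (polarBilin Q).Nondegenerate) (h : Module.finrank F U < Module.finrank F C) :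
    ∃ j : U →ₗ[F] C, ∀ v, Q (j v) = R v :=
  exists_emb_aux _ R Q hR hQ rfl h

variable {V : Type u} [AddCommGroup V] [Module F V] [FiniteDimensional F V] {Q : QuadraticForm F V}

/-- The subspace contains a singular subspace of half its dimension. -/
def Plus (Q : QuadraticForm F V) (W : Submodule F V) : Prop :=
  ∃ S : Submodule F V, S ≤ W ∧ (∀ s ∈ S, Q s = 0) ∧ 2 * Module.finrank F S = Module.finrank F W

/-- The two subspaces are isometric. -/
def Iso (Q : QuadraticForm F V) (W W' : Submodule F V) : Prop :=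
  ∃ e : W ≃ₗ[F] W', ∀ w : W, Q ((e w : W') : V) = Q (w : V)

omit [Finite F] [FiniteDimensional F V] in
theorem Iso.refl (W : Submodule F V) : Iso Q W W := ⟨LinearEquiv.refl F W, fun _ => rfl⟩

omit [Finite F] [FiniteDimensional F V] in
theorem Iso.symm {W W' : Submodule F V} (h : Iso Q W W') : Iso Q W' W := by
  obtain ⟨e, he⟩ := h
  exact ⟨e.symm, fun w => by rw [← he, e.apply_symm_apply]⟩

omit [Finite F] [FiniteDimensional F V] in
theorem Iso.trans {W W' W'' : Submodule F V} (h : Iso Q W W') (h' : Iso Q W' W'') : Iso Q W W'' := by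
  obtain ⟨e, he⟩ := h
  obtain ⟨e', he'⟩ := h'
  exact ⟨e.trans e', fun w => by rw [LinearEquiv.trans_apply, he', he]⟩

omit [Finite F] [FiniteDimensional F V] in
theorem Iso.finrank_eq {W W' : Submodule F V} (h : Iso Q W W') : Module.finrank F W = Module.finrank F W' :=
  h.choose.finrank_eq

omit [Finite F] [FiniteDimensional F V] in
theorem polar_of_preserves {U : Type u} [AddCommGroup U] [Module F U] {R : QuadraticForm F U} {j : U →ₗ[F] V}
    (hj : ∀ v, Q (j v) = R v) (x y : U) : polar Q (j x) (j y) = polar R x y := by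
  simp only [polar, ← map_add, hj]

omit [Finite F] [FiniteDimensional F V] in
theorem injective_of_emb {U : Type u} [AddCommGroup U] [Module F U] {R : QuadraticForm F U}
    (hR : (polarBilin R).Nondegenerate) {j : U →ₗ[F] V} (hj : ∀ v, Q (j v) = R v) : Function.Injective j := by
  rw [injective_iff_map_eq_zero]
  intro x hx
  refine hR.1 x fun y => ?_
  show polar R x y = 0
  rw [← polar_of_preserves hj, hx, ← QuadraticMap.polarBilin_apply_apply, map_zero, LinearMap.zero_apply]

omit [Finite F] in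
theorem Iso.nondeg {W W' : Submodule F V} (h : Iso Q W W') (hW : Nondeg Q W) : Nondeg Q W' := by
  obtain ⟨e, he⟩ := h
  intro x hx hall
  obtain ⟨w, hw⟩ := e.surjective ⟨x, hx⟩
  have hw' : x = ((e w : W') : V) := by rw [hw]
  have h0 : (w : V) = 0 := hW w w.2 fun y hy => by
    have hp : polar Q ((e w : W') : V) ((e ⟨y, hy⟩ : W') : V) = polar Q (w : V) y := by
      simp only [polar, ← Submodule.coe_add, ← map_add, he]
      rfl
    rw [← hp, ← hw']
    exact hall _ (e ⟨y, hy⟩).2
  rw [hw', show w = 0 from Subtype.ext h0, map_zero, Submodule.coe_zero]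

omit [Finite F] in
theorem Iso.plus {W W' : Submodule F V} (h : Iso Q W W') (hW : Plus Q W) : Plus Q W' := by
  obtain ⟨e, he⟩ := h
  obtain ⟨S, hSW, hS, hd⟩ := hW
  refine ⟨((S.comap W.subtype).map e.toLinearMap).map W'.subtype, Submodule.map_subtype_le _ _, ?_, ?_⟩
  · rintro _ ⟨_, ⟨x, hx, rfl⟩, rfl⟩
    exact (he x).trans (hS _ hx)
  · rw [Submodule.finrank_map_subtype_eq, LinearEquiv.finrank_map_eq,
      (Submodule.comapSubtypeEquivOfLe hSW).finrank_eq, hd, e.finrank_eq]

/-- A subspace isometric to a given space inside a larger nondegenerate subspace. -/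
theorem exists_sub_emb {U : Type u} [AddCommGroup U] [Module F U] [FiniteDimensional F U] {R : QuadraticForm F U}
    (hR : (polarBilin R).Nondegenerate) {C : Submodule F V} (hC : Nondeg Q C)
    (h : Module.finrank F U < Module.finrank F C) :
    ∃ j : U →ₗ[F] V, (∀ v, Q (j v) = R v) ∧ ∀ v, j v ∈ C := by
  obtain ⟨j, hj⟩ := exists_emb hR hC.comp h
  exact ⟨C.subtype ∘ₗ j, fun v => hj v, fun v => (j v).2⟩

omit [Finite F] [FiniteDimensional F V] in
theorem nondeg_range {U : Type u} [AddCommGroup U] [Module F U] {R : QuadraticForm F U}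
    (hR : (polarBilin R).Nondegenerate) {j : U →ₗ[F] V} (hj : ∀ v, Q (j v) = R v) :
    ∀ x ∈ LinearMap.range j, (∀ y ∈ LinearMap.range j, polar Q x y = 0) → x = 0 := by
  rintro _ ⟨x, rfl⟩ h
  rw [hR.1 x fun y => (polar_of_preserves hj x y).symm.trans (h _ ⟨y, rfl⟩), map_zero]

theorem exists_sub_iso {W : Submodule F V} (hW : Nondeg Q W) {C : Submodule F V} (hC : Nondeg Q C)
    (h : Module.finrank F W < Module.finrank F C) : ∃ W' : Submodule F V, W' ≤ C ∧ Nondeg Q W' ∧ Iso Q W' W := by
  obtain ⟨j, hj, hjC⟩ := exists_sub_emb hW.comp hC h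
  refine ⟨LinearMap.range j, by rintro _ ⟨v, rfl⟩; exact hjC v, nondeg_range hW.comp hj, Iso.symm ?_⟩
  exact ⟨LinearEquiv.ofInjective j (injective_of_emb hW.comp hj), fun w => hj w⟩

omit [Finite F] [FiniteDimensional F V] in
theorem inf_eq_bot_of_orth {A B : Submodule F V} (hA : Nondeg Q A) (horth : ∀ a ∈ A, ∀ b ∈ B, polar Q a b = 0) :
    A ⊓ B = ⊥ :=
  (Submodule.eq_bot_iff _).2 fun x hx => hA x hx.1 fun y hy => by
    rw [QuadraticMap.polar_comm]; exact horth y hy x hx.2

omit [Finite F] in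
theorem finrank_sup_orth {A B : Submodule F V} (hA : Nondeg Q A) (horth : ∀ a ∈ A, ∀ b ∈ B, polar Q a b = 0) :
    Module.finrank F ↥(A ⊔ B) = Module.finrank F A + Module.finrank F B := by
  have h := Submodule.finrank_sup_add_finrank_inf_eq A B
  rw [inf_eq_bot_of_orth hA horth, finrank_bot] at h
  omega

omit [Finite F] [FiniteDimensional F V] in
theorem nondeg_sup {A B : Submodule F V} (hA : Nondeg Q A) (hB : Nondeg Q B)
    (horth : ∀ a ∈ A, ∀ b ∈ B, polar Q a b = 0) : Nondeg Q (A ⊔ B) := by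
  intro x hx h
  obtain ⟨a, ha, b, hb, rfl⟩ := Submodule.mem_sup.1 hx
  have ha0 : a = 0 := hA a ha fun y hy => by
    have h1 := h y (Submodule.mem_sup_left hy)
    rwa [polar_add_left', QuadraticMap.polar_comm (⇑Q) b y, horth y hy b hb, add_zero] at h1
  have hb0 : b = 0 := hB b hb fun y hy => by
    have h1 := h y (Submodule.mem_sup_right hy)
    rwa [polar_add_left', horth a ha y hy, zero_add] at h1
  rw [ha0, hb0, add_zero]

/-- Isometries of orthogonal parts glue. -/
theorem iso_sup {A B A' B' : Submodule F V} (hA : Nondeg Q A) (hA' : Nondeg Q A')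
    (horth : ∀ a ∈ A, ∀ b ∈ B, polar Q a b = 0) (horth' : ∀ a ∈ A', ∀ b ∈ B', polar Q a b = 0)
    (h1 : Iso Q A A') (h2 : Iso Q B B') : Iso Q (A ⊔ B) (A' ⊔ B') := by
  obtain ⟨e1, he1⟩ := h1
  obtain ⟨e2, he2⟩ := h2
  have mk : ∀ {X Y : Submodule F V}, Nondeg Q X → (∀ a ∈ X, ∀ b ∈ Y, polar Q a b = 0) →
      ∃ e : (X × Y) ≃ₗ[F] (X ⊔ Y : Submodule F V), ∀ z, Q ((e z : (X ⊔ Y : Submodule F V)) : V) = Q (z.1 : V) + Q (z.2 : V) := by
    intro X Y hX hXY
    let φ : (X × Y) →ₗ[F] (X ⊔ Y : Submodule F V) :=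
      LinearMap.coprod (Submodule.inclusion le_sup_left) (Submodule.inclusion le_sup_right)
    have hφ : ∀ z, ((φ z : (X ⊔ Y : Submodule F V)) : V) = (z.1 : V) + (z.2 : V) := fun z => rfl
    have hbij : Function.Bijective φ := by
      constructor
      · rw [injective_iff_map_eq_zero]
        rintro ⟨a, b⟩ h
        have h1 : (a : V) + (b : V) = 0 := by rw [← hφ ⟨a, b⟩, h, Submodule.coe_zero]
        have h2 : (a : V) ∈ X ⊓ Y := ⟨a.2, by rw [eq_neg_of_add_eq_zero_left h1]; exact Y.neg_mem b.2⟩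
        rw [inf_eq_bot_of_orth hX hXY, Submodule.mem_bot] at h2
        rw [h2, zero_add] at h1
        exact Prod.ext (Subtype.ext h2) (Subtype.ext h1)
      · rintro ⟨z, hz⟩
        obtain ⟨a, ha, b, hb, rfl⟩ := Submodule.mem_sup.1 hz
        exact ⟨(⟨a, ha⟩, ⟨b, hb⟩), Subtype.ext rfl⟩
    refine ⟨LinearEquiv.ofBijective φ hbij, fun z => ?_⟩
    rw [LinearEquiv.ofBijective_apply, hφ, apply_add, hXY _ z.1.2 _ z.2.2, add_zero]
  obtain ⟨f, hf⟩ := mk hA horth
  obtain ⟨f', hf'⟩ := mk hA' horth'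
  refine ⟨f.symm.trans ((e1.prodCongr e2).trans f'), fun w => ?_⟩
  obtain ⟨z, rfl⟩ := f.surjective w
  rw [LinearEquiv.trans_apply, LinearEquiv.trans_apply, f.symm_apply_apply, hf', hf]
  show Q ((e1 z.1 : A') : V) + Q ((e2 z.2 : B') : V) = _
  rw [he1, he2]

omit [Finite F] in
theorem nondeg_inf_perp {A X : Submodule F V} (hA : Nondeg Q A) (hX : Nondeg Q X) (hAX : A ≤ X) :
    Nondeg Q (X ⊓ perp Q A) ∧ A ⊔ (X ⊓ perp Q A) = X ∧
      Module.finrank F A + Module.finrank F ↥(X ⊓ perp Q A) = Module.finrank F X := by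
  have hnd : Nondeg (Q.comp X.subtype) (A.comap X.subtype) := fun x hx h => Subtype.ext (hA x hx fun y hy => by
    rw [← polar_comp X x ⟨y, hAX hy⟩]; exact h ⟨y, hAX hy⟩ hy)
  have hsup : A ⊔ (X ⊓ perp Q A) = X := le_antisymm (sup_le hAX inf_le_left) fun x hx => by
    obtain ⟨a, ha, b, hb, hab⟩ := hnd.exists_add hX.comp ⟨x, hx⟩
    refine Submodule.mem_sup.2 ⟨a, ha, b, ⟨b.2, mem_perp.2 fun w hw => ?_⟩, congrArg Subtype.val hab⟩
    rw [← polar_comp X ⟨w, hAX hw⟩ b]
    exact mem_perp.1 hb ⟨w, hAX hw⟩ hw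
  have horth : ∀ a ∈ A, ∀ b ∈ X ⊓ perp Q A, polar Q a b = 0 := fun a ha b hb => mem_perp.1 hb.2 a ha
  refine ⟨fun x hx h => hX x hx.1 fun y hy => ?_, hsup, ?_⟩
  · rw [← hsup] at hy
    obtain ⟨a, ha, b, hb, rfl⟩ := Submodule.mem_sup.1 hy
    rw [polar_add_right', QuadraticMap.polar_comm, horth a ha x hx, h b hb, add_zero]
  · rw [← finrank_sup_orth hA horth, hsup]

/-- A given subspace `A`, completed inside `C`, is isometric to a given space. -/
theorem exists_completion {A C W₀ : Submodule F V} (hA : Nondeg Q A) (hC : Nondeg Q C)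
    (horth : ∀ a ∈ A, ∀ c ∈ C, polar Q a c = 0) (hW₀ : Nondeg Q W₀)
    (hlt : Module.finrank F A < Module.finrank F W₀)
    (hlt' : Module.finrank F W₀ < Module.finrank F A + Module.finrank F C) :
    ∃ W : Submodule F V, W ≤ C ∧ Iso Q (A ⊔ W) W₀ := by
  obtain ⟨A', hA'W, hA'nd, hiA⟩ := exists_sub_iso hA hW₀ hlt
  obtain ⟨hB', hsup, hd⟩ := nondeg_inf_perp hA'nd hW₀ hA'W
  have hAd := hiA.finrank_eq
  obtain ⟨W, hWC, -, hiW⟩ := exists_sub_iso hB' hC (by omega)
  refine ⟨W, hWC, ?_⟩
  have h := iso_sup (B := W) (B' := W₀ ⊓ perp Q A') hA hA'nd (fun a ha b hb => horth a ha b (hWC hb))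
    (fun a ha b hb => mem_perp.1 hb.2 a ha) hiA.symm hiW
  rwa [hsup] at h

omit [Finite F] in
theorem plus_bot : Plus Q (⊥ : Submodule F V) :=
  ⟨⊥, le_rfl, fun s hs => by rw [(Submodule.mem_bot F).1 hs, QuadraticMap.map_zero], by simp⟩

omit [Finite F] in
theorem plus_sup {A B : Submodule F V} (hA : Nondeg Q A) (horth : ∀ a ∈ A, ∀ b ∈ B, polar Q a b = 0)
    (h1 : Plus Q A) (h2 : Plus Q B) : Plus Q (A ⊔ B) := by
  obtain ⟨S, hSA, hS, hSd⟩ := h1
  obtain ⟨T, hTB, hT, hTd⟩ := h2
  refine ⟨S ⊔ T, sup_le_sup hSA hTB, fun w hw => ?_, ?_⟩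
  · obtain ⟨a, ha, b, hb, rfl⟩ := Submodule.mem_sup.1 hw
    rw [apply_add, hS a ha, hT b hb, horth a (hSA ha) b (hTB hb), add_zero, add_zero]
  · have h := Submodule.finrank_sup_add_finrank_inf_eq S T
    have hinf : S ⊓ T = ⊥ := le_bot_iff.1 ((inf_le_inf hSA hTB).trans (inf_eq_bot_of_orth hA horth).le)
    rw [hinf, finrank_bot] at h
    rw [finrank_sup_orth hA horth]
    omega

omit [Finite F] in
theorem plus_nondeg_even {A : Submodule F V} (h : Plus Q A) : Even (Module.finrank F A) := by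
  obtain ⟨S, -, -, hd⟩ := h
  exact ⟨_, by rw [← hd, two_mul]⟩

end CfsgLib.Geo.Elusive
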