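/-
Plus and minus type of nondegenerate subspaces.
-/
import Cfsg.Agent.Lib.Geo.Elusive.OrthEmbed

set_option autoImplicit false
set_option maxHeartbeats 800000
set_option linter.unusedSectionVars false

namespace CfsgLib.Geo.Elusive

open CfsgLib.Classical CfsgLib.Classical.Quad CfsgLib.Geo.OrthMax
open QuadraticMap (polar polarBilin)

universe u

variable {F : Type u} [Field F] [Finite F]

theorem exists_no_root : ∃ ζ : F, ∀ t : F, t ^ 2 + t + ζ ≠ 0 := by
  by_contra! h
  have hs : Function.Surjective fun t : F => t ^ 2 + t := fun y => by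
    obtain ⟨t, ht⟩ := h (-y)
    exact ⟨t, by linear_combination ht⟩
  have := Finite.injective_iff_surjective.2 hs (a₁ := 0) (a₂ := -1) (by ring)
  exact one_ne_zero (neg_eq_zero.1 this.symm)

variable {V : Type u} [AddCommGroup V] [Module F V] [FiniteDimensional F V] {Q : QuadraticForm F V}

theorem exists_maximal_over {X T : Submodule F V} (hTX : T ≤ X) (hT : ∀ w ∈ T, Q w = 0) :
    ∃ Z, T ≤ Z ∧ Z ≤ X ∧ (∀ w ∈ Z, Q w = 0) ∧ ∀ Y, Z ≤ Y → Y ≤ X → (∀ w ∈ Y, Q w = 0) → Y = Z := by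
  haveI : Finite V := Module.finite_of_finite F
  haveI : Finite (Submodule F V) := Finite.of_injective _ SetLike.coe_injective
  obtain ⟨Z, ⟨hTZ, hZX, hZ⟩, hmax⟩ := wellFounded_gt.has_min
    {Z : Submodule F V | T ≤ Z ∧ Z ≤ X ∧ ∀ w ∈ Z, Q w = 0} ⟨T, le_rfl, hTX, hT⟩
  refine ⟨Z, hTZ, hZX, hZ, fun Y hZY hYX hY => ?_⟩
  by_contra hne
  exact hmax Y ⟨hTZ.trans hZY, hYX, hY⟩ (lt_of_le_of_ne hZY (Ne.symm hne))

/-- An orthogonal summand of a plus-type space, with plus-type complement, has plus type. -/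
theorem plus_cancel {A B : Submodule F V} (hA : Nondeg Q A) (hB : Nondeg Q B)
    (horth : ∀ a ∈ A, ∀ b ∈ B, polar Q a b = 0) (h : Plus Q (A ⊔ B)) (hBp : Plus Q B) : Plus Q A := by
  obtain ⟨S, hSX, hS, hSd⟩ := h
  obtain ⟨T, hTB, hT, hTd⟩ := hBp
  obtain ⟨Z, hTZ, hZX, hZ, hmax⟩ := exists_maximal_over (hTB.trans le_sup_right) hT
  have hXnd := nondeg_sup hA hB horth
  set X := A ⊔ B with hX
  have hcz : Module.finrank F (Z.comap X.subtype) = Module.finrank F Z :=
    (Submodule.comapSubtypeEquivOfLe hZX).finrank_eq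
  have hcs : Module.finrank F (S.comap X.subtype) = Module.finrank F S :=
    (Submodule.comapSubtypeEquivOfLe hSX).finrank_eq
  have h2le : 2 * Module.finrank F Z ≤ Module.finrank F X := by
    rw [← hcz]; exact two_mul_finrank_le hXnd.comp fun w hw => hZ _ hw
  have hge : Module.finrank F S ≤ Module.finrank F Z := by
    by_contra hlt
    have := finrank_eq_of_maximal hXnd.comp (W₁ := Z.comap X.subtype) (W₂ := S.comap X.subtype)
      (fun w hw => hZ _ hw) (fun w hw => hS _ hw) (fun W hW hWs => by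
        have h1 := hmax (W.map X.subtype) (fun z hz => ⟨⟨z, hZX hz⟩, hW hz, rfl⟩) (Submodule.map_subtype_le _ _)
          (by rintro _ ⟨w, hw, rfl⟩; exact hWs w hw)
        rw [← h1, Submodule.comap_map_eq_of_injective X.injective_subtype]) (by omega)
    omega
  have hTperp : ∀ x ∈ B, (∀ t ∈ T, polar Q t x = 0) → x ∈ T := by
    intro x hx hxp
    have hle : T.comap B.subtype ≤ OrthMax.perp (Q.comp B.subtype) (T.comap B.subtype) := fun y hy =>
      mem_perp.2 fun z hz => by
        rw [polar_comp, QuadraticMap.polar, hT ((z : V) + (y : V)) (T.add_mem hz hy), hT (z : V) hz, hT (y : V) hy]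
        ring
    have heq := Submodule.eq_of_le_of_finrank_eq hle (by
      rw [finrank_perp hB.comp, (Submodule.comapSubtypeEquivOfLe hTB).finrank_eq]; omega)
    have : (⟨x, hx⟩ : B) ∈ OrthMax.perp (Q.comp B.subtype) (T.comap B.subtype) :=
      mem_perp.2 fun z hz => by rw [polar_comp]; exact hxp z hz
    rw [← heq] at this
    exact this
  have hZ2 : Z = T ⊔ (Z ⊓ A) := by
    refine le_antisymm (fun z hz => ?_) (sup_le hTZ inf_le_left)
    obtain ⟨a, ha, b, hb, rfl⟩ := Submodule.mem_sup.1 (hZX hz)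
    have hbT : b ∈ T := hTperp b hb fun t ht => by
      have h1 : polar Q t (a + b) = 0 := by
        rw [QuadraticMap.polar, hZ _ (Z.add_mem (hTZ ht) hz), hT t ht, hZ _ hz]; ring
      rwa [polar_add_right', QuadraticMap.polar_comm (⇑Q) t a, horth a ha t (hTB ht), zero_add] at h1
    rw [add_comm]
    exact Submodule.add_mem_sup hbT ⟨by simpa using Z.sub_mem hz (hTZ hbT), ha⟩
  have hd := Submodule.finrank_add_le_finrank_add_finrank T (Z ⊓ A)
  rw [← hZ2] at hd
  rw [hX, finrank_sup_orth hA horth] at hSd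
  refine ⟨Z ⊓ A, inf_le_right, fun w hw => hZ w hw.1, ?_⟩
  have hle : 2 * Module.finrank F ↥(Z ⊓ A) ≤ Module.finrank F A := by
    rw [← (Submodule.comapSubtypeEquivOfLe (inf_le_right : Z ⊓ A ≤ A)).finrank_eq]
    exact two_mul_finrank_le hA.comp fun w hw => hZ _ hw.1
  omega

theorem plus_of_model {W : Submodule F V} {k : ℕ} (e : (Fin k ⊕ Fin k → F) ≃ₗ[F] W)
    (he : ∀ v, Q ((e v : W) : V) = Cfsg.quadFormPlus k F v) : Plus Q W := by
  let J : (Fin k → F) →ₗ[F] (Fin k ⊕ Fin k → F) :=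
    { toFun := fun w => Sum.elim w 0
      map_add' := fun u v => by ext x; rcases x with i | i <;> simp
      map_smul' := fun r v => by ext x; rcases x with i | i <;> simp }
  let L := W.subtype.comp ((e : (Fin k ⊕ Fin k → F) →ₗ[F] W).comp J)
  have hL : Function.Injective L := W.injective_subtype.comp (e.injective.comp fun u v h => funext fun i => by
    simpa [J] using congrFun h (Sum.inl i))
  refine ⟨LinearMap.range L, ?_, ?_, ?_⟩
  · rintro _ ⟨w, rfl⟩; exact (e (J w)).2
  · rintro _ ⟨w, rfl⟩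
    show Q ((e (J w) : W) : V) = 0
    rw [he]
    simp [Cfsg.quadFormPlus, J]
  · rw [LinearMap.finrank_range_of_inj hL, Module.finrank_fin_fun, ← e.finrank_eq, Module.finrank_pi,
      Fintype.card_sum, Fintype.card_fin]
    ring

theorem not_plus_of_model {W : Submodule F V} {k : ℕ} {a b : F}
    (hab : ∀ z₁ z₂ : F, z₁ ^ 2 + a * z₁ * z₂ + b * z₂ ^ 2 = 0 → z₁ = 0 ∧ z₂ = 0)
    (e : ((Fin k ⊕ Fin k) ⊕ Fin 2 → F) ≃ₗ[F] W)
    (he : ∀ v, Q ((e v : W) : V) = Cfsg.quadFormMinus k F a b v) : ¬ Plus Q W := by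
  rintro ⟨S, hSW, hS, hd⟩
  have h := Quad.qMinus_no_half hab k ((S.comap W.subtype).map e.symm.toLinearMap) (by
    rintro _ ⟨x, hx, rfl⟩
    rw [Quad.coe_qMinus, LinearEquiv.coe_coe, ← he, e.apply_symm_apply]
    exact hS _ hx)
  rw [LinearEquiv.finrank_map_eq, (Submodule.comapSubtypeEquivOfLe hSW).finrank_eq] at h
  have h2 := e.finrank_eq
  rw [Module.finrank_pi] at h2
  simp only [Fintype.card_sum, Fintype.card_fin] at h2
  omega

theorem iso_of_plus {W W' : Submodule F V} (hW : Nondeg Q W) (hW' : Nondeg Q W')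
    (hd : Module.finrank F W = Module.finrank F W') (h : Plus Q W) (h' : Plus Q W') : Iso Q W W' := by
  haveI := Fintype.ofFinite F
  obtain ⟨m, hm⟩ := plus_nondeg_even h
  have hm2 : Module.finrank F W = 2 * m := by omega
  rcases CfsgLib.Known.QuadClassify.classify_even hm2 _ hW.comp with ⟨e, he⟩ | ⟨-, ζ, e, hζ, he⟩
  swap
  · exact absurd h (not_plus_of_model (CfsgLib.Known.QuadClassify.aniso_of_no_root hζ) e he)
  rcases CfsgLib.Known.QuadClassify.classify_even (hd ▸ hm2) _ hW'.comp with ⟨e', he'⟩ | ⟨-, ζ, e', hζ, he'⟩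
  swap
  · exact absurd h' (not_plus_of_model (CfsgLib.Known.QuadClassify.aniso_of_no_root hζ) e' he')
  refine ⟨e.symm.trans e', fun w => ?_⟩
  have h1 := he' (e.symm w)
  have h2 := he (e.symm w)
  rw [LinearEquiv.apply_symm_apply] at h2
  simp only [QuadraticMap.comp_apply, Submodule.subtype_apply] at h1 h2
  rw [LinearEquiv.trans_apply, h1, h2]

theorem iso_of_not_plus {W W' : Submodule F V} (hW : Nondeg Q W) (hW' : Nondeg Q W')
    (hd : Module.finrank F W = Module.finrank F W') (hev : Even (Module.finrank F W))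
    (h : ¬ Plus Q W) (h' : ¬ Plus Q W') : Iso Q W W' := by
  haveI := Fintype.ofFinite F
  obtain ⟨m, hm⟩ := hev
  have hm2 : Module.finrank F W = 2 * m := by omega
  rcases CfsgLib.Known.QuadClassify.classify_even hm2 _ hW.comp with ⟨e, he⟩ | ⟨-, ζ, e, hζ, he⟩
  · exact absurd (plus_of_model e he) h
  rcases CfsgLib.Known.QuadClassify.classify_even (hd ▸ hm2) _ hW'.comp with ⟨e', he'⟩ | ⟨-, η, e', hη, he'⟩
  · exact absurd (plus_of_model e' he') h'
  obtain ⟨g, hg⟩ := CfsgLib.Known.QuadClassify.minus_equiv (m - 1) hη hζ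
  refine ⟨e.symm.trans (g.trans e'), fun w => ?_⟩
  have h1 := he' (g (e.symm w))
  have h2 := he (e.symm w)
  rw [LinearEquiv.apply_symm_apply] at h2
  simp only [QuadraticMap.comp_apply, Submodule.subtype_apply] at h1 h2
  rw [LinearEquiv.trans_apply, LinearEquiv.trans_apply, h1, hg, h2]

theorem iso_iff_plus {W W' : Submodule F V} (hW : Nondeg Q W) (hW' : Nondeg Q W')
    (hd : Module.finrank F W = Module.finrank F W') (hev : Even (Module.finrank F W')) :
    Iso Q W W' ↔ (Plus Q W ↔ Plus Q W') := by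
  refine ⟨fun h => ⟨h.plus, h.symm.plus⟩, fun h => ?_⟩
  by_cases hp : Plus Q W
  · exact iso_of_plus hW hW' hd hp (h.1 hp)
  · exact iso_of_not_plus hW hW' hd (hd ▸ hev) hp fun h' => hp (h.2 h')

/-- A plus-type subspace of given dimension. -/
theorem exists_plus_sub {C : Submodule F V} (hC : Nondeg Q C) {k : ℕ} (h : 2 * k < Module.finrank F C) :
    ∃ W : Submodule F V, W ≤ C ∧ Nondeg Q W ∧ Plus Q W ∧ Module.finrank F W = 2 * k := by
  have hd : Module.finrank F (Fin k ⊕ Fin k → F) = 2 * k := by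
    rw [Module.finrank_pi, Fintype.card_sum, Fintype.card_fin]; ring
  obtain ⟨j, hj, hjC⟩ := exists_sub_emb (U := Fin k ⊕ Fin k → F) (qPlus_nondeg k) hC (by omega)
  have hinj := injective_of_emb (qPlus_nondeg k) hj
  refine ⟨LinearMap.range j, by rintro _ ⟨v, rfl⟩; exact hjC v, nondeg_range (qPlus_nondeg k) hj,
    plus_of_model (LinearEquiv.ofInjective j hinj) (fun v => ?_), by rw [LinearMap.finrank_range_of_inj hinj, hd]⟩
  show Q (j v) = _
  rw [hj, coe_qPlus]

/-- A subspace of given even dimension which is not of plus type. -/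
theorem exists_minus_sub {C : Submodule F V} (hC : Nondeg Q C) {k : ℕ} (hk : 1 ≤ k)
    (h : 2 * k < Module.finrank F C) :
    ∃ W : Submodule F V, W ≤ C ∧ Nondeg Q W ∧ ¬ Plus Q W ∧ Module.finrank F W = 2 * k := by
  haveI := Fintype.ofFinite F
  obtain ⟨ζ, hζ⟩ := exists_no_root (F := F)
  have hab := CfsgLib.Known.QuadClassify.aniso_of_no_root hζ
  have hd : Module.finrank F ((Fin (k - 1) ⊕ Fin (k - 1)) ⊕ Fin 2 → F) = 2 * k := by
    rw [Module.finrank_pi]; simp only [Fintype.card_sum, Fintype.card_fin]; omega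
  obtain ⟨j, hj, hjC⟩ := exists_sub_emb (U := (Fin (k - 1) ⊕ Fin (k - 1)) ⊕ Fin 2 → F) (qMinus_nondeg hab (k - 1))
    hC (by omega)
  have hinj := injective_of_emb (qMinus_nondeg hab (k - 1)) hj
  refine ⟨LinearMap.range j, by rintro _ ⟨v, rfl⟩; exact hjC v, nondeg_range (qMinus_nondeg hab (k - 1)) hj,
    not_plus_of_model hab (LinearEquiv.ofInjective j hinj) (fun v => ?_),
    by rw [LinearMap.finrank_range_of_inj hinj, hd]⟩
  show Q (j v) = _
  rw [hj, coe_qMinus]

theorem plus_of_iso_orth {A B : Submodule F V} (hA : Nondeg Q A) (hev : Even (Module.finrank F A))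
    (horth : ∀ a ∈ A, ∀ b ∈ B, polar Q a b = 0) (hiso : Iso Q A B) : Plus Q (A ⊔ B) := by
  obtain ⟨e, he⟩ := hiso
  obtain ⟨m, hm⟩ := hev
  obtain ⟨g, hg⟩ := CfsgLib.Known.QuadClassify.similarity_surjective (m := m) (by omega) (Q.comp A.subtype) hA.comp
    (-1) (neg_ne_zero.2 one_ne_zero)
  let L : A →ₗ[F] V := A.subtype + B.subtype.comp ((e : A →ₗ[F] B).comp (g : A →ₗ[F] A))
  have hinj : Function.Injective L := by
    rw [injective_iff_map_eq_zero]
    intro w hw
    have h1 : (w : V) ∈ A ⊓ B := ⟨w.2, by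
      rw [eq_neg_of_add_eq_zero_left (show (w : V) + ((e (g w) : B) : V) = 0 from hw)]
      exact B.neg_mem (e (g w)).2⟩
    rw [inf_eq_bot_of_orth hA horth, Submodule.mem_bot] at h1
    exact Subtype.ext h1
  refine ⟨LinearMap.range L, ?_, ?_, ?_⟩
  · rintro _ ⟨w, rfl⟩
    exact Submodule.add_mem_sup w.2 (e (g w)).2
  · rintro _ ⟨w, rfl⟩
    show Q ((w : V) + ((e (g w) : B) : V)) = 0
    rw [apply_add, he, horth _ w.2 _ (e (g w)).2, add_zero,
      show Q ((g w : A) : V) = -1 * Q (w : V) from hg w]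
    ring
  · rw [LinearMap.finrank_range_of_inj hinj, finrank_sup_orth hA horth, e.finrank_eq]
    ring

theorem plus_of_minus_minus_aux (N : ℕ) : ∀ {A B : Submodule F V}, Nondeg Q A → Nondeg Q B →
    (∀ a ∈ A, ∀ b ∈ B, polar Q a b = 0) → Even (Module.finrank F A) → Even (Module.finrank F B) →
    Module.finrank F B ≤ Module.finrank F A → ¬ Plus Q A → ¬ Plus Q B → Module.finrank F A + Module.finrank F B ≤ N →
    Plus Q (A ⊔ B) := by
  induction N with
  | zero =>
    intro A B hA hB horth hAe hBe hle hAp hBp hN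
    exact absurd (Submodule.finrank_eq_zero.1 (by omega : Module.finrank F A = 0) ▸ plus_bot) hAp
  | succ N ih =>
    intro A B hA hB horth hAe hBe hle hAp hBp hN
    rcases eq_or_lt_of_le hle with heq | hlt
    · exact plus_of_iso_orth hA hAe horth (iso_of_not_plus hA hB heq.symm hAe hAp hBp)
    obtain ⟨A₁, hA₁A, hA₁, hiA⟩ := exists_sub_iso hB hA hlt
    obtain ⟨hA₂, hsup, hd⟩ := nondeg_inf_perp hA₁ hA hA₁A
    set A₂ := A ⊓ OrthMax.perp Q A₁ with hA₂def
    have horth₁₂ : ∀ a ∈ A₁, ∀ b ∈ A₂, polar Q a b = 0 := fun a ha b hb => mem_perp.1 hb.2 a ha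
    have hA₁d := hiA.finrank_eq
    have hA₁p : ¬ Plus Q A₁ := fun h => hBp (hiA.plus h)
    have hBpos : Module.finrank F B ≠ 0 := fun h0 => hBp (Submodule.finrank_eq_zero.1 h0 ▸ plus_bot)
    have hA₂e : Even (Module.finrank F A₂) := by
      rw [← hd, Nat.even_add, hA₁d] at hAe
      exact hAe.1 hBe
    have hA₂p : Plus Q A₂ := by
      by_contra hp
      refine hAp ?_
      rw [← hsup]
      rcases le_total (Module.finrank F A₂) (Module.finrank F A₁) with hc | hc
      · exact ih hA₁ hA₂ horth₁₂ (hA₁d ▸ hBe) hA₂e hc hA₁p hp (by omega)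
      · rw [sup_comm]
        exact ih hA₂ hA₁ (fun a ha b hb => by rw [QuadraticMap.polar_comm]; exact horth₁₂ b hb a ha) hA₂e
          (hA₁d ▸ hBe) hc hp hA₁p (by omega)
    have h1 : Plus Q (A₁ ⊔ B) :=
      plus_of_iso_orth hA₁ (hA₁d ▸ hBe) (fun a ha b hb => horth a (hA₁A ha) b hb) hiA
    have h2 : ∀ a ∈ A₂, ∀ b ∈ A₁ ⊔ B, polar Q a b = 0 := fun a ha b hb => by
      obtain ⟨x, hx, y, hy, rfl⟩ := Submodule.mem_sup.1 hb
      rw [polar_add_right', horth a ha.1 y hy, QuadraticMap.polar_comm, horth₁₂ x hx a ha, add_zero]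
    have := plus_sup hA₂ h2 hA₂p h1
    rwa [← sup_assoc, sup_comm A₂ A₁, hsup] at this

/-- The type of an orthogonal sum. -/
theorem plus_sup_iff {A B : Submodule F V} (hA : Nondeg Q A) (hB : Nondeg Q B)
    (horth : ∀ a ∈ A, ∀ b ∈ B, polar Q a b = 0) (hAe : Even (Module.finrank F A)) (hBe : Even (Module.finrank F B)) :
    Plus Q (A ⊔ B) ↔ (Plus Q A ↔ Plus Q B) := by
  have horth' : ∀ b ∈ B, ∀ a ∈ A, polar Q b a = 0 := fun b hb a ha => by
    rw [QuadraticMap.polar_comm]; exact horth a ha b hb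
  constructor
  · intro h
    exact ⟨fun ha => plus_cancel hB hA horth' (by rwa [sup_comm]) ha, fun hb => plus_cancel hA hB horth h hb⟩
  · intro h
    by_cases hp : Plus Q A
    · exact plus_sup hA horth hp (h.1 hp)
    · have hp' : ¬ Plus Q B := fun hb => hp (h.2 hb)
      rcases le_total (Module.finrank F B) (Module.finrank F A) with hc | hc
      · exact plus_of_minus_minus_aux _ hA hB horth hAe hBe hc hp hp' le_rfl
      · rw [sup_comm]
        exact plus_of_minus_minus_aux _ hB hA horth' hBe hAe hc hp' hp le_rfl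

theorem isNondegenerateOn_iff {ι : Type} {G : Type u} [Field G] [Fintype ι] {R : QuadraticForm G (ι → G)}
    {W : Submodule G (ι → G)} : Cfsg.Geo.IsNondegenerateOn (polar R) W ↔ Nondeg R W := by
  constructor
  · intro h x hx hall
    by_contra hx0
    obtain ⟨-, y, hy, hxy⟩ := h x hx hx0
    exact hxy (hall y hy)
  · intro h w hw hw0
    have h' : ∃ x ∈ W, polar R w x ≠ 0 := by
      by_contra! hc
      exact hw0 (h w hw hc)
    obtain ⟨x, hx, hxw⟩ := h'
    exact ⟨⟨x, hx, by rwa [QuadraticMap.polar_comm]⟩, x, hx, hxw⟩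

end CfsgLib.Geo.Elusive
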