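/-
Isometries of odd prime order without fixed vectors: invariant nondegenerate subspaces and their types.
-/
import Cfsg.Agent.Lib.Geo.Elusive.OrthTypes
import Cfsg.Agent.Lib.Geo.PrimeOrderAction
import Cfsg.Agent.Lib.Classical.ClassTheory.OrthModels

set_option autoImplicit false
set_option maxHeartbeats 800000
set_option linter.unusedSectionVars false
set_option linter.style.haveILetI false

namespace CfsgLib.Geo.Elusive

open CfsgLib.Classical CfsgLib.Classical.Quad CfsgLib.Geo.OrthMax CfsgLib.Geo.PrimeAct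
open QuadraticMap (polar polarBilin)
open Module Polynomial

universe u

/-- The dimension step of the free part. -/
def cstep (i : ℕ) : ℕ := if Even i then i else 2 * i

variable {F : Type u} [Field F] [Finite F] {r : ℕ} [Fact r.Prime]
variable {V : Type u} [AddCommGroup V] [Module F V] [FiniteDimensional F V] {Q : QuadraticForm F V}

local notation "ordq" => orderOf (Nat.card F : ZMod r)

theorem polar_iso {g : Module.End F V} (hg : ∀ v, Q (g v) = Q v) (x y : V) : polar Q (g x) (g y) = polar Q x y := by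
  simp only [polar, ← map_add, hg]

theorem polar_iso_pow {g : Module.End F V} (hg : ∀ v, Q (g v) = Q v) (k : ℕ) (x y : V) :
    polar Q ((g ^ k) x) ((g ^ k) y) = polar Q x y := by
  induction k with
  | zero => rfl
  | succ k ih => rw [pow_succ', Module.End.mul_apply, Module.End.mul_apply, polar_iso hg, ih]

theorem inf_perp_invariant {g : Module.End F V} (hr : g ^ r = 1) (hg : ∀ v, Q (g v) = Q v) {U : Submodule F V}
    (hU : ∀ v ∈ U, g v ∈ U) : ∀ v ∈ OrthMax.perp Q U, g v ∈ OrthMax.perp Q U := fun v hv => mem_perp.2 fun w hw => by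
  have hr0 : r - 1 + 1 = r := Nat.sub_add_cancel (Fact.out : r.Prime).one_le
  have hmem : ∀ k, (g ^ k) w ∈ U := fun k => by
    induction k with
    | zero => exact hw
    | succ k ih => rw [pow_succ', Module.End.mul_apply]; exact hU _ ih
  have hw' : w = g ((g ^ (r - 1)) w) := by rw [← Module.End.mul_apply, ← pow_succ', hr0, hr]; rfl
  rw [hw', polar_iso hg]
  exact mem_perp.1 hv _ (hmem _)

/-- Invariant subspaces of a free map have dimension divisible by the order of `q`. -/
theorem dvd_finrank_of_free {g : Module.End F V} (hr : g ^ r = 1) (hfree : ∀ v, g v = v → v = 0)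
    (U : Submodule F V) (hU : ∀ v ∈ U, g v ∈ U) : ordq ∣ finrank F U :=
  orderOf_dvd_finrank (g.restrict hU) (restrict_pow_eq_one g hr hU)
    fun w hw => Subtype.ext (hfree w.1 (congrArg Subtype.val hw))

theorem singular_of_isotropic {g : Module.End F V} (hr : g ^ r = 1) (hg : ∀ v, Q (g v) = Q v)
    (hfree : ∀ v, g v = v → v = 0) {U : Submodule F V} (hU : ∀ v ∈ U, g v ∈ U)
    (h : U ≤ OrthMax.perp Q U) : ∀ u ∈ U, Q u = 0 := by
  intro u hu
  have hadd : ∀ x ∈ U, ∀ y ∈ U, Q (x + y) = Q x + Q y := fun x hx y hy => by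
    rw [apply_add, mem_perp.1 (h hy) x hx, add_zero]
  have hinj : Function.Injective ((g - 1).restrict (p := U) (q := U) fun w hw => U.sub_mem (hU w hw) hw) := by
    rw [injective_iff_map_eq_zero]
    intro a ha
    exact Subtype.ext (hfree _ (sub_eq_zero.1 (congrArg Subtype.val ha)))
  obtain ⟨w, hw⟩ := LinearMap.injective_iff_surjective.1 hinj ⟨u, hu⟩
  have hw' : g (w : V) - (w : V) = u := congrArg Subtype.val hw
  have h1 : Q (g (w : V)) = Q u + Q (w : V) := by
    rw [← hadd u hu w w.2, ← hw', sub_add_cancel]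
  rw [hg] at h1
  exact (left_eq_add.1 (by rw [add_comm] at h1; exact h1))

/-- A minimal invariant subspace is nondegenerate or totally singular. -/
theorem nondeg_or_singular {g : Module.End F V} (hr : g ^ r = 1) (hg : ∀ v, Q (g v) = Q v)
    (hfree : ∀ v, g v = v → v = 0) {U : Submodule F V} (hU : ∀ v ∈ U, g v ∈ U) (hd : finrank F U = ordq) :
    Nondeg Q U ∨ ((∀ u ∈ U, Q u = 0) ∧ U ≤ OrthMax.perp Q U) := by
  rcases eq_or_ne (U ⊓ OrthMax.perp Q U) ⊥ with h | h
  · refine Or.inl fun x hx hall => ?_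
    have : x ∈ U ⊓ OrthMax.perp Q U := ⟨hx, mem_perp.2 fun w hw => by
      rw [QuadraticMap.polar_comm]; exact hall w hw⟩
    rwa [h, Submodule.mem_bot] at this
  · refine Or.inr ?_
    have hinv : ∀ v ∈ U ⊓ OrthMax.perp Q U, g v ∈ U ⊓ OrthMax.perp Q U :=
      fun v hv => ⟨hU v hv.1, inf_perp_invariant hr hg hU v hv.2⟩
    have hdvd := dvd_finrank_of_free hr hfree _ hinv
    have hpos : 0 < finrank F ↥(U ⊓ OrthMax.perp Q U) :=
      Nat.pos_of_ne_zero fun h0 => h (Submodule.finrank_eq_zero.1 h0)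
    have heq : U ⊓ OrthMax.perp Q U = U := Submodule.eq_of_le_of_finrank_le inf_le_left
      (hd ▸ Nat.le_of_dvd hpos hdvd)
    have hle : U ≤ OrthMax.perp Q U := heq.symm.le.trans inf_le_right
    exact ⟨singular_of_isotropic hr hg hfree hU hle, hle⟩

theorem card_zeros_odd_model [Fintype F] {W : Type u} [AddCommGroup W] [Module F W] {R : QuadraticForm F W} {m : ℕ}
    {c : F} (hc : c ≠ 0) (e : (Unit ⊕ (Fin m ⊕ Fin m) → F) ≃ₗ[F] W)
    (he : ∀ v, R (e v) = c * v (.inl ()) ^ 2 + Cfsg.quadFormPlus m F (v ∘ Sum.inr)) :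
    Nat.card {v : W // R v = 0} = Fintype.card F ^ (2 * m) := by
  let d : (Unit ⊕ (Fin m ⊕ Fin m) → F) ≃ₗ[F] (Unit ⊕ (Fin m ⊕ Fin m) → F) :=
    LinearEquiv.piCongrRight fun j => match j with
      | .inr (.inl _) => LinearEquiv.smulOfUnit (Units.mk0 c hc)
      | _ => LinearEquiv.refl F F
  rw [← card_zero_odd (F := F) rfl m]
  refine (Nat.card_congr ((d.trans e).toEquiv.subtypeEquiv fun v => ?_)).symm
  show _ ↔ R (e (d v)) = 0
  rw [he]
  have h1 : c * d v (.inl ()) ^ 2 + Cfsg.quadFormPlus m F (d v ∘ Sum.inr) = c * Cfsg.quadFormOdd m F v := by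
    simp only [Cfsg.quadFormOdd, Cfsg.quadFormPlus, d, LinearEquiv.piCongrRight_apply, Function.comp_apply,
      mul_add, Finset.mul_sum]
    congr 1
    refine Finset.sum_congr rfl fun j _ => ?_
    show c * v _ * v _ = c * (v _ * v _)
    ring
  rw [h1, mul_eq_zero, or_iff_right hc]

theorem sq_of_scalar {g : Module.End F V} (hg : ∀ v, Q (g v) = Q v) {u : V} (hu : Q u ≠ 0) {lam : F}
    (h : g u = lam • u) : lam * lam = 1 := by
  have h1 := hg u
  rw [h, apply_smul] at h1
  exact mul_right_cancel₀ hu (h1.trans (one_mul _).symm)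

variable (hr2 : r ≠ 2)
include hr2

/-- A nondegenerate space of dimension `ord q` with a free isometry: even dimension and not plus type. -/
theorem minimal_nondeg (hQ : (polarBilin Q).Nondegenerate) {g : Module.End F V} (hr : g ^ r = 1)
    (hg : ∀ v, Q (g v) = Q v) (hfree : ∀ v, g v = v → v = 0) (hd : finrank F V = ordq) (h0 : 0 < finrank F V) :
    Even ordq ∧ ¬ Plus Q (⊤ : Submodule F V) := by
  haveI := Fintype.ofFinite F
  haveI : Finite V := Module.finite_of_finite F
  have hrp : r.Prime := Fact.out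
  have hq : (Nat.card F : ZMod r) ^ ordq = 1 := pow_orderOf_eq_one _
  have hmod : Nat.card {v : V // Q v = 0} ≡ 1 [MOD r] := ClassTheory.card_zero_modEq g hg hrp hr hfree
  rw [← ZMod.natCast_eq_natCast_iff, Nat.cast_one] at hmod
  have hev : Even ordq := by
    by_contra hodd
    obtain ⟨m, hm⟩ := Nat.not_even_iff_odd.1 hodd
    obtain ⟨c, e, hc, he⟩ := CfsgLib.Known.QuadClassify.classify_odd (hd.trans hm) Q hQ
    rw [card_zeros_odd_model hc e he, Nat.cast_pow, ← Nat.card_eq_fintype_card] at hmod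
    have hdvd : ordq ∣ 2 * m := orderOf_dvd_of_pow_eq_one hmod
    have hm0 : m = 0 := by
      by_contra hne
      have h1 := Nat.le_of_dvd (by omega) hdvd
      omega
    have h1 : finrank F V = 1 := by omega
    haveI : Nontrivial V := Module.nontrivial_of_finrank_pos (R := F) h0
    obtain ⟨u, hu⟩ := exists_apply_ne_zero hQ
    have hu0 : u ≠ 0 := fun h => hu (by rw [h, QuadraticMap.map_zero])
    obtain ⟨lam, hlam⟩ := (finrank_eq_one_iff_of_nonzero' u hu0).1 h1 (g u)
    have hsq := sq_of_scalar hg hu hlam.symm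
    have hpow : ∀ k, (g ^ k) u = lam ^ k • u := fun k => by
      induction k with
      | zero => simp
      | succ k ih => rw [pow_succ', Module.End.mul_apply, ih, map_smul, ← hlam, smul_smul, pow_succ]
    have hlr : lam ^ r = 1 := by
      have h2 := hpow r
      rw [hr, Module.End.one_apply] at h2
      exact smul_left_injective F hu0 (h2.symm.trans (one_smul F u).symm)
    obtain ⟨k, hk⟩ := hrp.odd_of_ne_two hr2
    rw [hk, pow_succ, pow_mul, pow_two, hsq, one_pow, one_mul] at hlr
    exact hu0 (hfree u (by rw [← hlam, hlr, one_smul]))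
  refine ⟨hev, fun hp => ?_⟩
  obtain ⟨b, hb⟩ := hev
  have hb2 : finrank F V = 2 * b := by omega
  rcases CfsgLib.Known.QuadClassify.classify_even hb2 Q hQ with ⟨e, he⟩ | ⟨-, ζ, e, hζ, he⟩
  swap
  · exact not_plus_of_model (CfsgLib.Known.QuadClassify.aniso_of_no_root hζ)
      (e.trans (Submodule.topEquiv (R := F) (M := V)).symm) (fun v => he v) hp
  have hZ := CfsgLib.Known.QuadClassify.card_zeros_plus (F := F) b
  rw [Nat.card_congr (e.toEquiv.subtypeEquiv (q := fun v => Q v = 0) fun v => by rw [← he]; rfl)] at hZ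
  have h2 := congrArg (fun z : ℕ => (z : ZMod r)) hZ
  simp only [Nat.cast_mul, Nat.cast_add, Nat.cast_pow, hmod, ← Nat.card_eq_fintype_card, mul_one] at h2
  set q : ZMod r := (Nat.card F : ZMod r)
  haveI : Fact (2 < r) := ⟨lt_of_le_of_ne hrp.two_le (Ne.symm hr2)⟩
  have hne : (-1 : ZMod r) ≠ 1 := ZMod.neg_one_ne_one
  have hqb : q ^ b = -1 := by
    have h1 : q ^ b * q ^ b = 1 := by rw [← pow_add, ← hb]; exact hq
    exact (mul_self_eq_one_iff.1 h1).resolve_left (pow_ne_one_of_lt_orderOf (by omega) (by omega))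
  rw [two_mul, pow_add, pow_succ, hqb] at h2
  have h3 : (q - 1) * 2 = 0 := by linear_combination h2
  rcases mul_eq_zero.1 h3 with h4 | h4
  · exact hne (by rw [← hqb, sub_eq_zero.1 h4, one_pow])
  · exact hne (by linear_combination -h4)

end CfsgLib.Geo.Elusive
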