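/-
Decomposition of a free isometry of odd prime order into invariant nondegenerate blocks.
-/
import Cfsg.Agent.Lib.Geo.Elusive.FreePart

set_option autoImplicit false
set_option maxHeartbeats 800000
set_option linter.unusedSectionVars false
set_option linter.style.haveILetI false

namespace CfsgLib.Geo.Elusive

open CfsgLib.Classical CfsgLib.Classical.Quad CfsgLib.Geo.OrthMax CfsgLib.Geo.PrimeAct
open QuadraticMap (polar polarBilin)
open Module Polynomial

universe u

variable {F : Type u} [Field F] [Finite F] {r : ℕ} [Fact r.Prime]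
variable {V : Type u} [AddCommGroup V] [Module F V] [FiniteDimensional F V] {Q : QuadraticForm F V}

local notation "ordq" => orderOf (Nat.card F : ZMod r)

theorem nondeg_map {W : Submodule F V} {U : Submodule F W} (h : Nondeg (Q.comp W.subtype) U) :
    Nondeg Q (U.map W.subtype) := by
  rintro _ ⟨x, hx, rfl⟩ hall
  rw [h x hx fun y hy => (polar_comp W x y).trans (hall _ ⟨y, hy, rfl⟩), map_zero]

theorem nondeg_comap {W U : Submodule F V} (hUW : U ≤ W) (h : Nondeg Q U) :
    Nondeg (Q.comp W.subtype) (U.comap W.subtype) := fun x hx hall =>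
  Subtype.ext (h x hx fun y hy => (polar_comp W x ⟨y, hUW hy⟩).symm.trans (hall ⟨y, hUW hy⟩ hy))

theorem plus_map {W : Submodule F V} {U : Submodule F W} (h : Plus (Q.comp W.subtype) U) : Plus Q (U.map W.subtype) := by
  obtain ⟨S, hSU, hS, hd⟩ := h
  refine ⟨S.map W.subtype, Submodule.map_mono hSU, ?_, ?_⟩
  · rintro _ ⟨x, hx, rfl⟩; exact hS x hx
  · rw [Submodule.finrank_map_subtype_eq, Submodule.finrank_map_subtype_eq, hd]

theorem plus_comap {W U : Submodule F V} (hUW : U ≤ W) (h : Plus Q U) :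
    Plus (Q.comp W.subtype) (U.comap W.subtype) := by
  obtain ⟨S, hSU, hS, hd⟩ := h
  refine ⟨S.comap W.subtype, Submodule.comap_mono hSU, fun x hx => hS _ hx, ?_⟩
  rw [(Submodule.comapSubtypeEquivOfLe (hSU.trans hUW)).finrank_eq, (Submodule.comapSubtypeEquivOfLe hUW).finrank_eq,
    hd]

theorem plus_map_iff {W : Submodule F V} {U : Submodule F W} : Plus Q (U.map W.subtype) ↔ Plus (Q.comp W.subtype) U := by
  refine ⟨fun h => ?_, plus_map⟩
  have h2 := plus_comap (Submodule.map_subtype_le W U) h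
  rwa [Submodule.comap_map_eq_of_injective W.injective_subtype] at h2

variable (hr2 : r ≠ 2) (hrF : (r : F) ≠ 0)
include hr2

/-- A nondegenerate minimal invariant subspace has even dimension and is not of plus type. -/
theorem minimal_nondeg_sub {g : Module.End F V} (hr : g ^ r = 1) (hg : ∀ v, Q (g v) = Q v)
    (hfree : ∀ v, g v = v → v = 0) {U : Submodule F V} (hU : ∀ v ∈ U, g v ∈ U) (hUn : Nondeg Q U)
    (hd : finrank F U = ordq) (h0 : 0 < ordq) : Even ordq ∧ ¬ Plus Q U := by
  have h := minimal_nondeg (r := r) hr2 (Q := Q.comp U.subtype) hUn.comp (g := g.restrict hU)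
    (restrict_pow_eq_one g hr hU) (fun v => hg v) (fun v hv => Subtype.ext (hfree _ (congrArg Subtype.val hv))) hd
    (hd ▸ h0)
  refine ⟨h.1, fun hp => h.2 ?_⟩
  have h2 := plus_comap le_rfl hp
  rwa [Submodule.comap_subtype_self] at h2

include hrF

theorem expand_pow_card [Fintype F] (f : F[X]) (k : ℕ) :
    expand F (Fintype.card F ^ k) f = f ^ (Fintype.card F ^ k) := by
  induction k with
  | zero => simp
  | succ k ih => rw [pow_succ', ← expand_expand, ih, map_pow, FiniteField.expand_card, ← pow_mul]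

/-- A free isometry has an invariant nondegenerate block of the standard dimension. -/
theorem exists_block (hQ : (polarBilin Q).Nondegenerate) {g : Module.End F V} (hr : g ^ r = 1)
    (hg : ∀ v, Q (g v) = Q v) (hfree : ∀ v, g v = v → v = 0) (hV : 0 < finrank F V) :
    ∃ U : Submodule F V, (∀ v ∈ U, g v ∈ U) ∧ Nondeg Q U ∧ finrank F U = cstep ordq ∧
      (Plus Q U ↔ Odd ordq) := by
  haveI := Fintype.ofFinite F
  have hrp : r.Prime := Fact.out
  have hi0 : 0 < ordq := orderOf_pos_of_free g hr hfree hV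
  obtain ⟨U, hU, hUd⟩ := exists_invariant_order g hr hfree hV
  have ndCase : ∀ {S : Submodule F V}, (∀ v ∈ S, g v ∈ S) → Nondeg Q S → finrank F S = ordq →
      ∃ U : Submodule F V, (∀ v ∈ U, g v ∈ U) ∧ Nondeg Q U ∧ finrank F U = cstep ordq ∧
        (Plus Q U ↔ Odd ordq) := fun {S} hS hSn hSd => by
    obtain ⟨hev, hnp⟩ := minimal_nondeg_sub hr2 hr hg hfree hS hSn hSd hi0
    exact ⟨S, hS, hSn, by rw [cstep, if_pos hev, hSd],
      iff_of_false hnp (Nat.not_odd_iff_even.2 hev)⟩
  rcases nondeg_or_singular hr hg hfree hU hUd with hn | ⟨hUs, hUp⟩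
  · exact ndCase hU hn hUd
  set i := ordq with hi
  -- an invariant complement of the orthogonal space
  have hss : g.IsSemisimple := Module.End.isSemisimple_of_squarefree_aeval_eq_zero
    (p := X ^ r - 1) ((X_pow_sub_one_separable_iff.2 hrF).squarefree) (by simp [hr])
  obtain ⟨N, hN, hcompl⟩ := Module.End.isSemisimple_iff.1 hss (OrthMax.perp Q U)
    ((Module.End.mem_invtSubmodule g).2 fun v hv => inf_perp_invariant hr hg hU v hv)
  replace hN : ∀ v ∈ N, g v ∈ N := fun v hv => (Module.End.mem_invtSubmodule g).1 hN hv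
  have hNd : finrank F N = i := by
    have h := Submodule.finrank_add_eq_of_isCompl hcompl
    rw [finrank_perp hQ, hUd] at h
    have := Submodule.finrank_le U
    omega
  have hsep : ∀ w ∈ N, (∀ u ∈ U, polar Q u w = 0) → w = 0 := fun w hw h =>
    Submodule.disjoint_def.1 hcompl.disjoint w (mem_perp.2 h) hw
  have hinf : U ⊓ N = ⊥ := le_bot_iff.1 ((inf_le_inf_right N hUp).trans hcompl.disjoint.le_bot)
  set X' := U ⊔ N with hX'
  have hXd : finrank F X' = 2 * i := by
    have h := Submodule.finrank_sup_add_finrank_inf_eq U N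
    rw [hinf, finrank_bot, hUd, hNd, ← hX'] at h
    omega
  have hXinv : ∀ v ∈ X', g v ∈ X' := fun v hv => by
    obtain ⟨a, ha, b, hb, rfl⟩ := Submodule.mem_sup.1 hv
    rw [map_add]
    exact Submodule.add_mem_sup (hU a ha) (hN b hb)
  have hpull : ∀ u, (∀ w ∈ N, polar Q u w = 0) → u ∈ U → u = 0 := fun u h hu => hQ.1 u fun z => by
    obtain ⟨a, ha, b, hb, rfl⟩ := Submodule.mem_sup.1 (hcompl.sup_eq_top.ge (Submodule.mem_top (x := z)))
    show polar Q u (a + b) = 0
    rw [polar_add_right', mem_perp.1 ha u hu, h b hb, add_zero]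
  have hXn : Nondeg Q X' := fun x hx hall => by
    obtain ⟨a, ha, b, hb, rfl⟩ := Submodule.mem_sup.1 hx
    have hb0 : b = 0 := hsep b hb fun u hu => by
      have h1 := hall u (Submodule.mem_sup_left hu)
      rw [QuadraticMap.polar_comm, polar_add_right', mem_perp.1 (hUp ha) u hu, zero_add] at h1
      exact h1
    subst hb0
    rw [add_zero] at hall ⊢
    exact hpull a (fun w hw => hall w (Submodule.mem_sup_right hw)) ha
  rcases Nat.even_or_odd i with hev | hodd
  swap
  · exact ⟨X', hXinv, hXn, by rw [cstep, if_neg (Nat.not_even_iff_odd.2 hodd), hXd],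
      iff_of_true ⟨U, le_sup_left, hUs, by rw [hUd, hXd]⟩ hodd⟩
  -- the annihilator of `U` kills `N`
  set f := (g.restrict hU).charpoly with hf
  have hfd : f.natDegree = i := by rw [hf, LinearMap.charpoly_natDegree, hUd]
  have hfm : f.Monic := LinearMap.charpoly_monic _
  have hfU : ∀ u ∈ U, aeval g f u = 0 := fun u hu => by
    have h0 := LinearMap.congr_fun (LinearMap.aeval_self_charpoly (g.restrict hU)) ⟨u, hu⟩
    rw [← hf, aeval_eq_sum_range, LinearMap.sum_apply] at h0
    have h1 := congrArg Subtype.val h0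
    simp only [AddSubmonoidClass.coe_finsetSum, LinearMap.smul_apply, Submodule.coe_smul, restrict_pow_apply,
      LinearMap.zero_apply, Submodule.coe_zero] at h1
    rw [aeval_eq_sum_range, LinearMap.sum_apply]
    simpa only [LinearMap.smul_apply] using h1
  obtain ⟨b, hb⟩ := hev
  set M := Fintype.card F ^ b with hM
  have hgM : g ^ (M + 1) = 1 := by
    haveI : Fact (2 < r) := ⟨lt_of_le_of_ne hrp.two_le (Ne.symm hr2)⟩
    have hqb : (Nat.card F : ZMod r) ^ b = -1 := by
      have h1 : (Nat.card F : ZMod r) ^ b * (Nat.card F : ZMod r) ^ b = 1 := by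
        rw [← pow_add, ← hb, hi]; exact pow_orderOf_eq_one _
      exact (mul_self_eq_one_iff.1 h1).resolve_left (pow_ne_one_of_lt_orderOf (by omega) (by omega))
    obtain ⟨k, hk⟩ : r ∣ M + 1 := by
      rw [← ZMod.natCast_eq_zero_iff, Nat.cast_add, hM, Nat.cast_pow, ← Nat.card_eq_fintype_card, hqb, Nat.cast_one,
        neg_add_cancel]
    rw [hk, pow_mul, hr, one_pow]
  have hfN : ∀ w ∈ N, aeval g f w = 0 := fun w hw => by
    refine hsep _ ?_ fun u hu => ?_
    · rw [aeval_eq_sum_range, LinearMap.sum_apply]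
      have key : ∀ j : ℕ, (g ^ j) w ∈ N := fun j => by
        induction j with
        | zero => exact hw
        | succ j ih => rw [pow_succ', Module.End.mul_apply]; exact hN _ ih
      exact N.sum_mem fun j _ => N.smul_mem _ (key j)
    have hswap : polar Q u (aeval g f w) = polar Q (aeval (g ^ M) f u) w := by
      rw [← QuadraticMap.polarBilin_apply_apply, ← QuadraticMap.polarBilin_apply_apply, aeval_eq_sum_range,
        aeval_eq_sum_range, LinearMap.sum_apply, LinearMap.sum_apply, map_sum, map_sum, LinearMap.sum_apply]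
      refine Finset.sum_congr rfl fun j _ => ?_
      rw [LinearMap.smul_apply, LinearMap.smul_apply, map_smul, map_smul, LinearMap.smul_apply]
      congr 1
      show polar Q u ((g ^ j) w) = polar Q (((g ^ M) ^ j) u) w
      rw [← polar_iso_pow hg j (((g ^ M) ^ j) u) w, ← Module.End.mul_apply, ← pow_mul, ← pow_add,
        show j + M * j = (M + 1) * j by ring, pow_mul, hgM, one_pow, Module.End.one_apply]
    rw [hswap, ← expand_aeval, expand_pow_card hr2 hrF, map_pow]
    obtain ⟨M', hM'⟩ : ∃ M', Fintype.card F ^ b = M' + 1 :=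
      ⟨_, (Nat.sub_add_cancel (Nat.one_le_pow _ _ Fintype.card_pos)).symm⟩
    rw [hM', pow_succ, Module.End.mul_apply, hfU u hu, map_zero, ← QuadraticMap.polarBilin_apply_apply, map_zero,
      LinearMap.zero_apply]
  have hfX : ∀ v ∈ X', aeval g f v = 0 := fun v hv => by
    obtain ⟨a, ha, c, hc, rfl⟩ := Submodule.mem_sup.1 hv
    rw [map_add, hfU a ha, hfN c hc, add_zero]
  obtain ⟨v, hv, hvg⟩ : ∃ v ∈ X', polar Q v (g v) ≠ 0 := by
    by_contra! hcon
    obtain ⟨u, hu, hu0⟩ : ∃ u ∈ U, u ≠ 0 := U.exists_mem_ne_zero_of_ne_bot fun h => by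
      rw [h, finrank_bot] at hUd; omega
    have h1 : u + g (g u) = 0 := hpull _ (fun w hw => by
      have h2 := hcon (g u + w) (Submodule.add_mem_sup (hU u hu) hw)
      rw [map_add, polar_add_left', polar_add_right', polar_add_right', hcon _ (Submodule.mem_sup_left (hU u hu)),
        hcon _ (Submodule.mem_sup_right hw), polar_iso hg] at h2
      rw [polar_add_left']
      rw [QuadraticMap.polar_comm (⇑Q) w] at h2
      linear_combination h2) (U.add_mem hu (hU _ (hU u hu)))
    have h4 : (g ^ 4) u = u := by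
      have hgg : g (g u) = -u := eq_neg_of_add_eq_zero_right h1
      rw [show (4 : ℕ) = 2 + 2 from rfl, pow_add, pow_two]
      simp only [Module.End.mul_apply]
      rw [hgg, map_neg, map_neg, hgg, neg_neg]
    have h4k : ∀ k, (g ^ (4 * k)) u = u := fun k => by
      induction k with
      | zero => rfl
      | succ k ih => rw [mul_add, pow_add, Module.End.mul_apply, mul_one, h4, ih]
    have hru : (g ^ r) u = u := by rw [hr]; rfl
    obtain ⟨k, hk⟩ := hrp.odd_of_ne_two hr2
    refine hu0 (hfree u ?_)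
    rcases Nat.even_or_odd k with ⟨l, hl⟩ | ⟨l, hl⟩
    · rw [show r = 1 + 4 * l by omega, pow_add, Module.End.mul_apply, h4k, pow_one] at hru
      exact hru
    · rw [show r = 3 + 4 * l by omega, pow_add, Module.End.mul_apply, h4k] at hru
      calc g u = g ((g ^ 3) u) := by rw [hru]
        _ = u := by rw [← Module.End.mul_apply, ← pow_succ', h4]
  let S : Submodule F V := Submodule.span F (Set.range fun j : Fin i => (g ^ (j : ℕ)) v)
  have hSle : finrank F S ≤ i :=
    (finrank_range_le_card (R := F) (fun j : Fin i => (g ^ (j : ℕ)) v)).trans_eq (Fintype.card_fin _)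
  have htop : (g ^ i) v ∈ S := by
    have h0 := hfX v hv
    rw [aeval_eq_sum_range, Finset.sum_range_succ, hfm.coeff_natDegree, one_smul, LinearMap.add_apply,
      add_eq_zero_iff_neg_eq, hfd] at h0
    rw [← h0, LinearMap.sum_apply]
    exact S.neg_mem (S.sum_mem fun j hj => by
      rw [LinearMap.smul_apply]
      exact S.smul_mem _ (Submodule.subset_span ⟨⟨j, Finset.mem_range.1 hj⟩, rfl⟩))
  have hSinv : ∀ w ∈ S, g w ∈ S := by
    show S ≤ S.comap g
    refine Submodule.span_le.2 ?_
    rintro _ ⟨j, rfl⟩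
    show g ((g ^ (j : ℕ)) v) ∈ S
    rw [← Module.End.mul_apply, ← pow_succ']
    rcases Nat.lt_or_ge ((j : ℕ) + 1) i with hj | hj
    · exact Submodule.subset_span ⟨⟨_, hj⟩, rfl⟩
    · rwa [show (j : ℕ) + 1 = i by omega]
  have hvS : v ∈ S := Submodule.subset_span ⟨⟨0, hi0⟩, by simp⟩
  have hv0 : v ≠ 0 := fun h => hvg (by
    rw [h, ← QuadraticMap.polarBilin_apply_apply, map_zero, LinearMap.zero_apply])
  have hSd : finrank F S = i := le_antisymm hSle (Nat.le_of_dvd
    (Module.finrank_pos_iff_exists_ne_zero.2 ⟨⟨v, hvS⟩, fun e => hv0 (congrArg Subtype.val e)⟩)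
    (dvd_finrank_of_free hr hfree S hSinv))
  rcases nondeg_or_singular hr hg hfree hSinv hSd with hn | ⟨-, hp⟩
  · exact ndCase hSinv hn hSd
  · exact absurd (mem_perp.1 (hp (hSinv v hvS)) v hvS) hvg

/-- The free part: dimensions and types of invariant nondegenerate subspaces. -/
theorem decomp_aux (n : ℕ) : ∀ {W : Submodule F V} {g : Module.End F V}, finrank F W = n → Nondeg Q W →
    (∀ v ∈ W, g v ∈ W) → g ^ r = 1 → (∀ v, Q (g v) = Q v) → (∀ v ∈ W, g v = v → v = 0) →
    ∃ A, n = cstep ordq * A ∧ (Plus Q W ↔ (Odd ordq ∨ Even A)) ∧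
      ∀ A', A' ≤ A → ∃ U, U ≤ W ∧ (∀ v ∈ U, g v ∈ U) ∧ Nondeg Q U ∧ finrank F U = cstep ordq * A' := by
  induction n using Nat.strong_induction_on with
  | h n ih =>
    intro W g hWd hW hinv hr hg hfree
    rcases Nat.eq_zero_or_pos n with rfl | hn
    · obtain rfl := Submodule.finrank_eq_zero.1 hWd
      refine ⟨0, by simp, iff_of_true plus_bot (Or.inr ⟨0, rfl⟩), fun A' hA' => ⟨⊥, le_rfl, hinv, hW, ?_⟩⟩
      rw [Nat.le_zero.1 hA', finrank_bot, mul_zero]
    have hfree' : ∀ v, g.restrict hinv v = v → v = 0 := fun v hv =>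
      Subtype.ext (hfree v v.2 (congrArg Subtype.val hv))
    have hr' : (g.restrict hinv) ^ r = 1 := restrict_pow_eq_one g hr hinv
    obtain ⟨U₁, hU₁i, hU₁n, hU₁d, hU₁p⟩ := exists_block hr2 hrF hW.comp hr' (fun v => hg v) hfree' (hWd ▸ hn)
    set U := U₁.map W.subtype with hUdef
    have hUi : ∀ v ∈ U, g v ∈ U := by
      rintro _ ⟨x, hx, rfl⟩
      exact ⟨_, hU₁i x hx, rfl⟩
    have hUn : Nondeg Q U := nondeg_map hU₁n
    have hUd : finrank F U = cstep ordq := by rw [hUdef, Submodule.finrank_map_subtype_eq, hU₁d]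
    have hUp : Plus Q U ↔ Odd ordq := plus_map_iff.trans hU₁p
    obtain ⟨hW', hsup, hd⟩ := nondeg_inf_perp hUn hW (Submodule.map_subtype_le W U₁)
    set W' := W ⊓ OrthMax.perp Q U with hW'def
    have hW'i : ∀ v ∈ W', g v ∈ W' := fun v hv => ⟨hinv v hv.1, inf_perp_invariant hr hg hUi v hv.2⟩
    have hi0 : 0 < ordq := orderOf_pos_of_free (g.restrict hinv) hr' hfree' (hWd ▸ hn)
    have hc0 : 0 < cstep ordq := by unfold cstep; split <;> omega
    obtain ⟨A, hA, hAp, hsub⟩ := ih (finrank F W') (by omega) rfl hW' hW'i hr hg fun v hv => hfree v hv.1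
    have horth : ∀ a ∈ U, ∀ b ∈ W', polar Q a b = 0 := fun a ha b hb => mem_perp.1 hb.2 a ha
    have hce : Even (cstep ordq) := by
      unfold cstep
      split
      · assumption
      · exact even_two_mul _
    refine ⟨A + 1, by rw [mul_add, mul_one]; omega, ?_, fun A' hA' => ?_⟩
    · rw [← hsup, plus_sup_iff hUn hW' horth (hUd ▸ hce) (hA ▸ hce.mul_right A), hUp, hAp]
      by_cases ho : Odd ordq
      · simp [ho]
      · simp [ho, Nat.even_add_one]
    · rcases Nat.eq_zero_or_pos A' with rfl | hpos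
      · exact ⟨⊥, bot_le, fun v hv => by rw [(Submodule.mem_bot F).1 hv, map_zero]; exact zero_mem _,
          fun x hx _ => (Submodule.mem_bot F).1 hx, by simp⟩
      obtain ⟨B, hBW, hBi, hBn, hBd⟩ := hsub (A' - 1) (by omega)
      refine ⟨U ⊔ B, sup_le (Submodule.map_subtype_le W U₁) (hBW.trans inf_le_left), fun v hv => ?_,
        nondeg_sup hUn hBn fun a ha b hb => horth a ha b (hBW hb), ?_⟩
      · obtain ⟨a, ha, b, hb, rfl⟩ := Submodule.mem_sup.1 hv
        rw [map_add]
        exact Submodule.add_mem_sup (hUi a ha) (hBi b hb)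
      · rw [finrank_sup_orth hUn fun a ha b hb => horth a ha b (hBW hb), hUd, hBd]
        conv_rhs => rw [show A' = 1 + (A' - 1) by omega, mul_add, mul_one]

/-- The dimension and type of a nondegenerate invariant subspace without fixed vectors. -/
theorem free_type {W : Submodule F V} {g : Module.End F V} (hW : Nondeg Q W) (hinv : ∀ v ∈ W, g v ∈ W)
    (hr : g ^ r = 1) (hg : ∀ v, Q (g v) = Q v) (hfree : ∀ v ∈ W, g v = v → v = 0) :
    ∃ A, finrank F W = cstep ordq * A ∧ (Plus Q W ↔ (Odd ordq ∨ Even A)) :=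
  let ⟨A, h1, h2, _⟩ := decomp_aux hr2 hrF _ rfl hW hinv hr hg hfree
  ⟨A, h1, h2⟩

/-- Invariant nondegenerate subspaces of a free part. -/
theorem exists_free_sub {W : Submodule F V} {g : Module.End F V} (hW : Nondeg Q W) (hinv : ∀ v ∈ W, g v ∈ W)
    (hr : g ^ r = 1) (hg : ∀ v, Q (g v) = Q v) (hfree : ∀ v ∈ W, g v = v → v = 0) {A' : ℕ}
    (hA' : cstep ordq * A' ≤ finrank F W) :
    ∃ U, U ≤ W ∧ (∀ v ∈ U, g v ∈ U) ∧ Nondeg Q U ∧ finrank F U = cstep ordq * A' := by
  obtain ⟨A, h1, -, h3⟩ := decomp_aux hr2 hrF _ rfl hW hinv hr hg hfree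
  rcases Nat.eq_zero_or_pos (cstep ordq) with hc | hc
  · obtain ⟨U, hU⟩ := h3 0 (Nat.zero_le _)
    exact ⟨U, hU.1, hU.2.1, hU.2.2.1, by rw [hU.2.2.2, hc, zero_mul, zero_mul]⟩
  · exact h3 A' (Nat.le_of_mul_le_mul_left (h1 ▸ hA') hc)

end CfsgLib.Geo.Elusive
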