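/-
Isometries of odd prime order and invariant nondegenerate subspaces of a given isometry class.
-/
import Cfsg.Agent.Lib.Geo.Elusive.FreeBlocks
import Cfsg.Agent.Lib.Geo.PrimeOrderConstruct
import Cfsg.Agent.Lib.Geo.ElusiveNonsingularEven

set_option autoImplicit false
set_option maxHeartbeats 800000
set_option linter.unusedSectionVars false
set_option linter.style.haveILetI false

namespace CfsgLib.Geo.Elusive

open CfsgLib.Classical CfsgLib.Classical.Quad CfsgLib.Geo.OrthMax CfsgLib.Geo.PrimeAct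
open QuadraticMap (polar polarBilin)
open Module

universe u

variable {F : Type u} [Field F] [Finite F] {r : ℕ} [Fact r.Prime]
variable {V : Type u} [AddCommGroup V] [Module F V] [FiniteDimensional F V] {Q : QuadraticForm F V}

/-- The type of a sum of `A` blocks. -/
def Sgn (i A : ℕ) : Prop := Odd i ∨ Even A

/-- Elements with `A` free blocks exist. -/
def Adm (c i n : ℕ) (T : Prop) (A : ℕ) : Prop := c * A ≤ n ∧ (c * A = n → (T ↔ Sgn i A))

/-- An element with `A` free blocks fixes a subspace of the given type. -/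
def Good (c i n m : ℕ) (T P₀ : Prop) (A : ℕ) : Prop :=
  ∃ A', A' ≤ A ∧ c * A' ≤ m ∧ m + c * A ≤ n + c * A' ∧
    ((c * A' < m ∧ m + c * A < n + c * A') ∨ (Even m ∧ c * A' = m ∧ (P₀ ↔ Sgn i A')) ∨
      (Even m ∧ m + c * A = n + c * A' ∧ (P₀ ↔ (Sgn i A' ↔ (Sgn i A ↔ T)))))

theorem cstep_even (i : ℕ) : Even (cstep i) := by
  unfold cstep
  split
  · assumption
  · exact even_two_mul _

theorem nondeg_top (hQ : (polarBilin Q).Nondegenerate) : Nondeg Q (⊤ : Submodule F V) := fun x _ h =>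
  hQ.1 x fun y => h y Submodule.mem_top

theorem nondeg_of_orth_sup_top {A B : Submodule F V} (hQ : (polarBilin Q).Nondegenerate) (h : A ⊔ B = ⊤)
    (horth : ∀ a ∈ A, ∀ b ∈ B, polar Q a b = 0) : Nondeg Q A := fun x hx hall => hQ.1 x fun z => by
  obtain ⟨a, ha, b, hb, rfl⟩ := Submodule.mem_sup.1 (h.ge (Submodule.mem_top (x := z)))
  show polar Q x (a + b) = 0
  rw [polar_add_right', hall a ha, horth x hx b hb, add_zero]

theorem ord_pos (hrF : (r : F) ≠ 0) : 0 < orderOf (Nat.card F : ZMod r) := by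
  haveI := Fintype.ofFinite F
  obtain ⟨p, hp⟩ := CharP.exists F
  obtain ⟨k, hpp, hk⟩ := FiniteField.card F p
  have h0 : (Nat.card F : ZMod r) ≠ 0 := fun h => by
    rw [Nat.card_eq_fintype_card, hk, ZMod.natCast_eq_zero_iff] at h
    exact hrF ((CharP.cast_eq_zero_iff F p r).2
      (((Nat.prime_dvd_prime_iff_eq Fact.out hpp).1 ((Fact.out : r.Prime).dvd_of_dvd_pow h)).symm ▸ dvd_rfl))
  refine orderOf_pos_iff.2 (isOfFinOrder_iff_pow_eq_one.2 ⟨r - 1, ?_, ZMod.pow_card_sub_one_eq_one h0⟩)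
  have := (Fact.out : r.Prime).two_le
  omega

theorem cstep_pos (hrF : (r : F) ≠ 0) : 0 < cstep (orderOf (Nat.card F : ZMod r)) := by
  have := ord_pos (F := F) hrF
  unfold cstep
  split <;> omega

variable {g : Module.End F V}

theorem fix_sup_rest (hr : g ^ r = 1) (hrF : (r : F) ≠ 0) : fixSp g ⊔ restSp r g = ⊤ := by
  have h := finrank_split hr hrF ⊤ fun v _ => Submodule.mem_top
  rw [top_inf_eq, top_inf_eq, finrank_top] at h
  refine Submodule.eq_top_of_finrank_eq ?_
  have h2 := Submodule.finrank_sup_add_finrank_inf_eq (fixSp g) (restSp r g)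
  rw [disjoint_fix_rest hrF, finrank_bot] at h2
  omega

theorem polar_fix_rest (hg : ∀ v, Q (g v) = Q v) (hrF : (r : F) ≠ 0) :
    ∀ a ∈ fixSp g, ∀ b ∈ restSp r g, polar Q a b = 0 := by
  intro a ha b hb
  have h : polarBilin Q a (orbitSum r g b) = 0 := by rw [show orbitSum r g b = 0 from hb, map_zero]
  rw [orbitSum, LinearMap.sum_apply, map_sum] at h
  have h1 : ∀ j ∈ Finset.range r, polarBilin Q a ((g ^ j) b) = polar Q a b := fun j _ => by
    show polar Q a ((g ^ j) b) = _
    conv_lhs => rw [← pow_apply_fixed (mem_fixSp.1 ha) j]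
    exact polar_iso_pow hg j a b
  rw [Finset.sum_congr rfl h1, Finset.sum_const, Finset.card_range, nsmul_eq_mul] at h
  exact (mul_eq_zero.1 h).resolve_left hrF

theorem nondeg_rest (hQ : (polarBilin Q).Nondegenerate) (hr : g ^ r = 1) (hg : ∀ v, Q (g v) = Q v)
    (hrF : (r : F) ≠ 0) : Nondeg Q (restSp r g) :=
  nondeg_of_orth_sup_top hQ (by rw [sup_comm]; exact fix_sup_rest hr hrF) fun a ha b hb => by
    rw [QuadraticMap.polar_comm]; exact polar_fix_rest hg hrF b hb a ha

theorem nondeg_fix (hQ : (polarBilin Q).Nondegenerate) (hr : g ^ r = 1) (hg : ∀ v, Q (g v) = Q v)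
    (hrF : (r : F) ≠ 0) : Nondeg Q (fixSp g) :=
  nondeg_of_orth_sup_top hQ (fix_sup_rest hr hrF) (polar_fix_rest hg hrF)

variable (hr2 : r ≠ 2) (hrF : (r : F) ≠ 0)
include hr2 hrF

local notation "ordq" => orderOf (Nat.card F : ZMod r)

/-- The number of free blocks of an element. -/
theorem exists_blocks (hQ : (polarBilin Q).Nondegenerate) (hr : g ^ r = 1) (hg : ∀ v, Q (g v) = Q v) :
    ∃ A, finrank F (restSp r g) = cstep ordq * A ∧ finrank F (fixSp g) + cstep ordq * A = finrank F V ∧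
      (Plus Q (restSp r g) ↔ Sgn ordq A) ∧
      (Even (finrank F V) → (Plus Q (fixSp g) ↔ (Sgn ordq A ↔ Plus Q (⊤ : Submodule F V)))) := by
  have hR := nondeg_rest hQ hr hg hrF
  obtain ⟨A, h1, h2⟩ := free_type hr2 hrF hR (restSp_invariant hr) hr hg fun v hv h => free_of_le_rest hrF hv h
  have hsum : finrank F (fixSp g) + cstep ordq * A = finrank F V := by
    rw [← h1, ← finrank_sup_orth (nondeg_fix hQ hr hg hrF) (polar_fix_rest hg hrF), fix_sup_rest hr hrF, finrank_top]
  refine ⟨A, h1, hsum, h2, fun hev => ?_⟩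
  have hce : Even (cstep ordq * A) := (cstep_even _).mul_right A
  have hfe : Even (finrank F (fixSp g)) := by
    rw [← hsum, Nat.even_add] at hev
    exact hev.2 hce
  have h3 := plus_sup_iff (nondeg_fix hQ hr hg hrF) hR (polar_fix_rest hg hrF) hfe (h1 ▸ hce)
  rw [fix_sup_rest hr hrF, h2] at h3
  unfold Sgn
  tauto

variable {W₀ : Submodule F V}

/-- A good element fixes a subspace of the class. -/
theorem exists_invariant_iso (hQ : (polarBilin Q).Nondegenerate) (hW₀ : Nondeg Q W₀)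
    (hpar : Even (finrank F W₀) → Even (finrank F V) ∨ finrank F W₀ < finrank F V) (hr : g ^ r = 1)
    (hg : ∀ v, Q (g v) = Q v) {A : ℕ} (hA : finrank F (restSp r g) = cstep ordq * A)
    (h : Good (cstep ordq) ordq (finrank F V) (finrank F W₀) (Plus Q (⊤ : Submodule F V)) (Plus Q W₀) A) :
    ∃ W : Submodule F V, (∀ v ∈ W, g v ∈ W) ∧ Iso Q W W₀ := by
  obtain ⟨A₁, hA₁, hsum, hRp, hCp⟩ := exists_blocks hr2 hrF hQ hr hg
  obtain ⟨A', hA', hle, hle', hcases⟩ := h
  have hfree : ∀ v ∈ restSp r g, g v = v → v = 0 := fun v hv h => free_of_le_rest hrF hv h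
  have hR := nondeg_rest hQ hr hg hrF
  have hC := nondeg_fix hQ hr hg hrF
  obtain ⟨U, hUR, hUi, hUn, hUd⟩ := exists_free_sub hr2 hrF hR (restSp_invariant hr) hr hg hfree (A' := A')
    (hA ▸ Nat.mul_le_mul_left _ hA')
  have horth : ∀ a ∈ U, ∀ b ∈ fixSp g, polar Q a b = 0 := fun a ha b hb => by
    rw [QuadraticMap.polar_comm]; exact polar_fix_rest hg hrF b hb a (hUR ha)
  obtain ⟨A₂, hA₂, hUp⟩ := free_type hr2 hrF hUn hUi hr hg fun v hv h => hfree v (hUR hv) h
  have hA₂' : cstep ordq * A' = cstep ordq * A₂ := hUd.symm.trans hA₂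
  have hUp' : Plus Q U ↔ Sgn ordq A' := by
    rw [hUp, Nat.eq_of_mul_eq_mul_left (cstep_pos hrF) hA₂']; rfl
  rcases hcases with ⟨h1, h2⟩ | ⟨hev, h1, hP⟩ | ⟨hev, h1, hP⟩
  · obtain ⟨W, hWC, hW⟩ := exists_completion hUn hC horth hW₀ (hUd ▸ h1) (by rw [hUd]; omega)
    refine ⟨U ⊔ W, fun v hv => ?_, hW⟩
    obtain ⟨a, ha, b, hb, rfl⟩ := Submodule.mem_sup.1 hv
    rw [map_add, mem_fixSp.1 (hWC hb)]
    exact Submodule.add_mem_sup (hUi a ha) hb
  · exact ⟨U, hUi, (iso_iff_plus hUn hW₀ (hUd.trans h1) hev).2 (hUp'.trans hP.symm)⟩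
  · have hve : Even (finrank F V) := by
      rcases hpar hev with h | h
      · exact h
      · have h3 : Even (finrank F V + cstep ordq * A') := h1 ▸ hev.add ((cstep_even _).mul_right A)
        exact (Nat.even_add.1 h3).2 ((cstep_even _).mul_right A')
    have hfd : cstep ordq * A' + finrank F (fixSp g) = finrank F W₀ := by omega
    have hfe : Even (finrank F (fixSp g)) := by
      rw [← hfd, Nat.even_add] at hev
      exact hev.1 ((cstep_even _).mul_right A')
    refine ⟨U ⊔ fixSp g, fun v hv => ?_, (iso_iff_plus (nondeg_sup hUn hC horth) hW₀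
      (by rw [finrank_sup_orth hUn horth, hUd, hfd]) hev).2 ?_⟩
    · obtain ⟨a, ha, b, hb, rfl⟩ := Submodule.mem_sup.1 hv
      rw [map_add, mem_fixSp.1 hb]
      exact Submodule.add_mem_sup (hUi a ha) hb
    · rw [plus_sup_iff hUn hC horth (hUd ▸ (cstep_even _).mul_right A') hfe, hUp', hCp hve, hP]
      have hAA : cstep ordq * A = cstep ordq * A₁ := hA.symm.trans hA₁
      rw [Nat.eq_of_mul_eq_mul_left (cstep_pos hrF) hAA]

/-- An element fixing a subspace of the class is good. -/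
theorem good_of_invariant (hQ : (polarBilin Q).Nondegenerate) (hW₀ : Nondeg Q W₀)
    (hlt : finrank F W₀ < finrank F V) (hpar : Even (finrank F W₀) ∨ Even (finrank F V))
    (hr : g ^ r = 1) (hg : ∀ v, Q (g v) = Q v) {A : ℕ} (hA : finrank F (restSp r g) = cstep ordq * A)
    {W : Submodule F V} (hinv : ∀ v ∈ W, g v ∈ W) (hiso : Iso Q W W₀) :
    Good (cstep ordq) ordq (finrank F V) (finrank F W₀) (Plus Q (⊤ : Submodule F V)) (Plus Q W₀) A := by
  obtain ⟨A₁, hA₁, hsum, hRp, hCp⟩ := exists_blocks hr2 hrF hQ hr hg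
  obtain rfl : A = A₁ := Nat.eq_of_mul_eq_mul_left (cstep_pos hrF) (hA.symm.trans hA₁)
  have hC := nondeg_fix hQ hr hg hrF
  have hW : Nondeg Q W := hiso.symm.nondeg hW₀
  have hWd := hiso.finrank_eq
  have hsplit := finrank_split hr hrF W hinv
  set WC := W ⊓ fixSp g with hWC
  set WR := W ⊓ restSp r g with hWR
  have horth : ∀ a ∈ WR, ∀ b ∈ WC, polar Q a b = 0 := fun a ha b hb => by
    rw [QuadraticMap.polar_comm]; exact polar_fix_rest hg hrF b hb.2 a ha.2
  have hinf : WR ⊓ WC = ⊥ := le_bot_iff.1 ((inf_le_inf inf_le_right inf_le_right).trans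
    (inf_comm (restSp r g) (fixSp g) ▸ disjoint_fix_rest hrF).le)
  have hsup : WR ⊔ WC = W := Submodule.eq_of_le_of_finrank_eq (sup_le inf_le_left inf_le_left) (by
    have h := Submodule.finrank_sup_add_finrank_inf_eq WR WC
    rw [hinf, finrank_bot] at h
    omega)
  have hWRn : Nondeg Q WR := fun x hx hall => hW x hx.1 fun y hy => by
    rw [← hsup] at hy
    obtain ⟨a, ha, b, hb, rfl⟩ := Submodule.mem_sup.1 hy
    rw [polar_add_right', hall a ha, horth x hx b hb, add_zero]
  have hWCn : Nondeg Q WC := fun x hx hall => hW x hx.1 fun y hy => by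
    rw [← hsup] at hy
    obtain ⟨a, ha, b, hb, rfl⟩ := Submodule.mem_sup.1 hy
    rw [polar_add_right', hall b hb, QuadraticMap.polar_comm, horth a ha x hx, add_zero]
  obtain ⟨A', hA', hUp⟩ := free_type hr2 hrF hWRn (fun v hv => ⟨hinv v hv.1, restSp_invariant hr v hv.2⟩) hr hg
    fun v hv h => free_of_le_rest hrF hv.2 h
  have hAA : A' ≤ A := Nat.le_of_mul_le_mul_left (hA' ▸ hA ▸ Submodule.finrank_mono inf_le_right) (cstep_pos hrF)
  have hfe : finrank F WC ≤ finrank F (fixSp g) := Submodule.finrank_mono inf_le_right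
  refine ⟨A', hAA, by omega, by omega, ?_⟩
  rcases Nat.eq_zero_or_pos (finrank F WC) with hf0 | hfpos
  · have hWU : W = WR := by rw [← hsup, Submodule.finrank_eq_zero.1 hf0, sup_bot_eq]
    have hd : cstep ordq * A' = finrank F W₀ := by omega
    have hev : Even (finrank F W₀) := hd ▸ (cstep_even _).mul_right A'
    refine Or.inr (Or.inl ⟨hev, hd, ?_⟩)
    rw [← (iso_iff_plus hW hW₀ hWd hev).1 hiso, hWU, hUp]
    rfl
  rcases eq_or_lt_of_le hfe with hfe' | hflt
  · have hCeq : WC = fixSp g := Submodule.eq_of_le_of_finrank_eq inf_le_right hfe'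
    have hd : finrank F W₀ + cstep ordq * A = finrank F V + cstep ordq * A' := by omega
    have hce : ∀ B, Even (cstep ordq * B) := fun B => (cstep_even _).mul_right B
    have h1 := hce A
    have h2 := hce A'
    have hev : Even (finrank F W₀) := by
      rcases hpar with h | h
      · exact h
      · have h3 : Even (finrank F W₀ + cstep ordq * A) := hd ▸ h.add h2
        exact (Nat.even_add.1 h3).2 h1
    have hve : Even (finrank F V) := by
      have h3 : Even (finrank F V + cstep ordq * A') := hd ▸ hev.add h1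
      exact (Nat.even_add.1 h3).2 h2
    have hCe : Even (finrank F (fixSp g)) := by
      rw [← hsum, Nat.even_add] at hve
      exact hve.2 h1
    refine Or.inr (Or.inr ⟨hev, hd, ?_⟩)
    rw [← (iso_iff_plus hW hW₀ hWd hev).1 hiso, ← hsup, plus_sup_iff hWRn hWCn horth (hA' ▸ h2) (hCeq ▸ hCe),
      hUp, hCeq, hCp hve]
    rfl
  · exact Or.inl ⟨by omega, by omega⟩

/-- Every admissible number of blocks occurs. -/
theorem exists_element (hQ : (polarBilin Q).Nondegenerate) {A : ℕ} (hA1 : 1 ≤ A)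
    (h : Adm (cstep ordq) ordq (finrank F V) (Plus Q (⊤ : Submodule F V)) A) :
    ∃ g : Module.End F V, g ^ r = 1 ∧ (∀ v, Q (g v) = Q v) ∧ finrank F (restSp r g) = cstep ordq * A ∧
      finrank F (fixSp g) + cstep ordq * A = finrank F V := by
  haveI := Fintype.ofFinite F
  have hrp : r.Prime := Fact.out
  obtain ⟨p, hchar⟩ := CharP.exists F
  obtain ⟨_, hpp, -⟩ := FiniteField.card F p
  haveI : Fact p.Prime := ⟨hpp⟩
  have hne : r ≠ p := fun e => hrF ((CharP.cast_eq_zero_iff F p r).2 (e ▸ dvd_rfl))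
  have hc := cstep_pos (F := F) hrF
  have hi := ord_pos (F := F) hrF
  obtain ⟨l, hl⟩ : Even (cstep ordq * A) := (cstep_even _).mul_right A
  have hl1 : 1 ≤ l := by
    have := Nat.mul_pos hc hA1
    omega
  haveI : Fact (2 < r) := ⟨lt_of_le_of_ne hrp.two_le (Ne.symm hr2)⟩
  have hone : (Fintype.card F : ZMod r) ^ ordq = 1 := by
    rw [← Nat.card_eq_fintype_card]; exact pow_orderOf_eq_one _
  have hsign : (Sgn ordq A → (Fintype.card F : ZMod r) ^ l = 1) ∧
      (¬ Sgn ordq A → (Fintype.card F : ZMod r) ^ l = -1) := by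
    rcases Nat.even_or_odd ordq with ⟨b, hb⟩ | hodd
    · have hcs : cstep ordq = ordq := if_pos ⟨b, hb⟩
      have hqb : (Fintype.card F : ZMod r) ^ b = -1 := by
        have h1 : (Fintype.card F : ZMod r) ^ b * (Fintype.card F : ZMod r) ^ b = 1 := by
          rw [← pow_add, ← hb, hone]
        refine (mul_self_eq_one_iff.1 h1).resolve_left ?_
        rw [← Nat.card_eq_fintype_card]
        exact pow_ne_one_of_lt_orderOf (by omega) (by omega)
      have hlb : l = b * A := by
        rw [hcs, hb, add_mul] at hl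
        omega
      rw [hlb, pow_mul, hqb]
      refine ⟨fun hs => ?_, fun hs => ?_⟩
      · rcases hs with hs | hs
        · exact absurd ⟨b, hb⟩ (Nat.not_even_iff_odd.2 hs)
        · exact hs.neg_one_pow
      · exact (Nat.not_even_iff_odd.1 fun he => hs (Or.inr he)).neg_one_pow
    · have hcs : cstep ordq = 2 * ordq := if_neg (Nat.not_even_iff_odd.2 hodd)
      refine ⟨fun _ => ?_, fun hs => absurd (Or.inl hodd) hs⟩
      have hlb : l = ordq * A := by
        rw [hcs, mul_assoc] at hl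
        omega
      rw [hlb, pow_mul, hone, one_pow]
  obtain ⟨U, hUn, hUd, hUp⟩ : ∃ U : Submodule F V, Nondeg Q U ∧ finrank F U = 2 * l ∧
      (Plus Q U ↔ Sgn ordq A) := by
    rcases eq_or_lt_of_le h.1 with he | hlt
    · exact ⟨⊤, nondeg_top hQ, by rw [finrank_top]; omega, h.2 he⟩
    by_cases hs : Sgn ordq A
    · obtain ⟨U, -, h1, h2, h3⟩ := exists_plus_sub (nondeg_top hQ) (k := l) (by rw [finrank_top]; omega)
      exact ⟨U, h1, h3, iff_of_true h2 hs⟩
    · obtain ⟨U, -, h1, h2, h3⟩ := exists_minus_sub (nondeg_top hQ) hl1 (by rw [finrank_top]; omega)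
      exact ⟨U, h1, h3, iff_of_false h2 hs⟩
  obtain ⟨g₀, hg₀, hg₀r, hg₀f⟩ : ∃ g₀ : Module.End F U, (∀ v, Q ((g₀ v : U) : V) = Q (v : V)) ∧ g₀ ^ r = 1 ∧
      ∀ v, g₀ v = v → v = 0 := by
    have mk : ∀ {M : Type u} [AddCommGroup M] [Module F M] (e : M ≃ₗ[F] U) (R : M → F),
        (∀ v, Q ((e v : U) : V) = R v) → (∃ k : Module.End F M, (∀ v, R (k v) = R v) ∧ k ^ r = 1 ∧
          ∀ v, k v = v → v = 0) → ∃ g₀ : Module.End F U, (∀ v, Q ((g₀ v : U) : V) = Q (v : V)) ∧ g₀ ^ r = 1 ∧
          ∀ v, g₀ v = v → v = 0 := by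
      intro M _ _ e R he ⟨k, hk, hkr, hkf⟩
      refine ⟨e.toLinearMap ∘ₗ k ∘ₗ e.symm.toLinearMap, fun v => ?_, ?_, fun v hv => ?_⟩
      · show Q ((e (k (e.symm v)) : U) : V) = _
        rw [he, hk, ← he, e.apply_symm_apply]
      · refine LinearMap.ext fun v => ?_
        obtain ⟨x, rfl⟩ := e.surjective v
        rw [conj_pow_apply, hkr]; rfl
      · have h1 : k (e.symm v) = e.symm v := e.injective (by rw [e.apply_symm_apply]; exact hv)
        rw [← e.apply_symm_apply v, hkf _ h1, map_zero]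
    rcases CfsgLib.Known.QuadClassify.classify_even hUd _ hUn.comp with ⟨e, he⟩ | ⟨hm, ζ, e, hζ, he⟩
    · obtain ⟨k, hk, hkr, hkf⟩ := ElusiveNonsingularEven.exists_plus_fpf (F := F) (p := p) hrp hr2 hne
        (d := l) (hsign.1 (hUp.1 (plus_of_model e he)))
      exact mk e _ he ⟨k, fun v => by rw [← coe_qPlus]; exact hk v, hkr, hkf⟩
    · obtain ⟨η, hη, k, hk, hkr, hkf⟩ := ElusiveNonsingularEven.exists_minus_fpf (F := F) (p := p) hrp hr2 hne
        (d := l) hl1 (hsign.2 fun hs => not_plus_of_model (CfsgLib.Known.QuadClassify.aniso_of_no_root hζ) e he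
          (hUp.2 hs))
      obtain ⟨w, hw⟩ := CfsgLib.Known.QuadClassify.minus_equiv (l - 1) hζ hη
      exact mk (w.trans e) _ (fun v => (he (w v)).trans (hw v))
        ⟨k, fun v => by rw [← coe_qMinus]; exact hk v, hkr, hkf⟩
  set e2 := Submodule.prodEquivOfIsCompl U (OrthMax.perp Q U) (hUn.isCompl hQ) with he2
  have he2a : ∀ z, e2 z = (z.1 : V) + (z.2 : V) := fun z => rfl
  have hQz : ∀ z, Q (e2 z) = Q (z.1 : V) + Q (z.2 : V) := fun z => by
    rw [he2a, apply_add, mem_perp.1 z.2.2 _ z.1.2, add_zero]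
  let G : Module.End F V := e2.toLinearMap ∘ₗ LinearMap.prodMap g₀ LinearMap.id ∘ₗ e2.symm.toLinearMap
  have hGa : ∀ z, G (e2 z) = e2 (g₀ z.1, z.2) := fun z => by
    show e2 (LinearMap.prodMap g₀ LinearMap.id (e2.symm (e2 z))) = _
    rw [e2.symm_apply_apply]; rfl
  have hGr : G ^ r = 1 := by
    refine LinearMap.ext fun v => ?_
    obtain ⟨z, rfl⟩ := e2.surjective v
    have hk : ∀ k : ℕ, (G ^ k) (e2 z) = e2 ((g₀ ^ k) z.1, z.2) := fun k => by
      induction k with
      | zero => rfl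
      | succ k ih => rw [pow_succ', Module.End.mul_apply, ih, hGa, pow_succ', Module.End.mul_apply]
    rw [hk, hg₀r]; rfl
  have hfix : fixSp G = OrthMax.perp Q U := by
    ext v
    obtain ⟨z, rfl⟩ := e2.surjective v
    rw [mem_fixSp, hGa, e2.injective.eq_iff]
    constructor
    · intro hz
      rw [he2a, hg₀f z.1 (congrArg Prod.fst hz), Submodule.coe_zero, zero_add]
      exact z.2.2
    · intro hz
      have h0 : z.1 = 0 := Subtype.ext ((Submodule.disjoint_def.1 (hUn.isCompl hQ).disjoint) _ z.1.2 (by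
        have := Submodule.sub_mem _ hz z.2.2
        rwa [he2a, add_sub_cancel_right] at this))
      exact Prod.ext (by rw [h0, map_zero]) rfl
  have hd : finrank F (fixSp G) + cstep ordq * A = finrank F V := by
    rw [hfix, finrank_perp hQ, hUd]
    have := h.1
    omega
  refine ⟨G, hGr, fun v => ?_, ?_, hd⟩
  · obtain ⟨z, rfl⟩ := e2.surjective v
    rw [hGa, hQz, hQz]
    show Q ((g₀ z.1 : U) : V) + _ = _
    rw [hg₀]
  · have h1 := finrank_split hGr hrF ⊤ fun v _ => Submodule.mem_top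
    rw [top_inf_eq, top_inf_eq, finrank_top] at h1
    omega

end CfsgLib.Geo.Elusive
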