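/-
A prime dividing the size of a class of subspaces, when elements of that order only fix members pointwise.
-/
import Cfsg.Agent.Lib.Geo.Elusive.OddPrime

set_option autoImplicit false
set_option maxHeartbeats 800000
set_option linter.unusedSectionVars false
set_option linter.style.haveILetI false

namespace CfsgLib.Geo.Elusive

open CfsgLib.Classical CfsgLib.Classical.Quad CfsgLib.Geo.OrthMax CfsgLib.Geo.PrimeAct
open QuadraticMap (polar polarBilin)
open Module

universe u

variable {F : Type u} [Field F] [Finite F]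
variable {V : Type u} [AddCommGroup V] [Module F V] [FiniteDimensional F V] {Q : QuadraticForm F V}

/-- The isometry class of a subspace has size dividing the order of the isometry group. -/
theorem card_class_dvd (hQ : (polarBilin Q).Nondegenerate) (W₁ : Submodule F V) :
    Nat.card {W : Submodule F V // Iso Q W W₁} ∣ Nat.card (OQ Q) := by
  classical
  haveI : Finite V := Module.finite_of_finite F
  haveI : Finite (V ≃ₗ[F] V) := Finite.of_injective (fun e : V ≃ₗ[F] V => (e : V → V)) DFunLike.coe_injective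
  letI : MulAction (OQ Q) (Submodule F V) :=
    { smul := fun g W => W.map ((g : V ≃ₗ[F] V) : V →ₗ[F] V)
      one_smul := fun W => Submodule.map_id W
      mul_smul := fun g h W => Submodule.map_comp ((h : V ≃ₗ[F] V) : V →ₗ[F] V) ((g : V ≃ₗ[F] V) : V →ₗ[F] V) W }
  have horb : MulAction.orbit (OQ Q) W₁ = {W : Submodule F V | Iso Q W W₁} := by
    ext W
    constructor
    · rintro ⟨g, rfl⟩
      exact Iso.symm ⟨(g : V ≃ₗ[F] V).submoduleMap W₁, fun w => OQ.map_apply g (w : V)⟩
    · intro hW
      obtain ⟨e, he⟩ := Iso.symm hW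
      obtain ⟨g, hg⟩ := Quad.witt hQ W₁ (W.subtype ∘ₗ e.toLinearMap) (W.injective_subtype.comp e.injective) he
      refine ⟨g, le_antisymm ?_ fun w hw => ?_⟩
      · rintro _ ⟨x, hx, rfl⟩
        show (g : V ≃ₗ[F] V) x ∈ W
        rw [hg ⟨x, hx⟩]
        exact (e ⟨x, hx⟩).2
      · refine ⟨(e.symm ⟨w, hw⟩ : V), (e.symm ⟨w, hw⟩).2, ?_⟩
        show (g : V ≃ₗ[F] V) _ = w
        rw [hg (e.symm ⟨w, hw⟩), LinearMap.comp_apply, LinearEquiv.coe_coe, e.apply_symm_apply]
        rfl
  have h := MulAction.index_stabilizer (OQ Q) W₁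
  rw [horb, ← Nat.card_coe_set_eq] at h
  exact h ▸ Subgroup.index_dvd_card _

theorem linearEquiv_pow_apply {W : Type*} [AddCommGroup W] [Module F W] (h : W ≃ₗ[F] W) (k : ℕ) (x : W) :
    (((h : W →ₗ[F] W) : Module.End F W) ^ k) x = (h ^ k) x := by
  induction k with
  | zero => rfl
  | succ k ih => rw [pow_succ', pow_succ', Module.End.mul_apply, ih]; rfl

variable {r : ℕ} [Fact r.Prime]

/-- No prime `r` divides the class size when all invariant members of all maps of order `r` are fixed pointwise. -/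
theorem not_dvd_of_fixed (hQ : (polarBilin Q).Nondegenerate) (hrF : (r : F) ≠ 0) (W₀ : Submodule F V)
    (hall : ∀ g : Module.End F V, g ^ r = 1 → (∀ v, Q (g v) = Q v) →
      ∃ W : Submodule F V, (∀ v ∈ W, g v ∈ W) ∧ Iso Q W W₀)
    (hfix : ∀ g : Module.End F V, g ^ r = 1 → (∀ v, Q (g v) = Q v) →
      ∀ W : Submodule F V, (∀ v ∈ W, g v ∈ W) → Iso Q W W₀ → W ≤ fixSp g) :
    ¬ r ∣ Nat.card {W : Submodule F V // Iso Q W W₀} := by
  classical
  haveI : Finite V := Module.finite_of_finite F
  have hrp : r.Prime := Fact.out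
  let S : Set ℕ := {k | ∃ g : Module.End F V, g ^ r = 1 ∧ (∀ v, Q (g v) = Q v) ∧ finrank F (fixSp g) = k}
  have hS : S.Nonempty := ⟨_, 1, one_pow r, fun v => rfl, rfl⟩
  obtain ⟨g, hgr, hg, hgmin⟩ : ∃ g : Module.End F V, g ^ r = 1 ∧ (∀ v, Q (g v) = Q v) ∧
      finrank F (fixSp g) = sInf S := Nat.sInf_mem hS
  intro hdvd
  have hC := nondeg_fix hQ hgr hg hrF
  set C := fixSp g with hCdef
  -- the fixed members
  haveI : Finite (Submodule F V) := Finite.of_injective _ SetLike.coe_injective
  haveI := Fintype.ofFinite {W : Submodule F V // Iso Q W W₀}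
  obtain ⟨W₁, hW₁i, hW₁⟩ := hall g hgr hg
  have hW₁C := hfix g hgr hg W₁ hW₁i hW₁
  have hmapiso : ∀ (W : Submodule F V), Iso Q W W₀ → Iso Q (W.map g) W₀ := fun W hW => by
    have hinj : Function.Injective g := Quad.injective_of_preserves hQ g hg
    exact Iso.trans (Iso.symm ⟨W.equivMapOfInjective g hinj, fun w => hg w⟩) hW
  let φ : Function.End {W : Submodule F V // Iso Q W W₀} := fun W => ⟨W.1.map g, hmapiso _ W.2⟩
  have hpow : ∀ (k : ℕ) (W : {W : Submodule F V // Iso Q W W₀}), ((φ ^ k) W).1 = W.1.map (g ^ k) := fun k => by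
    induction k with
    | zero => intro W; exact (Submodule.map_id _).symm
    | succ k ih =>
      intro W
      rw [pow_succ', pow_succ', Module.End.mul_eq_comp, Submodule.map_comp, ← ih]
      rfl
  have hφ : φ ^ r ^ 1 = 1 := funext fun W => Subtype.ext (by
    rw [pow_one, hpow, hgr]; exact Submodule.map_id _)
  have hmod := Equiv.Perm.card_fixedPoints_modEq hφ
  rw [← Nat.card_eq_fintype_card, ← Nat.card_eq_fintype_card] at hmod
  have hfixed : Nat.card (Function.fixedPoints φ) = Nat.card {W : Submodule F C // Iso (Q.comp C.subtype) W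
      (W₁.comap C.subtype)} := by
    have hiff : ∀ (W : Submodule F V), W ≤ C → (Iso Q W W₀ ↔
        Iso (Q.comp C.subtype) (W.comap C.subtype) (W₁.comap C.subtype)) := fun W hWC => by
      constructor
      · intro h
        obtain ⟨e, he⟩ := h.trans hW₁.symm
        exact ⟨((Submodule.comapSubtypeEquivOfLe hWC).trans e).trans (Submodule.comapSubtypeEquivOfLe hW₁C).symm,
          fun w => he _⟩
      · rintro ⟨e, he⟩
        exact Iso.trans ⟨((Submodule.comapSubtypeEquivOfLe hWC).symm.trans e).trans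
          (Submodule.comapSubtypeEquivOfLe hW₁C), fun w => he _⟩ hW₁
    have hfp : ∀ x : {W : Submodule F V // Iso Q W W₀}, x ∈ Function.fixedPoints φ ↔ x.1 ≤ C := by
      intro x
      constructor
      · intro hx
        refine hfix g hgr hg _ (fun v hv => ?_) x.2
        have h1 : x.1.map g = x.1 := congrArg Subtype.val hx
        exact h1.le ⟨v, hv, rfl⟩
      · intro hx
        refine Subtype.ext (le_antisymm ?_ fun v hv => ⟨v, hv, mem_fixSp.1 (hx hv)⟩)
        rintro _ ⟨v, hv, rfl⟩
        rwa [mem_fixSp.1 (hx hv)]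
    refine Nat.card_congr
      { toFun := fun x => ⟨x.1.1.comap C.subtype, (hiff _ ((hfp _).1 x.2)).1 x.1.2⟩
        invFun := fun W => ⟨⟨W.1.map C.subtype, (hiff _ (Submodule.map_subtype_le C W.1)).2 (by
            rw [Submodule.comap_map_eq_of_injective C.injective_subtype]; exact W.2)⟩,
          (hfp _).2 (Submodule.map_subtype_le C W.1)⟩
        left_inv := fun x => Subtype.ext (Subtype.ext (by
          show (x.1.1.comap C.subtype).map C.subtype = x.1.1
          rw [Submodule.map_comap_subtype, inf_eq_right.2 ((hfp _).1 x.2)]))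
        right_inv := fun W => Subtype.ext (Submodule.comap_map_eq_of_injective C.injective_subtype W.1) }
  rw [hfixed] at hmod
  have hdvd' : r ∣ Nat.card (OQ (Q.comp C.subtype)) :=
    ((Nat.modEq_zero_iff_dvd.1 (hmod.symm.trans (Nat.modEq_zero_iff_dvd.2 hdvd)))).trans
      (card_class_dvd hC.comp _)
  haveI : Finite (C ≃ₗ[F] C) := Finite.of_injective (fun e : C ≃ₗ[F] C => (e : C → C)) DFunLike.coe_injective
  obtain ⟨h, hh⟩ := exists_prime_orderOf_dvd_card' r hdvd'
  -- a larger element
  have hcompl : IsCompl C (restSp r g) :=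
    ⟨disjoint_iff.2 (disjoint_fix_rest hrF), codisjoint_iff.2 (fix_sup_rest hgr hrF)⟩
  set e2 := Submodule.prodEquivOfIsCompl C (restSp r g) hcompl with he2
  have hQz : ∀ z, Q (e2 z) = Q (z.1 : V) + Q (z.2 : V) := fun z => by
    show Q ((z.1 : V) + (z.2 : V)) = _
    rw [apply_add, polar_fix_rest hg hrF _ z.1.2 _ z.2.2, add_zero]
  let H : Module.End F C := ((h : C ≃ₗ[F] C) : C →ₗ[F] C)
  have hHr : H ^ r = 1 := LinearMap.ext fun x => by
    rw [linearEquiv_pow_apply, ← Subgroup.coe_pow, ← hh, pow_orderOf_eq_one]; rfl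
  set R := g.restrict (restSp_invariant (r := r) hgr)
  let G : Module.End F V := e2.toLinearMap ∘ₗ LinearMap.prodMap H R ∘ₗ e2.symm.toLinearMap
  have hGa : ∀ z, G (e2 z) = e2 (H z.1, R z.2) := fun z => by
    show e2 (LinearMap.prodMap H R (e2.symm (e2 z))) = _
    rw [e2.symm_apply_apply]; rfl
  have hGr : G ^ r = 1 := by
    refine LinearMap.ext fun v => ?_
    obtain ⟨z, rfl⟩ := e2.surjective v
    have hk : ∀ k : ℕ, (G ^ k) (e2 z) = e2 ((H ^ k) z.1, (R ^ k) z.2) := fun k => by
      induction k with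
      | zero => rfl
      | succ k ih =>
        rw [pow_succ', Module.End.mul_apply, ih, hGa, pow_succ', pow_succ', Module.End.mul_apply, Module.End.mul_apply]
    rw [hk, hHr, restrict_pow_eq_one g hgr _]; rfl
  have hG : ∀ v, Q (G v) = Q v := fun v => by
    obtain ⟨z, rfl⟩ := e2.surjective v
    rw [hGa, hQz, hQz]
    show Q (((h : C ≃ₗ[F] C) z.1 : C) : V) + Q (g (z.2 : V)) = _
    rw [hg]
    congr 1
    exact OQ.map_apply h z.1
  have hle : fixSp G ≤ (fixSp H).map C.subtype := fun v hv => by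
    obtain ⟨z, rfl⟩ := e2.surjective v
    rw [mem_fixSp, hGa, e2.injective.eq_iff] at hv
    have h2 : z.2 = 0 := Subtype.ext (free_of_le_rest hrF z.2.2
      (congrArg (fun w => ((w.2 : restSp r g) : V)) hv))
    refine ⟨z.1, mem_fixSp.2 (congrArg Prod.fst hv), ?_⟩
    show (z.1 : V) = (z.1 : V) + (z.2 : V)
    rw [h2, Submodule.coe_zero, add_zero]
  have hlt : finrank F (fixSp H) < finrank F C := by
    refine Submodule.finrank_lt fun htop => hrp.ne_one ?_
    rw [← hh, show h = 1 from Subtype.ext (LinearEquiv.ext fun x =>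
      mem_fixSp.1 (htop.ge (Submodule.mem_top (x := x)))), orderOf_one]
  have h1 := Submodule.finrank_mono hle
  rw [Submodule.finrank_map_subtype_eq] at h1
  have h2 : sInf S ≤ finrank F (fixSp G) := Nat.sInf_le ⟨G, hGr, hG, rfl⟩
  omega

end CfsgLib.Geo.Elusive
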