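/-
Involutive isometries in odd characteristic fix nondegenerate subspaces of every class.
-/
import Cfsg.Agent.Lib.Geo.Elusive.OddPrime

set_option autoImplicit false
set_option maxHeartbeats 800000
set_option linter.unusedSectionVars false
set_option linter.style.haveILetI false

namespace CfsgLib.Geo.Elusive

open CfsgLib.Classical CfsgLib.Classical.Quad CfsgLib.Geo.OrthMax CfsgLib.Geo.PrimeAct
open QuadraticMap (polar polarBilin)
open Module

universe u

variable {F : Type u} [Field F] [Finite F]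
variable {V : Type u} [AddCommGroup V] [Module F V] [FiniteDimensional F V] {Q : QuadraticForm F V}

/-- Nondegenerate subspaces of every dimension. -/
theorem exists_nondeg_sub (h2 : (2 : F) ≠ 0) {A : Submodule F V} (hA : Nondeg Q A) {k : ℕ} (hk : k ≤ finrank F A) :
    ∃ U : Submodule F V, U ≤ A ∧ Nondeg Q U ∧ finrank F U = k := by
  rcases eq_or_lt_of_le hk with he | hlt
  · exact ⟨A, le_rfl, hA, he.symm⟩
  rcases Nat.even_or_odd k with ⟨l, hl⟩ | ⟨l, hl⟩
  · obtain ⟨U, hU, hn, -, hd⟩ := exists_plus_sub hA (k := l) (by omega)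
    exact ⟨U, hU, hn, by omega⟩
  · have hd : finrank F (Unit ⊕ (Fin l ⊕ Fin l) → F) = k := by
      rw [finrank_pi]; simp only [Fintype.card_sum, Fintype.card_fin, Fintype.card_unit]; omega
    obtain ⟨j, hj, hjA⟩ := exists_sub_emb (U := Unit ⊕ (Fin l ⊕ Fin l) → F) (qOdd_nondeg h2 l) hA (by omega)
    refine ⟨LinearMap.range j, by rintro _ ⟨v, rfl⟩; exact hjA v, nondeg_range (qOdd_nondeg h2 l) hj, ?_⟩
    rw [LinearMap.finrank_range_of_inj (injective_of_emb (qOdd_nondeg h2 l) hj), hd]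

/-- Two orthogonal complementary subspaces, one of dimension at least two. -/
theorem exists_split_iso (h2 : (2 : F) ≠ 0) {A B W₀ : Submodule F V} (hA : Nondeg Q A) (hB : Nondeg Q B)
    (horth : ∀ a ∈ A, ∀ b ∈ B, polar Q a b = 0) (hW₀ : Nondeg Q W₀) (hB2 : 2 ≤ finrank F B)
    (hm : 1 ≤ finrank F W₀) (hlt : finrank F W₀ < finrank F A + finrank F B) :
    ∃ U W : Submodule F V, U ≤ A ∧ W ≤ B ∧ Iso Q (U ⊔ W) W₀ := by
  obtain ⟨U, hUA, hU, hUd⟩ := exists_nondeg_sub h2 hA (k := finrank F W₀ + 1 - finrank F B) (by omega)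
  obtain ⟨W, hWB, hW⟩ := exists_completion hU hB (fun a ha b hb => horth a (hUA ha) b hb) hW₀ (by omega) (by omega)
  exact ⟨U, W, hUA, hWB, hW⟩

theorem involution_fix (h2 : (2 : F) ≠ 0) (hQ : (polarBilin Q).Nondegenerate) (hn : 3 ≤ finrank F V)
    {g : Module.End F V} (hg : ∀ v, Q (g v) = Q v) (hg2 : g * g = 1)
    {W₀ : Submodule F V} (hW₀ : Nondeg Q W₀) (hm : 1 ≤ finrank F W₀) (hlt : finrank F W₀ < finrank F V) :
    ∃ W : Submodule F V, (∀ v ∈ W, g v ∈ W) ∧ Iso Q W W₀ := by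
  set A := LinearMap.ker (g - 1) with hAdef
  set B := LinearMap.ker (g + 1) with hBdef
  have hgg : ∀ v, g (g v) = v := fun v => by rw [← Module.End.mul_apply, hg2]; rfl
  have hA' : ∀ v ∈ A, g v = v := fun v hv => sub_eq_zero.1 hv
  have hB' : ∀ v ∈ B, g v = -v := fun v hv => eq_neg_of_add_eq_zero_left hv
  have hsup : A ⊔ B = ⊤ := eq_top_iff.2 fun v _ => Submodule.mem_sup.2
    ⟨(2 : F)⁻¹ • (v + g v), by
      show g _ - _ = 0
      rw [map_smul, map_add, hgg, Module.End.one_apply, add_comm (g v) v, sub_self],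
     (2 : F)⁻¹ • (v - g v), by
      show g _ + _ = 0
      rw [map_smul, map_sub, hgg, Module.End.one_apply, ← smul_add]
      simp,
     by rw [← smul_add, add_add_sub_cancel, ← two_smul F v, smul_smul, inv_mul_cancel₀ h2, one_smul]⟩
  have horth : ∀ a ∈ A, ∀ b ∈ B, polar Q a b = 0 := fun a ha b hb => by
    have h := polar_iso hg a b
    rw [hA' a ha, hB' b hb, QuadraticMap.polar_neg_right] at h
    exact (mul_eq_zero.1 (show (2 : F) * polar Q a b = 0 by linear_combination -h)).resolve_left h2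
  have horth' : ∀ b ∈ B, ∀ a ∈ A, polar Q b a = 0 := fun b hb a ha => by
    rw [QuadraticMap.polar_comm]; exact horth a ha b hb
  have hAn := nondeg_of_orth_sup_top hQ hsup horth
  have hBn := nondeg_of_orth_sup_top hQ (by rw [sup_comm]; exact hsup) horth'
  have hd : finrank F A + finrank F B = finrank F V := by
    rw [← finrank_sup_orth hAn horth, hsup, finrank_top]
  have key : ∀ {U W : Submodule F V} {c c' : F}, (∀ v ∈ U, g v = c • v) → (∀ v ∈ W, g v = c' • v) →
      ∀ v ∈ U ⊔ W, g v ∈ U ⊔ W := fun {U W c c'} hU hW v hv => by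
    obtain ⟨a, ha, b, hb, rfl⟩ := Submodule.mem_sup.1 hv
    rw [map_add, hU a ha, hW b hb]
    exact Submodule.add_mem_sup (U.smul_mem c ha) (W.smul_mem c' hb)
  rcases Nat.lt_or_ge (finrank F B) 2 with hB1 | hB2
  · obtain ⟨U, W, hU, hW, hiso⟩ := exists_split_iso h2 hBn hAn horth' hW₀ (by omega) hm (by omega)
    exact ⟨U ⊔ W, key (c := -1) (c' := 1) (fun v hv => by rw [hB' v (hU hv)]; simp)
      (fun v hv => by rw [hA' v (hW hv), one_smul]), hiso⟩
  · obtain ⟨U, W, hU, hW, hiso⟩ := exists_split_iso h2 hAn hBn horth hW₀ hB2 hm (by omega)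
    exact ⟨U ⊔ W, key (c := 1) (c' := -1) (fun v hv => by rw [hA' v (hU hv), one_smul])
      (fun v hv => by rw [hB' v (hW hv)]; simp), hiso⟩

end CfsgLib.Geo.Elusive
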