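/-
Unipotent isometries in odd characteristic: dimensions of invariant nondegenerate subspaces.
-/
import Cfsg.Agent.Lib.Geo.Elusive.OrthTypes
import Cfsg.Agent.Lib.Classical.Quad.OmegaIndex

set_option autoImplicit false
set_option maxHeartbeats 800000
set_option linter.unusedSectionVars false
set_option linter.style.haveILetI false

namespace CfsgLib.Geo.Elusive

open CfsgLib.Classical CfsgLib.Classical.Quad CfsgLib.Geo.OrthMax
open QuadraticMap (polar polarBilin)
open Module

universe u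

variable {F : Type u} [Field F] [Finite F]
variable {V : Type u} [AddCommGroup V] [Module F V] [FiniteDimensional F V] {Q : QuadraticForm F V}

/-- The vectors fixed by `g`. -/
def fixedK (g : Module.End F V) : Submodule F V := LinearMap.ker (g - 1)

/-- The image of `g - 1`. -/
def movedN (g : Module.End F V) : Submodule F V := LinearMap.range (g - 1)

theorem mem_fixedK {g : Module.End F V} {v : V} : v ∈ fixedK g ↔ g v = v := by
  rw [fixedK, LinearMap.mem_ker, LinearMap.sub_apply, sub_eq_zero]; rfl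

theorem polar_moved_fixed {g : Module.End F V} (hg : ∀ v, Q (g v) = Q v) {x y : V} (hx : x ∈ movedN g)
    (hy : y ∈ fixedK g) : polar Q x y = 0 := by
  obtain ⟨z, rfl⟩ := hx
  have h : polar Q (g z) (g y) = polar Q z y := by simp only [polar, ← map_add, hg]
  rw [mem_fixedK.1 hy] at h
  show polar Q (g z - z) y = 0
  rw [QuadraticMap.polar_sub_left, h, sub_self]

/-- The image of `g - 1` has even dimension for an isometry of odd order. -/
theorem even_moved (h2 : (2 : F) ≠ 0) (hQ : (polarBilin Q).Nondegenerate) {g : Module.End F V}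
    (hg : ∀ v, Q (g v) = Q v) {p : ℕ} (hp : Odd p) (hgp : g ^ p = 1) : Even (finrank F (movedN g)) := by
  let a : OQ Q := Quad.ofPreserves hQ g hg
  have happ : ∀ v, (a : V ≃ₗ[F] V) v = g v := fun v => rfl
  have hap : a ^ p = 1 := by
    refine Subtype.ext (LinearEquiv.ext fun v => ?_)
    have hk : ∀ k : ℕ, ((a ^ k : OQ Q) : V ≃ₗ[F] V) v = (g ^ k) v := fun k => by
      induction k with
      | zero => rfl
      | succ k ih =>
        rw [pow_succ', pow_succ', Subgroup.coe_mul, Module.End.mul_apply]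
        rw [← ih]
        exact happ _
    rw [hk, hgp]; rfl
  have hR : reflGroup Q = ⊤ := reflGroup_eq_top hQ (hex_of_two_ne_zero h2)
  have h1 := congrArg Prod.fst ((map_pow (invHom hQ hR) a p).symm.trans (congrArg _ hap |>.trans (map_one _)))
  have h2' : (p : ℕ) • (finrank F (mov a) : ZMod 2) = 0 := by
    have h3 := congrArg Multiplicative.toAdd h1
    rw [Prod.pow_fst, toAdd_pow] at h3
    exact h3
  obtain ⟨k, rfl⟩ := hp
  rw [nsmul_eq_mul, Nat.cast_add, Nat.cast_mul, show ((2 : ℕ) : ZMod 2) = 0 from rfl, zero_mul, zero_add, Nat.cast_one,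
    one_mul, ZMod.natCast_eq_zero_iff_even] at h2'
  have heq : mov a = movedN g := by
    have : movMap a = -(g - 1) := LinearMap.ext fun v => by
      rw [movMap_apply, happ, LinearMap.neg_apply, LinearMap.sub_apply, neg_sub]; rfl
    rw [mov, this, movedN, LinearMap.range_neg]
  rwa [heq] at h2'

/-- Dimensions inside an invariant nondegenerate subspace. -/
theorem unipotent_dims (h2 : (2 : F) ≠ 0) {g : Module.End F V} (hg : ∀ v, Q (g v) = Q v) {p : ℕ} (hp : Odd p)
    (hgp : g ^ p = 1) {W : Submodule F V} (hW : Nondeg Q W) (hinv : ∀ v ∈ W, g v ∈ W) :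
    ∃ T : Submodule F V, ∃ δ a : ℕ, T ≤ W ∧ (∀ x ∈ T, Q x = 0) ∧ (∀ x ∈ T, x ∈ fixedK g) ∧ (∀ x ∈ T, x ∈ movedN g) ∧
      finrank F W = 2 * finrank F T + a + δ ∧ Even (finrank F T + a) ∧
      δ + finrank F ↥(fixedK g ⊓ movedN g) ≤ finrank F (fixedK g) ∧
      a ≤ finrank F (LinearMap.range ((g - 1) ^ 2)) ∧
      (1 ≤ δ → ∃ v ∈ W, v ∈ fixedK g ∧ v ∉ T) ∧
      (1 ≤ a → ∃ w ∈ W, (g - 1) w ∈ W ∧ (g - 1) ((g - 1) w) ≠ 0) := by
  classical
  set N : Module.End F V := g - 1 with hN
  have hNinv : ∀ v ∈ W, N v ∈ W := fun v hv => W.sub_mem (hinv v hv) hv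
  set gW := g.restrict hinv with hgW
  have hgWQ : ∀ v, (Q.comp W.subtype) (gW v) = (Q.comp W.subtype) v := fun v => hg v
  have hgWp : gW ^ p = 1 := by
    refine LinearMap.ext fun w => Subtype.ext ?_
    have hk : ∀ k : ℕ, ((gW ^ k) w : V) = (g ^ k) (w : V) := fun k => by
      induction k with
      | zero => rfl
      | succ k ih => rw [pow_succ', pow_succ', Module.End.mul_apply, Module.End.mul_apply, ← ih]; rfl
    rw [hk, hgp]; rfl
  have heven := even_moved h2 hW.comp hgWQ hp hgWp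
  set KW := fixedK gW with hKW
  set NW := movedN gW with hNW
  have hrn : finrank F NW + finrank F KW = finrank F W := LinearMap.finrank_range_add_finrank_ker (gW - 1)
  have hperp : NW = OrthMax.perp (Q.comp W.subtype) KW := by
    refine Submodule.eq_of_le_of_finrank_eq (fun x hx => mem_perp.2 fun y hy => ?_) ?_
    · rw [QuadraticMap.polar_comm]; exact polar_moved_fixed hgWQ hx hy
    · rw [finrank_perp hW.comp]; omega
  -- the image inside `W`
  have hmoved : ∀ x : W, (x : V) ∈ movedN g → x ∈ NW := fun x hx => by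
    rw [hperp]
    refine mem_perp.2 fun y hy => ?_
    rw [polar_comp, QuadraticMap.polar_comm]
    exact polar_moved_fixed hg hx (mem_fixedK.2 (congrArg Subtype.val (mem_fixedK.1 hy)))
  have hNWmem : ∀ x ∈ NW, (x : V) ∈ movedN g := by
    rintro _ ⟨y, rfl⟩
    exact ⟨(y : V), rfl⟩
  have hKWmem : ∀ x : W, x ∈ KW ↔ (x : V) ∈ fixedK g := fun x =>
    ⟨fun hx => mem_fixedK.2 (congrArg Subtype.val (mem_fixedK.1 hx)),
      fun hx => mem_fixedK.2 (Subtype.ext (mem_fixedK.1 hx))⟩
  set T' := KW ⊓ NW with hT'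
  set T := T'.map W.subtype with hT
  have hTd : finrank F T = finrank F T' := Submodule.finrank_map_subtype_eq W T'
  have hTs : ∀ x ∈ T, Q x = 0 := by
    rintro _ ⟨x, ⟨hx1, hx2⟩, rfl⟩
    have h0 : polar Q (x : V) (x : V) = 0 := polar_moved_fixed hg (hNWmem x hx2) ((hKWmem x).1 hx1)
    rw [polar_self'] at h0
    exact (mul_eq_zero.1 h0).resolve_left h2
  have hle : finrank F T' ≤ finrank F KW := Submodule.finrank_mono inf_le_left
  have hle2 : finrank F T' ≤ finrank F NW := Submodule.finrank_mono inf_le_right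
  refine ⟨T, finrank F KW - finrank F T', finrank F NW - finrank F T', Submodule.map_subtype_le W T', hTs,
    ?_, ?_, by omega, by rwa [hTd, Nat.add_sub_cancel' hle2], ?_, ?_, fun hδ => ?_, fun ha => ?_⟩
  · rintro _ ⟨x, hx, rfl⟩; exact (hKWmem x).1 hx.1
  · rintro _ ⟨x, hx, rfl⟩; exact hNWmem x hx.2
  · have h1 : finrank F ↥(KW.map W.subtype ⊔ fixedK g ⊓ movedN g) ≤ finrank F (fixedK g) :=
      Submodule.finrank_mono (sup_le (by rintro _ ⟨x, hx, rfl⟩; exact (hKWmem x).1 hx) inf_le_left)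
    have h3 := Submodule.finrank_sup_add_finrank_inf_eq (KW.map W.subtype) (fixedK g ⊓ movedN g)
    have h4 : finrank F ↥(KW.map W.subtype ⊓ (fixedK g ⊓ movedN g)) ≤ finrank F T := by
      refine Submodule.finrank_mono ?_
      rintro _ ⟨⟨x, hx, rfl⟩, -, hm⟩
      exact ⟨x, ⟨hx, hmoved x hm⟩, rfl⟩
    rw [Submodule.finrank_map_subtype_eq] at h3
    omega
  · let f : NW →ₗ[F] V := N ∘ₗ W.subtype ∘ₗ NW.subtype
    have h1 := LinearMap.finrank_range_add_finrank_ker f
    have h3 : finrank F (LinearMap.ker f) ≤ finrank F T' := by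
      rw [← Submodule.finrank_map_subtype_eq NW (LinearMap.ker f)]
      refine Submodule.finrank_mono ?_
      rintro _ ⟨x, hx, rfl⟩
      exact ⟨(hKWmem _).2 hx, x.2⟩
    have h4 : finrank F (LinearMap.range f) ≤ finrank F (LinearMap.range (N ^ 2)) := by
      refine Submodule.finrank_mono ?_
      rintro _ ⟨⟨_, ⟨y, rfl⟩⟩, rfl⟩
      exact ⟨(y : V), by rw [pow_two]; rfl⟩
    omega
  · have h1 : ¬ KW ≤ T' := fun h => by
      have := Submodule.finrank_mono h
      omega
    obtain ⟨x, hx, hxT⟩ := SetLike.not_le_iff_exists.1 h1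
    refine ⟨x, x.2, (hKWmem x).1 hx, fun h => hxT ?_⟩
    obtain ⟨y, hy, hyx⟩ := h
    rwa [← Subtype.ext hyx]
  · have h1 : ¬ NW ≤ T' := fun h => by
      have := Submodule.finrank_mono h
      omega
    obtain ⟨x, hx, hxT⟩ := SetLike.not_le_iff_exists.1 h1
    obtain ⟨y, rfl⟩ := hx
    refine ⟨y, y.2, hNinv y y.2, fun h => hxT ⟨(hKWmem _).2 (mem_fixedK.2 (sub_eq_zero.1 h)), y, rfl⟩⟩

/-- A vector orthogonal to a singular subspace of half the dimension, rounded down. -/
theorem apply_ne_zero_of_perp {W T : Submodule F V} (hW : Nondeg Q W) (hTW : T ≤ W) (hT : ∀ x ∈ T, Q x = 0)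
    (hd : finrank F W < 2 * (finrank F T + 1)) {v : V} (hv : v ∈ W) (hvT : v ∉ T)
    (hperp : ∀ x ∈ T, polar Q x v = 0) : Q v ≠ 0 := by
  intro h0
  set S := T ⊔ Submodule.span F {v} with hS
  have hSW : S ≤ W := sup_le hTW ((Submodule.span_singleton_le_iff_mem _ _).2 hv)
  have hSs : ∀ x ∈ S, Q x = 0 := fun x hx => by
    obtain ⟨a, ha, b, hb, rfl⟩ := Submodule.mem_sup.1 hx
    obtain ⟨c, rfl⟩ := Submodule.mem_span_singleton.1 hb
    rw [apply_add, apply_smul, polar_smul_right', hT a ha, h0, hperp a ha]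
    ring
  have h1 := two_mul_finrank_le hW.comp (W := S.comap W.subtype) fun w hw => hSs _ hw
  rw [(Submodule.comapSubtypeEquivOfLe hSW).finrank_eq] at h1
  have h2 : finrank F T < finrank F S := Submodule.finrank_lt_finrank_of_lt
    (lt_of_le_not_ge le_sup_left fun h => hvT (h (Submodule.mem_sup_right (Submodule.mem_span_singleton_self v))))
  omega

/-- The square class attached to an odd-dimensional space. -/
theorem value_unique {W : Submodule F V} (hW : Nondeg Q W) {T T' : Submodule F V} (hTW : T ≤ W) (hT'W : T' ≤ W)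
    (hT : ∀ x ∈ T, Q x = 0) (hT' : ∀ x ∈ T', Q x = 0) (hd : finrank F W = 2 * finrank F T + 1)
    (hd' : finrank F W = 2 * finrank F T' + 1) {v v' : V} (hv : v ∈ W) (hv' : v' ∈ W) (hQv' : Q v' ≠ 0)
    (hperp : ∀ x ∈ T, polar Q x v = 0) (hperp' : ∀ x ∈ T', polar Q x v' = 0) :
    ∃ t : F, Q v = t * t * Q v' := by
  have hdd : finrank F (T.comap W.subtype) = finrank F (T'.comap W.subtype) := by
    rw [(Submodule.comapSubtypeEquivOfLe hTW).finrank_eq, (Submodule.comapSubtypeEquivOfLe hT'W).finrank_eq]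
    omega
  obtain ⟨g, hg⟩ := Quad.witt hW.comp (T.comap W.subtype)
    ((T'.comap W.subtype).subtype ∘ₗ (LinearEquiv.ofFinrankEq _ _ hdd).toLinearMap)
    ((Submodule.injective_subtype _).comp (LinearEquiv.injective _)) fun x => by
      rw [show (Q.comp W.subtype) (x : W) = 0 from hT _ x.2]
      exact hT' _ ((LinearEquiv.ofFinrankEq _ _ hdd) x).2
  set P := (T' ⊔ Submodule.span F {v'}).comap W.subtype with hP
  have hvT' : v' ∉ T' := fun h => hQv' (hT' _ h)
  have hPd : finrank F P = finrank F T' + 1 := by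
    rw [hP, (Submodule.comapSubtypeEquivOfLe (sup_le hT'W
      ((Submodule.span_singleton_le_iff_mem _ _).2 hv'))).finrank_eq]
    have h1 := Submodule.finrank_sup_add_finrank_inf_eq T' (Submodule.span F {v'})
    have h3 : T' ⊓ Submodule.span F {v'} = ⊥ := by
      rw [Submodule.eq_bot_iff]
      rintro x ⟨hx, hx'⟩
      obtain ⟨c, rfl⟩ := Submodule.mem_span_singleton.1 hx'
      by_contra hne
      have hc : c ≠ 0 := fun h => hne (by rw [h, zero_smul])
      exact hvT' (by simpa [smul_smul, inv_mul_cancel₀ hc] using T'.smul_mem c⁻¹ hx)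
    rw [h3, finrank_bot, finrank_span_singleton (fun h : v' = 0 => hQv' (by rw [h, QuadraticMap.map_zero]))] at h1
    omega
  have hPeq : P = OrthMax.perp (Q.comp W.subtype) (T'.comap W.subtype) := by
    refine Submodule.eq_of_le_of_finrank_eq (fun x hx => mem_perp.2 fun y hy => ?_) ?_
    · obtain ⟨a, ha, b, hb, hab⟩ := Submodule.mem_sup.1 (Submodule.mem_comap.1 hx)
      obtain ⟨c, rfl⟩ := Submodule.mem_span_singleton.1 hb
      rw [Submodule.subtype_apply] at hab
      have h1 : polar Q (y : V) a = 0 := by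
        rw [QuadraticMap.polar, hT' ((y : V) + a) (T'.add_mem hy ha), hT' (y : V) hy, hT' a ha]; ring
      rw [polar_comp, ← hab, polar_add_right', polar_smul_right', h1, hperp' (y : V) hy, mul_zero, add_zero]
    · rw [finrank_perp hW.comp, hPd, (Submodule.comapSubtypeEquivOfLe hT'W).finrank_eq]
      omega
  have hmem : (g : W ≃ₗ[F] W) ⟨v, hv⟩ ∈ P := by
    rw [hPeq]
    refine mem_perp.2 fun y hy => ?_
    obtain ⟨x, hx⟩ := (LinearEquiv.ofFinrankEq _ _ hdd).surjective ⟨y, hy⟩
    have hgx : (g : W ≃ₗ[F] W) (x : W) = y := by rw [hg x, LinearMap.comp_apply, LinearEquiv.coe_coe, hx]; rfl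
    rw [← hgx, OQ.map_polar, polar_comp]
    exact hperp _ x.2
  obtain ⟨a, ha, b, hb, hab⟩ := Submodule.mem_sup.1 (Submodule.mem_comap.1 hmem)
  obtain ⟨c, rfl⟩ := Submodule.mem_span_singleton.1 hb
  refine ⟨c, ?_⟩
  have h1 : Q (((g : W ≃ₗ[F] W) ⟨v, hv⟩ : W) : V) = Q v := OQ.map_apply g (⟨v, hv⟩ : W)
  rw [Submodule.subtype_apply] at hab
  rw [← h1, ← hab, apply_add, apply_smul, polar_smul_right', hT' a ha, hperp' a ha]
  ring

end CfsgLib.Geo.Elusive
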