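/-
Unipotent isometries built from orthogonal pieces.
-/
import Cfsg.Agent.Lib.Geo.Elusive.Unipotent
import Cfsg.Agent.Lib.Classical.ClassTheory.OrthModels

set_option autoImplicit false
set_option maxHeartbeats 800000
set_option linter.unusedSectionVars false
set_option linter.style.haveILetI false

namespace CfsgLib.Geo.Elusive

open CfsgLib.Classical CfsgLib.Classical.Quad CfsgLib.Geo.OrthMax
open QuadraticMap (polar polarBilin)
open Module

universe u

variable {F : Type u} [Field F] [Finite F]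
variable {V : Type u} [AddCommGroup V] [Module F V] [FiniteDimensional F V] {Q : QuadraticForm F V}

/-- Dimension data of a unipotent isometry. -/
structure UData (Q : QuadraticForm F V) (g : Module.End F V) (ε s : ℕ) : Prop where
  iso : ∀ v, Q (g v) = Q v
  cube : (g - 1) ^ 3 = 0
  fixd : finrank F (fixedK g) ≤ ε + finrank F ↥(fixedK g ⊓ movedN g)
  sq : finrank F (LinearMap.range ((g - 1) ^ 2)) ≤ s

theorem udata_one (Q : QuadraticForm F V) : UData Q (1 : Module.End F V) (finrank F V) 0 := by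
  refine ⟨fun v => rfl, by simp, le_add_of_le_of_nonneg (Submodule.finrank_le _) (Nat.zero_le _), ?_⟩
  rw [sub_self, zero_pow two_ne_zero, LinearMap.range_zero, finrank_bot]

section glue

variable {A B : Submodule F V}

/-- Gluing maps on complementary orthogonal subspaces. -/
theorem exists_glue (hcompl : IsCompl A B) (horth : ∀ a ∈ A, ∀ b ∈ B, polar Q a b = 0) (gA : Module.End F A)
    (gB : Module.End F B) :
    ∃ g : Module.End F V, (∀ (a : A) (b : B), g ((a : V) + b) = (gA a : V) + gB b) ∧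
      ((∀ a, (Q.comp A.subtype) (gA a) = (Q.comp A.subtype) a) → (∀ b, (Q.comp B.subtype) (gB b) = (Q.comp B.subtype) b) →
        ∀ v, Q (g v) = Q v) ∧
      (∀ (k : ℕ) (a : A) (b : B), ((g - 1) ^ k) ((a : V) + b) = (((gA - 1) ^ k) a : V) + ((gB - 1) ^ k) b) := by
  set e2 := Submodule.prodEquivOfIsCompl A B hcompl with he2
  let g : Module.End F V := e2.toLinearMap ∘ₗ LinearMap.prodMap gA gB ∘ₗ e2.symm.toLinearMap
  have hg : ∀ (a : A) (b : B), g ((a : V) + b) = (gA a : V) + gB b := fun a b => by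
    show e2 (LinearMap.prodMap gA gB (e2.symm (e2 (a, b)))) = _
    rw [e2.symm_apply_apply]; rfl
  refine ⟨g, hg, fun h1 h2 v => ?_, fun k => ?_⟩
  · obtain ⟨⟨a, b⟩, rfl⟩ := e2.surjective v
    show Q (g ((a : V) + b)) = Q ((a : V) + b)
    rw [hg, apply_add, apply_add, horth _ (gA a).2 _ (gB b).2, horth _ a.2 _ b.2,
      show Q (gA a : V) = Q (a : V) from h1 a, show Q (gB b : V) = Q (b : V) from h2 b]
  · induction k with
    | zero => intro a b; rfl
    | succ k ih =>
      intro a b
      rw [pow_succ', pow_succ', pow_succ', Module.End.mul_apply, Module.End.mul_apply, Module.End.mul_apply, ih,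
        LinearMap.sub_apply, hg, LinearMap.sub_apply, LinearMap.sub_apply, Module.End.one_apply, Module.End.one_apply,
        Module.End.one_apply, Submodule.coe_sub, Submodule.coe_sub]
      abel

variable {g : Module.End F V} {gA : Module.End F A} {gB : Module.End F B}

theorem glue_ker (hcompl : IsCompl A B)
    (hg : ∀ (k : ℕ) (a : A) (b : B), ((g - 1) ^ k) ((a : V) + b) = (((gA - 1) ^ k) a : V) + ((gB - 1) ^ k) b) :
    fixedK g = (fixedK gA).map A.subtype ⊔ (fixedK gB).map B.subtype ∧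
      movedN g = (movedN gA).map A.subtype ⊔ (movedN gB).map B.subtype := by
  have h1 : ∀ (a : A) (b : B), (g - 1) ((a : V) + b) = (((gA - 1) a : A) : V) + ((gB - 1) b : B) := fun a b => by
    have := hg 1 a b
    simpa only [pow_one] using this
  have hsplit : ∀ v : V, ∃ (a : A) (b : B), v = (a : V) + b := fun v => by
    obtain ⟨x, y, hx, hy, h⟩ := Submodule.codisjoint_iff_exists_add_eq.1 hcompl.codisjoint v
    exact ⟨⟨x, hx⟩, ⟨y, hy⟩, h.symm⟩
  constructor
  · refine le_antisymm (fun v hv => ?_) (sup_le ?_ ?_)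
    · obtain ⟨a, b, rfl⟩ := hsplit v
      have h0 : (((gA - 1) a : A) : V) + ((gB - 1) b : B) = 0 := by rw [← h1]; exact hv
      have ha : (((gA - 1) a : A) : V) = 0 := Submodule.disjoint_def.1 hcompl.disjoint _ ((gA - 1) a).2
        (by rw [eq_neg_of_add_eq_zero_left h0]; exact B.neg_mem ((gB - 1) b).2)
      rw [ha, zero_add] at h0
      exact Submodule.add_mem_sup ⟨a, Subtype.ext ha, rfl⟩ ⟨b, Subtype.ext h0, rfl⟩
    · rintro _ ⟨a, ha, rfl⟩
      have h := h1 a 0
      rw [Submodule.coe_zero, add_zero, show (gA - 1) a = 0 from ha, map_zero, Submodule.coe_zero, Submodule.coe_zero,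
        add_zero] at h
      exact h
    · rintro _ ⟨b, hb, rfl⟩
      have h := h1 0 b
      rw [Submodule.coe_zero, zero_add, show (gB - 1) b = 0 from hb, map_zero, Submodule.coe_zero, Submodule.coe_zero,
        add_zero] at h
      exact h
  · refine le_antisymm ?_ (sup_le ?_ ?_)
    · rintro _ ⟨v, rfl⟩
      obtain ⟨a, b, rfl⟩ := hsplit v
      rw [h1]
      exact Submodule.add_mem_sup ⟨_, ⟨a, rfl⟩, rfl⟩ ⟨_, ⟨b, rfl⟩, rfl⟩
    · rintro _ ⟨_, ⟨a, rfl⟩, rfl⟩
      exact ⟨(a : V), by
        have h := h1 a 0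
        rwa [Submodule.coe_zero, add_zero, map_zero, Submodule.coe_zero, add_zero] at h⟩
    · rintro _ ⟨_, ⟨b, rfl⟩, rfl⟩
      exact ⟨(b : V), by
        have h := h1 0 b
        rwa [Submodule.coe_zero, zero_add, map_zero, Submodule.coe_zero, zero_add] at h⟩

theorem finrank_map_sup (hcompl : IsCompl A B) (X : Submodule F A) (Y : Submodule F B) :
    finrank F ↥(X.map A.subtype ⊔ Y.map B.subtype) = finrank F X + finrank F Y := by
  have h := Submodule.finrank_sup_add_finrank_inf_eq (X.map A.subtype) (Y.map B.subtype)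
  have h2 : X.map A.subtype ⊓ Y.map B.subtype = ⊥ := le_bot_iff.1
    ((inf_le_inf (Submodule.map_subtype_le A X) (Submodule.map_subtype_le B Y)).trans hcompl.disjoint.le_bot)
  rw [h2, finrank_bot, Submodule.finrank_map_subtype_eq, Submodule.finrank_map_subtype_eq] at h
  omega

/-- Gluing adds the data. -/
theorem glue_udata (hcompl : IsCompl A B) {ε ε' s s' : ℕ}
    (hg : ∀ (k : ℕ) (a : A) (b : B), ((g - 1) ^ k) ((a : V) + b) = (((gA - 1) ^ k) a : V) + ((gB - 1) ^ k) b)
    (hiso : ∀ v, Q (g v) = Q v) (hA : UData (Q.comp A.subtype) gA ε s) (hB : UData (Q.comp B.subtype) gB ε' s') :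
    UData Q g (ε + ε') (s + s') := by
  obtain ⟨hK, hM⟩ := glue_ker hcompl hg
  refine ⟨hiso, LinearMap.ext fun v => ?_, ?_, ?_⟩
  · obtain ⟨x, y, hx, hy, rfl⟩ := Submodule.codisjoint_iff_exists_add_eq.1 hcompl.codisjoint v
    rw [hg 3 ⟨x, hx⟩ ⟨y, hy⟩, hA.cube, hB.cube]
    simp
  · have h1 : finrank F ↥((fixedK gA ⊓ movedN gA).map A.subtype ⊔ (fixedK gB ⊓ movedN gB).map B.subtype) ≤
        finrank F ↥(fixedK g ⊓ movedN g) := by
      refine Submodule.finrank_mono ?_
      rw [hK, hM]
      exact sup_le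
        (le_inf ((Submodule.map_mono inf_le_left).trans le_sup_left) ((Submodule.map_mono inf_le_right).trans le_sup_left))
        (le_inf ((Submodule.map_mono inf_le_left).trans le_sup_right) ((Submodule.map_mono inf_le_right).trans le_sup_right))
    rw [finrank_map_sup hcompl] at h1
    rw [hK, finrank_map_sup hcompl]
    rw [hK] at h1
    have h2 := hA.fixd
    have h3 := hB.fixd
    omega
  · refine le_trans (Submodule.finrank_mono (t := (LinearMap.range ((gA - 1) ^ 2)).map A.subtype ⊔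
      (LinearMap.range ((gB - 1) ^ 2)).map B.subtype) ?_) ?_
    · rintro _ ⟨v, rfl⟩
      obtain ⟨x, y, hx, hy, rfl⟩ := Submodule.codisjoint_iff_exists_add_eq.1 hcompl.codisjoint v
      rw [hg 2 ⟨x, hx⟩ ⟨y, hy⟩]
      exact Submodule.add_mem_sup ⟨_, ⟨_, rfl⟩, rfl⟩ ⟨_, ⟨_, rfl⟩, rfl⟩
    · rw [finrank_map_sup hcompl]
      have := hA.sq
      have := hB.sq
      omega

end glue

/-- The coordinates shift. -/
def siegelN (k : ℕ) (F : Type*) [Field F] : (Fin (k + k) ⊕ Fin (k + k) → F) →ₗ[F] (Fin (k + k) ⊕ Fin (k + k) → F) where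
  toFun v := Sum.elim 0 (Fin.addCases (fun j => v (.inl (Fin.natAdd k j))) fun j => -v (.inl (Fin.castAdd k j)))
  map_add' u v := by
    funext x
    rcases x with x | x
    · simp
    · refine Fin.addCases (fun j => ?_) (fun j => ?_) x <;> simp [add_comm, -Fin.natAdd_eq_addNat]
  map_smul' c v := by
    funext x
    rcases x with x | x
    · simp
    · refine Fin.addCases (fun j => ?_) (fun j => ?_) x <;> simp [-Fin.natAdd_eq_addNat]

/-- Pairs of transvection type on a space of plus type. -/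
theorem exists_twos (hQ : (polarBilin Q).Nondegenerate) (hp : Plus Q (⊤ : Submodule F V)) {k : ℕ}
    (hd : finrank F V = 2 * (k + k)) :
    ∃ g : Module.End F V, UData Q g 0 0 ∧ movedN g = fixedK g ∧ (∀ x ∈ fixedK g, Q x = 0) ∧
      finrank F (fixedK g) = k + k ∧ finrank F (movedN g) = k + k := by
  rcases CfsgLib.Known.QuadClassify.classify_even hd Q hQ with ⟨e, he⟩ | ⟨-, ζ, e, hζ, he⟩
  swap
  · haveI := Fintype.ofFinite F
    exact absurd hp (not_plus_of_model (CfsgLib.Known.QuadClassify.aniso_of_no_root hζ)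
      (e.trans (Submodule.topEquiv (R := F) (M := V)).symm) fun v => he v)
  let N : Module.End F V := e.toLinearMap ∘ₗ siegelN k F ∘ₗ e.symm.toLinearMap
  have hN : ∀ z, N (e z) = e (siegelN k F z) := fun z => by
    show e (siegelN k F (e.symm (e z))) = _
    rw [e.symm_apply_apply]
  have hg : ((1 : Module.End F V) + N) - 1 = N := add_sub_cancel_left _ _
  have hJ : ∀ z, siegelN k F z = 0 ↔ ∀ j, z (.inl j) = 0 := fun z => by
    constructor
    · intro h j
      refine Fin.addCases (fun l => ?_) (fun l => ?_) j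
      · simpa [siegelN, -Fin.natAdd_eq_addNat] using congrFun h (.inr (Fin.natAdd k l))
      · simpa [siegelN, -Fin.natAdd_eq_addNat] using congrFun h (.inr (Fin.castAdd k l))
    · intro h
      funext x
      rcases x with x | x
      · rfl
      · refine Fin.addCases (fun j => ?_) (fun j => ?_) x <;> simp [siegelN, h, -Fin.natAdd_eq_addNat]
  have hsq : ∀ z, siegelN k F (siegelN k F z) = 0 := fun z => (hJ _).2 fun j => rfl
  set g : Module.End F V := 1 + N
  have hK : fixedK g = movedN g := by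
    rw [fixedK, movedN, hg]
    refine le_antisymm (fun v hv => ?_) ?_
    · obtain ⟨z, rfl⟩ := e.surjective v
      rw [LinearMap.mem_ker, hN, LinearEquiv.map_eq_zero_iff, hJ] at hv
      refine ⟨e (Sum.elim (Fin.addCases (fun j => -z (.inr (Fin.natAdd k j))) fun j => z (.inr (Fin.castAdd k j))) 0), ?_⟩
      rw [hN]
      congr 1
      funext x
      rcases x with x | x
      · simp [siegelN, hv x]
      · refine Fin.addCases (fun j => ?_) (fun j => ?_) x <;> simp [siegelN, -Fin.natAdd_eq_addNat]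
    · rintro _ ⟨v, rfl⟩
      obtain ⟨z, rfl⟩ := e.surjective v
      rw [LinearMap.mem_ker, hN, hN, hsq, map_zero]
  have hd2 : finrank F (movedN g) + finrank F (fixedK g) = finrank F V :=
    LinearMap.finrank_range_add_finrank_ker (g - 1)
  have hKs : ∀ x ∈ fixedK g, Q x = 0 := fun x hx => by
    rw [fixedK, hg] at hx
    obtain ⟨z, rfl⟩ := e.surjective x
    rw [LinearMap.mem_ker, hN, LinearEquiv.map_eq_zero_iff, hJ] at hx
    rw [he, Cfsg.quadFormPlus]
    exact Finset.sum_eq_zero fun j _ => by rw [hx j, zero_mul]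
  refine ⟨g, ⟨fun v => ?_, ?_, ?_, ?_⟩, hK.symm, hKs, ?_, ?_⟩
  · obtain ⟨z, rfl⟩ := e.surjective v
    show Q (e z + N (e z)) = _
    rw [hN, ← map_add, he, he, Cfsg.quadFormPlus, Cfsg.quadFormPlus]
    have h : ∀ j : Fin (k + k), (z + siegelN k F z) (.inl j) * (z + siegelN k F z) (.inr j) =
        z (.inl j) * z (.inr j) + z (.inl j) * siegelN k F z (.inr j) := fun j => by
      simp only [Pi.add_apply, show siegelN k F z (.inl j) = 0 from rfl]
      ring
    rw [Finset.sum_congr rfl fun j _ => h j, Finset.sum_add_distrib, add_eq_left, Fin.sum_univ_add]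
    simp [siegelN, mul_comm, -Fin.natAdd_eq_addNat]
  · rw [hg]
    refine LinearMap.ext fun v => ?_
    obtain ⟨z, rfl⟩ := e.surjective v
    rw [pow_succ', pow_two, Module.End.mul_apply, Module.End.mul_apply, hN, hN, hN, hsq]
    simp
  · rw [hK, inf_idem, zero_add]
  · rw [hg]
    refine le_of_eq ?_
    rw [Submodule.finrank_eq_zero, LinearMap.range_eq_bot]
    refine LinearMap.ext fun v => ?_
    obtain ⟨z, rfl⟩ := e.surjective v
    rw [pow_two, Module.End.mul_apply, hN, hN, hsq, map_zero]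
    rfl
  · rw [← hK] at hd2; omega
  · rw [hK] at hd2; omega

/-- A regular unipotent isometry in coordinates `xy + b t²`. -/
theorem three_of_equiv (h2 : (2 : F) ≠ 0) {b : F} (hw : b ≠ 0) (e3 : ((F × F) × F) ≃ₗ[F] V)
    (he3 : ∀ z, Q (e3 z) = z.1.1 * z.1.2 + z.2 * z.2 * b) :
    ∃ g : Module.End F V, UData Q g 0 1 ∧ (∀ x ∈ fixedK g, Q x = 0) ∧
      (∀ x, ∃ t : F, Q ((g - 1) x) = t * t * b) := by
  let M : ((F × F) × F) →ₗ[F] ((F × F) × F) :=
    { toFun := fun z => ((-b * z.1.2 - 2 * b * z.2, 0), z.1.2)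
      map_add' := fun x y => by refine Prod.ext (Prod.ext ?_ ?_) ?_ <;> simp <;> ring
      map_smul' := fun c x => by refine Prod.ext (Prod.ext ?_ ?_) ?_ <;> simp <;> ring }
  let N : Module.End F V := e3.toLinearMap ∘ₗ M ∘ₗ e3.symm.toLinearMap
  have hN : ∀ z, N (e3 z) = e3 (M z) := fun z => by
    show e3 (M (e3.symm (e3 z))) = _
    rw [e3.symm_apply_apply]
  have hg : ((1 : Module.End F V) + N) - 1 = N := add_sub_cancel_left _ _
  set g : Module.End F V := 1 + N
  have hKmem : ∀ z, e3 z ∈ fixedK g ↔ z.1.2 = 0 ∧ z.2 = 0 := fun z => by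
    rw [fixedK, hg, LinearMap.mem_ker, hN, LinearEquiv.map_eq_zero_iff]
    constructor
    · intro h
      have h1 : z.1.2 = 0 := congrArg Prod.snd h
      have h3 : -b * z.1.2 - 2 * b * z.2 = 0 := congrArg (fun x : (F × F) × F => x.1.1) h
      rw [h1, mul_zero, zero_sub, neg_eq_zero, mul_eq_zero] at h3
      exact ⟨h1, h3.resolve_left (mul_ne_zero h2 hw)⟩
    · rintro ⟨h1, h3⟩
      exact Prod.ext (Prod.ext (by simp [M, h1, h3]) rfl) h1
  have hKM : fixedK g ≤ movedN g := fun v hv => by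
    obtain ⟨⟨⟨x, y⟩, t⟩, rfl⟩ := e3.surjective v
    obtain ⟨h1, h3⟩ := (hKmem _).1 hv
    rw [movedN, hg]
    refine ⟨e3 ((0, 0), -x / (2 * b)), ?_⟩
    rw [hN]
    congr 1
    simp only at h1 h3
    refine Prod.ext (Prod.ext ?_ h1.symm) h3.symm
    show -b * 0 - 2 * b * (-x / (2 * b)) = x
    field_simp
    ring
  refine ⟨g, ⟨fun v => ?_, ?_, ?_, ?_⟩, fun x hx => ?_, fun x => ?_⟩
  · obtain ⟨z, rfl⟩ := e3.surjective v
    show Q (e3 z + N (e3 z)) = _
    rw [hN, ← map_add, he3, he3]
    simp [M]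
    ring
  · rw [hg]
    refine LinearMap.ext fun v => ?_
    obtain ⟨z, rfl⟩ := e3.surjective v
    rw [pow_succ', pow_two, Module.End.mul_apply, Module.End.mul_apply, hN, hN, hN]
    simp [M]
  · rw [inf_eq_left.2 hKM, zero_add]
  · rw [hg]
    let z₀ : V := e3 ((1, 0), 0)
    refine le_trans (Submodule.finrank_mono (t := Submodule.span F {z₀}) ?_)
      ((finrank_span_le_card ({z₀} : Set V)).trans_eq (by simp))
    rintro _ ⟨v, rfl⟩
    obtain ⟨z, rfl⟩ := e3.surjective v
    rw [pow_two, Module.End.mul_apply, hN, hN]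
    refine Submodule.mem_span_singleton.2 ⟨(M (M z)).1.1, ?_⟩
    rw [← map_smul]
    congr 1
    simp [M]
  · obtain ⟨z, rfl⟩ := e3.surjective x
    obtain ⟨h1, h3⟩ := (hKmem z).1 hx
    rw [he3, h1, h3]
    ring
  · obtain ⟨z, rfl⟩ := e3.surjective x
    refine ⟨z.1.2, ?_⟩
    rw [hg, hN, he3]
    simp [M]

/-- A regular unipotent isometry of a three-dimensional space. -/
theorem exists_three (h2 : (2 : F) ≠ 0) (hQ : (polarBilin Q).Nondegenerate) (hd : finrank F V = 3) :
    ∃ (g : Module.End F V) (b : F), b ≠ 0 ∧ UData Q g 0 1 ∧ (∀ x ∈ fixedK g, Q x = 0) ∧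
      (∀ x, ∃ t : F, Q ((g - 1) x) = t * t * b) := by
  obtain ⟨v₀, hv0, hv⟩ := Quad.exists_singular hQ (by omega)
  obtain ⟨W, e, he, hW, hWd⟩ := CfsgLib.Known.QuadClassify.exists_hyperbolic_split Q hQ hv0 hv
  haveI : Nontrivial W := Module.nontrivial_of_finrank_pos (R := F) (by omega)
  obtain ⟨w, hw⟩ := exists_apply_ne_zero hW
  simp only [QuadraticMap.comp_apply, Submodule.subtype_apply] at hw
  have hw0 : w ≠ 0 := fun h => hw (by rw [h, Submodule.coe_zero, QuadraticMap.map_zero])
  obtain ⟨g, hg⟩ := three_of_equiv (Q := Q) h2 hw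
    (((LinearEquiv.refl F (F × F)).prodCongr ((LinearEquiv.toSpanNonzeroSingleton F W w hw0).trans
      (LinearEquiv.ofTop _ ((Submodule.eq_top_of_finrank_eq (by rw [finrank_span_singleton hw0]; omega)))))).trans e)
    fun z => by
      show Q (e (z.1, z.2 • w)) = _
      rw [he, Submodule.coe_smul, apply_smul]
  exact ⟨g, _, hw, hg⟩

/-- A three-dimensional subspace of prescribed value carrying a regular unipotent isometry. -/
theorem exists_three_sub (h2 : (2 : F) ≠ 0) {C : Submodule F V} (hC : Nondeg Q C) (hd : 3 < finrank F C) {b : F}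
    (hb : b ≠ 0) :
    ∃ B : Submodule F V, B ≤ C ∧ Nondeg Q B ∧ finrank F B = 3 ∧ ∃ g : Module.End F B,
      UData (Q.comp B.subtype) g 0 1 ∧ (∀ x ∈ fixedK g, (Q.comp B.subtype) x = 0) ∧
      (∀ x, ∃ t : F, (Q.comp B.subtype) ((g - 1) x) = t * t * b) := by
  set R : QuadraticForm F (Unit ⊕ (Fin 1 ⊕ Fin 1) → F) := b • qOdd 1 F with hR
  have hRn : (polarBilin R).Nondegenerate := by
    refine nondegenerate_of_left fun x hx => (qOdd_nondeg h2 1).1 x fun y => ?_
    have h : polar (⇑(b • qOdd 1 F)) x y = 0 := hx y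
    have h' : b * polar (qOdd 1 F) x y = 0 := by
      rw [← h]
      show _ = (b • qOdd 1 F) (x + y) - (b • qOdd 1 F) x - (b • qOdd 1 F) y
      simp only [QuadraticMap.smul_apply, smul_eq_mul, polar]
      ring
    exact (mul_eq_zero.1 h').resolve_left hb
  have hfr : finrank F (Unit ⊕ (Fin 1 ⊕ Fin 1) → F) = 3 := by
    rw [finrank_pi]; rfl
  obtain ⟨j, hj, hjC⟩ := exists_sub_emb (U := Unit ⊕ (Fin 1 ⊕ Fin 1) → F) hRn hC (by omega)
  have hinj := injective_of_emb hRn hj
  let c : ((F × F) × F) ≃ₗ[F] (Unit ⊕ (Fin 1 ⊕ Fin 1) → F) :=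
    { toFun := fun z => Sum.elim (fun _ => z.2) (Sum.elim (fun _ => z.1.1 / b) fun _ => z.1.2)
      invFun := fun v => ((v (.inr (.inl 0)) * b, v (.inr (.inr 0))), v (.inl ()))
      map_add' := fun u v => by funext x; rcases x with x | x | x <;> simp [add_div]
      map_smul' := fun t v => by funext x; rcases x with x | x | x <;> simp [mul_div_assoc]
      left_inv := fun z => by simp [div_mul_cancel₀ _ hb]
      right_inv := fun v => by
        funext x
        rcases x with x | x | x
        · rfl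
        · rw [Subsingleton.elim x 0]; simp [hb]
        · rw [Subsingleton.elim x 0]; rfl }
  have hd3 : finrank F (LinearMap.range j) = 3 := by rw [LinearMap.finrank_range_of_inj hinj, hfr]
  refine ⟨LinearMap.range j, by rintro _ ⟨v, rfl⟩; exact hjC v, nondeg_range hRn hj, hd3, ?_⟩
  refine three_of_equiv h2 hb (c.trans (LinearEquiv.ofInjective j hinj)) fun z => ?_
  show Q (j (c z)) = _
  rw [hj, hR, QuadraticMap.smul_apply, smul_eq_mul, coe_qOdd]
  simp [c, Cfsg.quadFormOdd]
  field_simp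
  ring

end CfsgLib.Geo.Elusive
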