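/-
Unipotent witnesses without invariant nondegenerate subspaces of a given kind.
-/
import Cfsg.Agent.Lib.Geo.Elusive.UnipotentModels
import Cfsg.Agent.Lib.Geo.Elusive.FreeBlocks

set_option autoImplicit false
set_option maxHeartbeats 800000
set_option linter.unusedSectionVars false
set_option linter.style.haveILetI false

namespace CfsgLib.Geo.Elusive

open CfsgLib.Classical CfsgLib.Classical.Quad CfsgLib.Geo.OrthMax
open QuadraticMap (polar polarBilin)
open Module

universe u

variable {F : Type u} [Field F] [Finite F]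
variable {V : Type u} [AddCommGroup V] [Module F V] [FiniteDimensional F V] {Q : QuadraticForm F V}

theorem plus_top_comp {A : Submodule F V} (h : Plus Q A) : Plus (Q.comp A.subtype) (⊤ : Submodule F A) := by
  rw [← Submodule.comap_subtype_self A]
  exact plus_comap le_rfl h

/-- Transvection pairs on a plus-type part glued with a given map on the complement. -/
theorem exists_twos_glue (hQ : (polarBilin Q).Nondegenerate) {A : Submodule F V} (hA : Nondeg Q A) (hp : Plus Q A)
    {k : ℕ} (hd : finrank F A = 2 * (k + k)) (gB : Module.End F (OrthMax.perp Q A)) {ε s : ℕ}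
    (hB : UData (Q.comp (OrthMax.perp Q A).subtype) gB ε s) :
    ∃ (g : Module.End F V) (gA : Module.End F A), UData Q g ε s ∧ UData (Q.comp A.subtype) gA 0 0 ∧
      movedN gA = fixedK gA ∧ (∀ x ∈ fixedK gA, (Q.comp A.subtype) x = 0) ∧ finrank F (fixedK gA) = k + k ∧
      (∀ (j : ℕ) (a : A) (b : OrthMax.perp Q A), ((g - 1) ^ j) ((a : V) + b) = (((gA - 1) ^ j) a : V) + ((gB - 1) ^ j) b) ∧
      (1 ≤ k → g ≠ 1) := by
  obtain ⟨gA, hAd, hMK, hKs, hKd, -⟩ := exists_twos hA.comp (plus_top_comp hp) (k := k) hd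
  obtain ⟨g, hg, hiso, hpow⟩ := exists_glue (hA.isCompl hQ) (fun a ha b hb => mem_perp.1 hb a ha) gA gB
  have hu := glue_udata (hA.isCompl hQ) hpow (hiso hAd.iso hB.iso) hAd hB
  rw [zero_add, zero_add] at hu
  refine ⟨g, gA, hu, hAd, hMK, hKs, hKd, hpow, fun hk hg1 => ?_⟩
  have hall : fixedK gA = ⊤ := eq_top_iff.2 fun a _ => mem_fixedK.2 (Subtype.ext (by
    have h := hg a 0
    rw [hg1, map_zero, Module.End.one_apply, Submodule.coe_zero, add_zero, add_zero] at h
    exact h.symm))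
  rw [hall, finrank_top] at hKd
  omega

theorem pow_eq_one_of_cube {p : ℕ} [Fact p.Prime] [CharP F p] (hp2 : p ≠ 2) {g : Module.End F V}
    (h : (g - 1) ^ 3 = 0) : g ^ p = 1 := by
  rcases subsingleton_or_nontrivial V with hs | hn
  · exact LinearMap.ext fun v => Subsingleton.elim _ _
  haveI : CharP (Module.End F V) p := charP_of_injective_algebraMap (algebraMap F (Module.End F V)).injective p
  have h3 : 3 ≤ p := by
    have := (Fact.out : p.Prime).two_le
    omega
  have h1 := sub_pow_char_of_commute (Commute.one_right g) (p := p)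
  rw [pow_eq_zero_of_le h3 h, one_pow] at h1
  exact sub_eq_zero.1 h1.symm

/-- In odd dimension some element of order `p` has only plus-type invariant nondegenerate even subspaces. -/
theorem exists_plus_only_odd {p : ℕ} [Fact p.Prime] [CharP F p] (hp2 : p ≠ 2) (h2 : (2 : F) ≠ 0)
    (hQ : (polarBilin Q).Nondegenerate) {d : ℕ} (hd : finrank F V = 2 * d + 1) (hd3 : 2 ≤ d) :
    ∃ g : Module.End F V, g ^ p = 1 ∧ g ≠ 1 ∧ (∀ v, Q (g v) = Q v) ∧
      ∀ W : Submodule F V, (∀ v ∈ W, g v ∈ W) → Nondeg Q W → Even (finrank F W) → Plus Q W := by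
  obtain ⟨A, -, hA, hAp, hAd⟩ := exists_plus_sub (C := (⊤ : Submodule F V)) (fun x _ h => hQ.1 x fun y =>
    h y Submodule.mem_top) (k := d / 2 + d / 2) (by rw [finrank_top]; omega)
  have hBd : finrank F (OrthMax.perp Q A) = 2 * d + 1 - 2 * (d / 2 + d / 2) := by
    rw [finrank_perp hQ, hd, hAd]
  obtain ⟨gB, ε, s, hes, hB⟩ : ∃ (gB : Module.End F (OrthMax.perp Q A)) (ε s : ℕ), ε + s ≤ 1 ∧
      UData (Q.comp (OrthMax.perp Q A).subtype) gB ε s := by
    rcases Nat.even_or_odd d with ⟨l, hl⟩ | ⟨l, hl⟩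
    · exact ⟨1, _, 0, by omega, udata_one _⟩
    · obtain ⟨gB, b, -, hB, -⟩ := exists_three h2 (hA.perp hQ).comp (by omega)
      exact ⟨gB, 0, 1, le_rfl, hB⟩
  obtain ⟨g, gA, hu, -, -, -, -, -, hne⟩ := exists_twos_glue hQ hA hAp hAd gB hB
  have hgp := pow_eq_one_of_cube hp2 hu.cube
  refine ⟨g, hgp, hne (by omega), hu.iso, fun W hinv hW hev => ?_⟩
  obtain ⟨T, δ, a, hTW, hTs, -, -, hm, -, hδ, ha, -, -⟩ :=
    unipotent_dims h2 hu.iso ((Fact.out : p.Prime).odd_of_ne_two hp2) hgp hW hinv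
  have h1 := hu.fixd
  have h3 := hu.sq
  obtain ⟨j, hj⟩ := hev
  exact ⟨T, hTW, hTs, by omega⟩

end CfsgLib.Geo.Elusive
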