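/-
Unipotent witnesses with only plus-type invariant nondegenerate subspaces, in plus type spaces.
-/
import Cfsg.Agent.Lib.Geo.Elusive.UnipotentWitness

set_option autoImplicit false
set_option maxHeartbeats 800000
set_option linter.unusedSectionVars false
set_option linter.style.haveILetI false

namespace CfsgLib.Geo.Elusive

open CfsgLib.Classical CfsgLib.Classical.Quad CfsgLib.Geo.OrthMax
open QuadraticMap (polar polarBilin)
open Module

universe u

variable {F : Type u} [Field F] [Finite F]
variable {V : Type u} [AddCommGroup V] [Module F V] [FiniteDimensional F V] {Q : QuadraticForm F V}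

/-- If a singular subspace between the moved and fixed space has codimension at most one in the fixed space,
invariant nondegenerate subspaces of even dimension have plus type. -/
theorem plus_of_singular_moved {g : Module.End F V} {L : Submodule F V} (hL : ∀ x ∈ L, Q x = 0)
    (hNL : movedN g ≤ L) (hLK : L ≤ fixedK g) (hd : finrank F (fixedK g) ≤ finrank F L + 1) {W : Submodule F V}
    (hinv : ∀ v ∈ W, g v ∈ W) (hW : Nondeg Q W) (hev : Even (finrank F W)) : Plus Q W := by
  set T := L ⊓ W with hT
  let f : W →ₗ[F] V := (g - 1) ∘ₗ W.subtype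
  have h1 := LinearMap.finrank_range_add_finrank_ker f
  have hr : finrank F (LinearMap.range f) ≤ finrank F T := by
    refine Submodule.finrank_mono ?_
    rintro _ ⟨x, rfl⟩
    exact ⟨hNL ⟨(x : V), rfl⟩, W.sub_mem (hinv _ x.2) x.2⟩
  have hk : finrank F (LinearMap.ker f) ≤ finrank F T + 1 := by
    have h2 := Submodule.finrank_sup_add_finrank_inf_eq (W ⊓ fixedK g) L
    have h3 : finrank F ↥(W ⊓ fixedK g ⊔ L) ≤ finrank F (fixedK g) :=
      Submodule.finrank_mono (sup_le inf_le_right hLK)
    have h4 : finrank F ↥((W ⊓ fixedK g) ⊓ L) ≤ finrank F T :=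
      Submodule.finrank_mono fun x hx => ⟨hx.2, hx.1.1⟩
    have h5 : finrank F (LinearMap.ker f) ≤ finrank F ↥(W ⊓ fixedK g) := by
      rw [← Submodule.finrank_map_subtype_eq W (LinearMap.ker f)]
      refine Submodule.finrank_mono ?_
      rintro _ ⟨x, hx, rfl⟩
      exact ⟨x.2, hx⟩
    omega
  have h6 : 2 * finrank F (T.comap W.subtype) ≤ finrank F W :=
    two_mul_finrank_le hW.comp (W := T.comap W.subtype) fun w hw => hL _ hw.1
  rw [(Submodule.comapSubtypeEquivOfLe (inf_le_right : T ≤ W)).finrank_eq] at h6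
  obtain ⟨j, hj⟩ := hev
  have h7 : finrank F T = finrank F ↥(L ⊓ W) := rfl
  exact ⟨T, inf_le_right, fun x hx => hL x hx.1, by omega⟩

/-- A quadratic element of order the characteristic. -/
theorem pow_eq_one_of_quadratic {p : ℕ} [Fact p.Prime] [CharP F p] {g : Module.End F V}
    (h : (g - 1) ^ 2 = 0) : g ^ p = 1 := by
  rcases subsingleton_or_nontrivial V with hs | hn
  · exact LinearMap.ext fun v => Subsingleton.elim _ _
  haveI : CharP (Module.End F V) p := charP_of_injective_algebraMap (algebraMap F (Module.End F V)).injective p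
  have h1 := sub_pow_char_of_commute (Commute.one_right g) (p := p)
  rw [pow_eq_zero_of_le (Fact.out : p.Prime).two_le h, one_pow] at h1
  exact sub_eq_zero.1 h1.symm

/-- In a plus type space some element of order the characteristic has only plus type invariant
nondegenerate even subspaces. -/
theorem exists_plus_only_even {p : ℕ} [Fact p.Prime] [CharP F p] (hQ : (polarBilin Q).Nondegenerate) {d : ℕ}
    (hd : finrank F V = 2 * d) (hd2 : 2 ≤ d) (hp : Plus Q (⊤ : Submodule F V)) :
    ∃ g : Module.End F V, g ^ p = 1 ∧ g ≠ 1 ∧ (∀ v, Q (g v) = Q v) ∧ Even (finrank F (movedN g)) ∧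
      ∀ W : Submodule F V, (∀ v ∈ W, g v ∈ W) → Nondeg Q W → Even (finrank F W) → Plus Q W := by
  have htop : Nondeg Q (⊤ : Submodule F V) := fun x _ h => hQ.1 x fun y => h y Submodule.mem_top
  obtain ⟨A, k, hk, hA, hAp, hAd, hkd⟩ : ∃ (A : Submodule F V) (k : ℕ), 1 ≤ k ∧ Nondeg Q A ∧ Plus Q A ∧
      finrank F A = 2 * (k + k) ∧ 2 * d ≤ 2 * (k + k) + 2 := by
    rcases Nat.even_or_odd d with ⟨l, hl⟩ | ⟨l, hl⟩
    · exact ⟨⊤, l, by omega, htop, hp, by rw [finrank_top]; omega, by omega⟩
    · obtain ⟨A, -, hA, hAp, hAd⟩ := exists_plus_sub htop (k := l + l) (by rw [finrank_top]; omega)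
      exact ⟨A, l, by omega, hA, hAp, hAd, by omega⟩
  set B := OrthMax.perp Q A with hB
  have hBn : Nondeg Q B := hA.perp hQ
  have hcompl := hA.isCompl hQ
  have hBd : finrank F B + finrank F A = finrank F V := by
    have := Submodule.finrank_le A
    rw [hB, finrank_perp hQ]
    omega
  have hBp : Plus Q B := by
    refine plus_cancel hBn hA (fun b hb a ha => ?_) ?_ hAp
    · rw [QuadraticMap.polar_comm]; exact mem_perp.1 hb a ha
    · rw [sup_comm, hcompl.sup_eq_top]; exact hp
  obtain ⟨S, hSB, hS, hSd⟩ := hBp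
  obtain ⟨g, gA, hu, -, hMK, hKs, hKd, hpow, hne⟩ := exists_twos_glue hQ hA hAp hAd 1 (udata_one _)
  obtain ⟨hker, hrange⟩ := glue_ker hcompl hpow
  have hone : movedN (1 : Module.End F ↥B) = ⊥ ∧ fixedK (1 : Module.End F ↥B) = ⊤ :=
    ⟨by rw [movedN, sub_self]; exact LinearMap.range_zero, by rw [fixedK, sub_self]; exact LinearMap.ker_zero⟩
  rw [hone.2] at hker
  rw [hone.1, Submodule.map_bot, sup_bot_eq] at hrange
  have hsub : movedN g ≤ fixedK g := by rw [hrange, hker, hMK]; exact le_sup_left
  have hsq : (g - 1) ^ 2 = 0 := LinearMap.ext fun v => by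
    rw [pow_two, Module.End.mul_apply]
    exact hsub ⟨v, rfl⟩
  refine ⟨g, pow_eq_one_of_quadratic hsq, hne hk, hu.iso, ?_, fun W hinv hW hev => ?_⟩
  · rw [hrange, Submodule.finrank_map_subtype_eq, hMK, hKd]
    exact ⟨k, rfl⟩
  set L := (fixedK gA).map A.subtype ⊔ S with hL
  have hLs : ∀ x ∈ L, Q x = 0 := fun x hx => by
    obtain ⟨_, ⟨a, ha, rfl⟩, s, hs, rfl⟩ := Submodule.mem_sup.1 hx
    rw [apply_add, Submodule.subtype_apply, show Q (a : V) = 0 from hKs a ha, hS s hs,
      mem_perp.1 (hSB hs) _ a.2, add_zero, add_zero]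
  refine plus_of_singular_moved hLs ?_ ?_ ?_ hinv hW hev
  · rw [hrange, hMK]; exact le_sup_left
  · rw [hker, Submodule.map_subtype_top]; exact sup_le_sup_left hSB _
  · have h1 := Submodule.finrank_sup_add_finrank_inf_eq ((fixedK gA).map A.subtype) S
    have h2 : (fixedK gA).map A.subtype ⊓ S = ⊥ := le_bot_iff.1
      ((inf_le_inf (Submodule.map_subtype_le A _) hSB).trans hcompl.disjoint.le_bot)
    rw [h2, finrank_bot, Submodule.finrank_map_subtype_eq, ← hL] at h1
    have h3 := finrank_map_sup hcompl (fixedK gA) (⊤ : Submodule F B)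
    rw [← hker, finrank_top] at h3
    have hB' : finrank F ↥B = finrank F ↥(OrthMax.perp Q A) := rfl
    omega

end CfsgLib.Geo.Elusive
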