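/-
Invariant nondegenerate subspaces of involutions in characteristic two.
-/
import Cfsg.Agent.Lib.Geo.Elusive.PlusOnly
import Cfsg.Agent.Lib.Classical.ClassTheory.JordanType

set_option autoImplicit false
set_option maxHeartbeats 800000
set_option linter.unusedSectionVars false
set_option linter.style.haveILetI false

namespace CfsgLib.Geo.Elusive

open CfsgLib.Classical CfsgLib.Classical.Quad CfsgLib.Geo.OrthMax
open QuadraticMap (polar polarBilin)
open Module

universe u

variable {F : Type u} [Field F] [Finite F]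
variable {V : Type u} [AddCommGroup V] [Module F V] [FiniteDimensional F V] {Q : QuadraticForm F V}
  {g : Module.End F V}

theorem add_self_zero (h2 : (2 : F) = 0) (v : V) : v + v = 0 := by rw [← two_smul F v, h2, zero_smul]

theorem moved_twice (h2 : (2 : F) = 0) (hgg : ∀ v, g (g v) = v) (v : V) : (g - 1) ((g - 1) v) = 0 := by
  simp only [LinearMap.sub_apply, Module.End.one_apply, map_sub, hgg]
  have h := add_self_zero (F := F) h2 (v - g v)
  rw [← h]; abel

theorem polar_moved_comm (hg : ∀ v, Q (g v) = Q v) (hgg : ∀ v, g (g v) = v) (v w : V) :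
    polar Q ((g - 1) v) w = polar Q v ((g - 1) w) := by
  simp only [LinearMap.sub_apply, Module.End.one_apply, QuadraticMap.polar_sub_left, QuadraticMap.polar_sub_right]
  have h : polar Q (g (g v)) (g w) = polar Q (g v) w := by simp only [polar, ← map_add, hg]
  rw [hgg] at h
  rw [h]

theorem apply_moved (h2 : (2 : F) = 0) (hg : ∀ v, Q (g v) = Q v) (v : V) :
    Q ((g - 1) v) = polar Q ((g - 1) v) v := by
  have h := apply_add (Q := Q) ((g - 1) v) v
  rw [LinearMap.sub_apply, Module.End.one_apply, sub_add_cancel, hg] at h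
  rw [LinearMap.sub_apply, Module.End.one_apply]
  linear_combination -h - polar Q (g v - v) v * h2

/-- An invariant nondegenerate subspace with nonzero dimension contains an invariant plane or an invariant
plus type block of dimension four. -/
theorem exists_piece (h2 : (2 : F) = 0) (hg : ∀ v, Q (g v) = Q v) (hgg : ∀ v, g (g v) = v) {C : Submodule F V}
    (hC : Nondeg Q C) (hinv : ∀ v ∈ C, g v ∈ C) (hpos : 2 ≤ finrank F C) (hev : Even (finrank F C)) :
    ∃ X : Submodule F V, X ≤ C ∧ Nondeg Q X ∧ (∀ v ∈ X, g v ∈ X) ∧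
      (finrank F X = 2 ∨ (finrank F X = 4 ∧ Plus Q X)) := by
  classical
  have hNC : ∀ v ∈ C, (g - 1) v ∈ C := fun v hv => C.sub_mem (hinv v hv) hv
  have hgN : ∀ v, g v = v + (g - 1) v := fun v => by
    rw [LinearMap.sub_apply, Module.End.one_apply, add_sub_cancel]
  have hpp : ∀ v, polar Q v v = 0 := fun v => by rw [polar_self', h2, zero_mul]
  have hNN : ∀ v w, polar Q ((g - 1) v) ((g - 1) w) = 0 := fun v w => by
    rw [polar_moved_comm hg hgg, moved_twice h2 hgg, ← QuadraticMap.polarBilin_apply_apply, map_zero]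
  by_cases hone : ∃ v ∈ C, polar Q ((g - 1) v) v ≠ 0
  · obtain ⟨v, hv, hc⟩ := hone
    set c := polar Q ((g - 1) v) v with hcdef
    have key : ∀ a b : F, (∀ y ∈ Submodule.span F ({v, (g - 1) v} : Set V), polar Q (a • v + b • (g - 1) v) y = 0) →
        a = 0 ∧ b = 0 := fun a b h => by
      have h1 := h _ (Submodule.subset_span (Or.inr rfl))
      have h3 := h v (Submodule.subset_span (Or.inl rfl))
      rw [polar_add_left', polar_smul_left', polar_smul_left', hNN, QuadraticMap.polar_comm (⇑Q) v, ← hcdef,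
        mul_zero, add_zero] at h1
      rw [polar_add_left', polar_smul_left', polar_smul_left', hpp, ← hcdef, mul_zero, zero_add] at h3
      exact ⟨(mul_eq_zero.1 h1).resolve_right hc, (mul_eq_zero.1 h3).resolve_right hc⟩
    have hli : LinearIndependent F ![v, (g - 1) v] := LinearIndependent.pair_iff.2 fun s t hst =>
      key s t fun y _ => by rw [hst, ← QuadraticMap.polarBilin_apply_apply, map_zero, LinearMap.zero_apply]
    refine ⟨Submodule.span F {v, (g - 1) v}, Submodule.span_le.2 ?_, fun x hx hall => ?_, fun x hx => ?_, Or.inl ?_⟩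
    · rintro _ (rfl | rfl)
      · exact hv
      · exact hNC v hv
    · obtain ⟨a, b, rfl⟩ := Submodule.mem_span_pair.1 hx
      obtain ⟨rfl, rfl⟩ := key a b hall
      simp
    · obtain ⟨a, b, rfl⟩ := Submodule.mem_span_pair.1 hx
      have h1 : g ((g - 1) v) = (g - 1) v := by rw [hgN ((g - 1) v), moved_twice h2 hgg, add_zero]
      rw [map_add, map_smul, map_smul, h1, hgN v, smul_add]
      exact add_mem (add_mem (Submodule.smul_mem _ _ (Submodule.subset_span (Or.inl rfl)))
        (Submodule.smul_mem _ _ (Submodule.subset_span (Or.inr rfl))))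
        (Submodule.smul_mem _ _ (Submodule.subset_span (Or.inr rfl)))
    · rw [← Matrix.range_cons_cons_empty v ((g - 1) v) ![], finrank_span_eq_card hli, Fintype.card_fin]
  push Not at hone
  by_cases hzero : ∀ v ∈ C, (g - 1) v = 0
  · have hfix : ∀ {X : Submodule F V}, X ≤ C → ∀ x ∈ X, g x ∈ X := fun hX x hx => by
      rw [hgN, hzero x (hX hx), add_zero]; exact hx
    rcases eq_or_lt_of_le hpos with h | h
    · exact ⟨C, le_rfl, hC, hinv, Or.inl h.symm⟩
    · obtain ⟨X, hX, hXn, -, hXd⟩ := exists_plus_sub hC (k := 1) (by omega)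
      exact ⟨X, hX, hXn, hfix hX, Or.inl hXd⟩
  push Not at hzero
  obtain ⟨v, hv, hNv⟩ := hzero
  obtain ⟨w, hw, hc⟩ : ∃ w ∈ C, polar Q ((g - 1) v) w ≠ 0 := by
    by_contra hall
    push Not at hall
    exact hNv (hC _ (hNC v hv) hall)
  set c := polar Q ((g - 1) v) w with hcdef
  set e : Fin 4 → V := ![v, w, (g - 1) v, (g - 1) w] with he
  have hmem : ∀ i, e i ∈ Submodule.span F (Set.range e) := fun i => Submodule.subset_span ⟨i, rfl⟩
  have e1 : polar Q v ((g - 1) v) = 0 := by rw [QuadraticMap.polar_comm]; exact hone v hv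
  have e2 : polar Q w ((g - 1) v) = c := by rw [QuadraticMap.polar_comm]
  have e3 : polar Q v ((g - 1) w) = c := by rw [← polar_moved_comm hg hgg]
  have e4 : polar Q w ((g - 1) w) = 0 := by rw [QuadraticMap.polar_comm]; exact hone w hw
  have e5 : polar Q ((g - 1) w) v = c := by rw [QuadraticMap.polar_comm, e3]
  have key : ∀ l : Fin 4 → F, (∀ y ∈ Submodule.span F (Set.range e), polar Q (∑ i, l i • e i) y = 0) →
      ∀ i, l i = 0 := fun l h => by
    have hexp : ∀ y, polar Q (∑ i, l i • e i) y = l 0 * polar Q v y + l 1 * polar Q w y +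
        l 2 * polar Q ((g - 1) v) y + l 3 * polar Q ((g - 1) w) y := fun y => by
      simp only [Fin.sum_univ_four, polar_add_left', polar_smul_left', he]
      rfl
    have hy : ∀ i, polar Q (∑ i, l i • e i) (e i) = 0 := fun i => h _ (hmem i)
    have h0 := hy 0
    have h1 := hy 1
    have h3 := hy 2
    have h4 := hy 3
    rw [hexp] at h0 h1 h3 h4
    change l 0 * polar Q v v + l 1 * polar Q w v + l 2 * polar Q ((g - 1) v) v + l 3 * polar Q ((g - 1) w) v = 0 at h0
    change l 0 * polar Q v w + l 1 * polar Q w w + l 2 * polar Q ((g - 1) v) w + l 3 * polar Q ((g - 1) w) w = 0 at h1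
    change l 0 * polar Q v ((g - 1) v) + l 1 * polar Q w ((g - 1) v) + l 2 * polar Q ((g - 1) v) ((g - 1) v) +
      l 3 * polar Q ((g - 1) w) ((g - 1) v) = 0 at h3
    change l 0 * polar Q v ((g - 1) w) + l 1 * polar Q w ((g - 1) w) + l 2 * polar Q ((g - 1) v) ((g - 1) w) +
      l 3 * polar Q ((g - 1) w) ((g - 1) w) = 0 at h4
    rw [hpp, hone v hv, e5] at h0
    rw [hpp, ← hcdef, hone w hw] at h1
    rw [e1, e2, hNN, hNN] at h3
    rw [e3, e4, hNN, hNN] at h4
    simp only [mul_zero, add_zero, zero_add] at h0 h1 h3 h4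
    have hl0 := (mul_eq_zero.1 h4).resolve_right hc
    have hl1 := (mul_eq_zero.1 h3).resolve_right hc
    rw [hl1, zero_mul, zero_add] at h0
    rw [hl0, zero_mul, zero_add] at h1
    intro i
    fin_cases i
    · exact hl0
    · exact hl1
    · exact (mul_eq_zero.1 h1).resolve_right hc
    · exact (mul_eq_zero.1 h0).resolve_right hc
  have hli : LinearIndependent F e := Fintype.linearIndependent_iff.2 fun l hl =>
    key l fun y _ => by rw [hl, ← QuadraticMap.polarBilin_apply_apply, map_zero, LinearMap.zero_apply]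
  have hgfix : ∀ u, g ((g - 1) u) = (g - 1) u := fun u => by rw [hgN ((g - 1) u), moved_twice h2 hgg, add_zero]
  refine ⟨Submodule.span F (Set.range e), Submodule.span_le.2 ?_, fun x hx hall => ?_, fun x hx => ?_, Or.inr ⟨?_, ?_⟩⟩
  · rintro _ ⟨i, rfl⟩
    fin_cases i
    · exact hv
    · exact hw
    · exact hNC v hv
    · exact hNC w hw
  · obtain ⟨l, rfl⟩ := (Submodule.mem_span_range_iff_exists_fun F).1 hx
    exact Finset.sum_eq_zero fun i _ => by rw [key l hall i, zero_smul]
  · have hle : Submodule.span F (Set.range e) ≤ (Submodule.span F (Set.range e)).comap g := by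
      rw [Submodule.span_le]
      rintro _ ⟨i, rfl⟩
      rw [SetLike.mem_coe, Submodule.mem_comap]
      fin_cases i
      · show g v ∈ _
        rw [hgN v]; exact add_mem (hmem 0) (hmem 2)
      · show g w ∈ _
        rw [hgN w]; exact add_mem (hmem 1) (hmem 3)
      · show g ((g - 1) v) ∈ _
        rw [hgfix]; exact hmem 2
      · show g ((g - 1) w) ∈ _
        rw [hgfix]; exact hmem 3
    exact hle hx
  · rw [finrank_span_eq_card hli, Fintype.card_fin]
  · have hli2 : LinearIndependent F ![(g - 1) v, (g - 1) w] := LinearIndependent.pair_iff.2 fun s t hst => by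
      have h := Fintype.linearIndependent_iff.1 hli ![0, 0, s, t] (by
        simp only [Fin.sum_univ_four, he]
        simpa using hst)
      exact ⟨h 2, h 3⟩
    refine ⟨Submodule.span F {(g - 1) v, (g - 1) w}, Submodule.span_le.2 ?_, fun x hx => ?_, ?_⟩
    · rintro _ (rfl | rfl)
      · exact hmem 2
      · exact hmem 3
    · obtain ⟨a, b, rfl⟩ := Submodule.mem_span_pair.1 hx
      rw [apply_add, apply_smul, apply_smul, polar_smul_left', polar_smul_right', hNN, apply_moved h2 hg,
        apply_moved h2 hg, hone v hv, hone w hw]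
      ring
    · rw [← Matrix.range_cons_cons_empty _ _ ![], finrank_span_eq_card hli2, finrank_span_eq_card hli,
        Fintype.card_fin, Fintype.card_fin]

/-- Splitting into planes and blocks: the available dimensions and types of invariant subspaces. -/
theorem involution_units (h2 : (2 : F) = 0) (hg : ∀ v, Q (g v) = Q v) (hgg : ∀ v, g (g v) = v) (N : ℕ) :
    ∀ {C : Submodule F V}, finrank F C ≤ N → Nondeg Q C → (∀ v ∈ C, g v ∈ C) → Even (finrank F C) →
      ∃ π μ b : ℕ, finrank F C = 2 * (π + μ + 2 * b) ∧ (Plus Q C ↔ Even μ) ∧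
        ∀ π' μ' b', π' ≤ π → μ' ≤ μ → b' ≤ b →
          ∃ W : Submodule F V, W ≤ C ∧ Nondeg Q W ∧ (∀ v ∈ W, g v ∈ W) ∧
            finrank F W = 2 * (π' + μ' + 2 * b') ∧ (Plus Q W ↔ Even μ') := by
  induction N with
  | zero =>
    intro C hle _ _ _
    have hC0 : C = ⊥ := Submodule.finrank_eq_zero.1 (Nat.le_zero.1 hle)
    subst hC0
    refine ⟨0, 0, 0, by rw [finrank_bot], iff_of_true plus_bot ⟨0, rfl⟩, fun π' μ' b' h1 h3 h4 => ?_⟩
    obtain rfl := Nat.le_zero.1 h1
    obtain rfl := Nat.le_zero.1 h3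
    obtain rfl := Nat.le_zero.1 h4
    refine ⟨⊥, le_rfl, fun x hx _ => (Submodule.mem_bot F).1 hx, fun v hv => ?_, by rw [finrank_bot],
      iff_of_true plus_bot ⟨0, rfl⟩⟩
    rw [(Submodule.mem_bot F).1 hv, map_zero]; exact zero_mem _
  | succ N ih =>
    intro C hle hC hinv hev
    by_cases h0 : finrank F C ≤ N
    · exact ih h0 hC hinv hev
    obtain ⟨e, he⟩ := hev
    obtain ⟨X, hXC, hX, hXinv, hXd⟩ := exists_piece h2 hg hgg hC hinv (by omega) ⟨e, he⟩
    obtain ⟨hY, hsup, hd⟩ := nondeg_inf_perp hX hC hXC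
    set Y := C ⊓ OrthMax.perp Q X with hYdef
    have hYinv : ∀ v ∈ Y, g v ∈ Y := fun v hv => ⟨hinv v hv.1, mem_perp.2 fun x hx => by
      have h : polar Q (g (g x)) (g v) = polar Q (g x) v := by simp only [polar, ← map_add, hg]
      rw [hgg] at h
      rw [h]
      exact mem_perp.1 hv.2 _ (hXinv x hx)⟩
    have hXev : Even (finrank F X) := by
      rcases hXd with h | ⟨h, -⟩
      · exact ⟨1, by omega⟩
      · exact ⟨2, by omega⟩
    have hYev : Even (finrank F Y) := by
      obtain ⟨j, hj⟩ := hXev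
      exact ⟨e - j, by omega⟩
    obtain ⟨π, μ, b, hYd, hYp, hall⟩ := ih (C := Y) (by rcases hXd with h | ⟨h, -⟩ <;> omega) hY hYinv hYev
    have horth : ∀ x ∈ X, ∀ y ∈ Y, polar Q x y = 0 := fun x hx y hy => mem_perp.1 hy.2 x hx
    have hCp : Plus Q C ↔ (Plus Q X ↔ Plus Q Y) := by rw [← hsup]; exact plus_sup_iff hX hY horth hXev hYev
    have combine : ∀ {W : Submodule F V}, W ≤ Y → Nondeg Q W → (∀ v ∈ W, g v ∈ W) → Even (finrank F W) →
        ∃ U : Submodule F V, U ≤ C ∧ Nondeg Q U ∧ (∀ v ∈ U, g v ∈ U) ∧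
          finrank F U = finrank F X + finrank F W ∧ (Plus Q U ↔ (Plus Q X ↔ Plus Q W)) := fun hW hWn hWi hWe => by
      refine ⟨X ⊔ _, sup_le hXC (hW.trans inf_le_left), nondeg_sup hX hWn fun x hx y hy => horth x hx y (hW hy), ?_,
        finrank_sup_orth hX fun x hx y hy => horth x hx y (hW hy),
        plus_sup_iff hX hWn (fun x hx y hy => horth x hx y (hW hy)) hXev hWe⟩
      intro v hv
      obtain ⟨x, hx, y, hy, rfl⟩ := Submodule.mem_sup.1 hv
      rw [map_add]
      exact Submodule.add_mem_sup (hXinv x hx) (hWi y hy)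
    have keep : ∀ π' μ' b', π' ≤ π → μ' ≤ μ → b' ≤ b →
        ∃ W : Submodule F V, W ≤ C ∧ Nondeg Q W ∧ (∀ v ∈ W, g v ∈ W) ∧
          finrank F W = 2 * (π' + μ' + 2 * b') ∧ (Plus Q W ↔ Even μ') := fun π' μ' b' h1 h3 h4 => by
      obtain ⟨W, hW, hrest⟩ := hall π' μ' b' h1 h3 h4
      exact ⟨W, hW.trans inf_le_left, hrest⟩
    rcases hXd with hX2 | ⟨hX4, hXp⟩
    · by_cases hXp : Plus Q X
      · refine ⟨π + 1, μ, b, by omega, by rw [hCp, hYp, iff_true_left hXp], fun π' μ' b' h1 h3 h4 => ?_⟩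
        by_cases hlt : π' ≤ π
        · exact keep π' μ' b' hlt h3 h4
        obtain ⟨W, hW, hWn, hWi, hWd, hWp⟩ := hall π μ' b' le_rfl h3 h4
        obtain ⟨U, hU, hUn, hUi, hUd, hUp⟩ := combine hW hWn hWi ⟨π + μ' + 2 * b', by omega⟩
        exact ⟨U, hU, hUn, hUi, by omega, by rw [hUp, hWp, iff_true_left hXp]⟩
      · refine ⟨π, μ + 1, b, by omega, by rw [hCp, hYp, iff_false_left hXp, Nat.even_add_one],
          fun π' μ' b' h1 h3 h4 => ?_⟩
        by_cases hlt : μ' ≤ μ
        · exact keep π' μ' b' h1 hlt h4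
        obtain ⟨W, hW, hWn, hWi, hWd, hWp⟩ := hall π' μ b' h1 le_rfl h4
        obtain ⟨U, hU, hUn, hUi, hUd, hUp⟩ := combine hW hWn hWi ⟨π' + μ + 2 * b', by omega⟩
        exact ⟨U, hU, hUn, hUi, by omega,
          by rw [hUp, hWp, iff_false_left hXp, show μ' = μ + 1 by omega, Nat.even_add_one]⟩
    · refine ⟨π, μ, b + 1, by omega, by rw [hCp, hYp, iff_true_left hXp], fun π' μ' b' h1 h3 h4 => ?_⟩
      by_cases hlt : b' ≤ b
      · exact keep π' μ' b' h1 h3 hlt
      obtain ⟨W, hW, hWn, hWi, hWd, hWp⟩ := hall π' μ' b h1 h3 le_rfl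
      obtain ⟨U, hU, hUn, hUi, hUd, hUp⟩ := combine hW hWn hWi ⟨π' + μ' + 2 * b, by omega⟩
      exact ⟨U, hU, hUn, hUi, by omega, by rw [hUp, hWp, iff_true_left hXp]⟩

/-- An involution fixes a subspace of given even dimension and type, apart from two exceptional patterns. -/
theorem involution_two_fix (h2 : (2 : F) = 0) (hQ : (polarBilin Q).Nondegenerate) (hg : ∀ v, Q (g v) = Q v)
    (hgg : ∀ v, g (g v) = v) {d e : ℕ} (hd : finrank F V = 2 * d) (he : 1 ≤ e) (hed : e < d)
    (S : Prop) (hS : S ↔ Plus Q (⊤ : Submodule F V))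
    (hcase : (S ∧ (Odd d ∨ Even e)) ∨ (¬ S ∧ (Even d ∨ Odd e))) :
    ∃ W : Submodule F V, (∀ v ∈ W, g v ∈ W) ∧ Nondeg Q W ∧ finrank F W = 2 * e ∧ (Plus Q W ↔ S) := by
  obtain ⟨π, μ, b, hdim, hp, hall⟩ := involution_units h2 hg hgg (finrank F V) (C := (⊤ : Submodule F V))
    (by rw [finrank_top]) (fun x _ h => hQ.1 x fun y => h y Submodule.mem_top) (fun _ _ => Submodule.mem_top)
    ⟨d, by rw [finrank_top]; omega⟩
  rw [finrank_top] at hdim
  have hSμ : S ↔ Even μ := hS.trans hp
  have key : ∃ π' μ' b', π' ≤ π ∧ μ' ≤ μ ∧ b' ≤ b ∧ e = π' + μ' + 2 * b' ∧ (Even μ' ↔ Even μ) := by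
    rcases hcase with ⟨hs, h⟩ | ⟨hs, h⟩
    · have hμ : μ % 2 = 0 := Nat.even_iff.1 (hSμ.1 hs)
      rw [Nat.odd_iff, Nat.even_iff] at h
      set u := min b (e / 2)
      set s := e - 2 * u
      refine ⟨s - min μ (s - s % 2), min μ (s - s % 2), u, ?_, min_le_left _ _, min_le_left _ _, by omega, ?_⟩
      · omega
      · rw [Nat.even_iff, Nat.even_iff]; omega
    · have hμ : μ % 2 = 1 := by
        rw [← Nat.not_even_iff]; exact fun h' => hs (hSμ.2 h')
      rw [Nat.odd_iff, Nat.even_iff] at h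
      set u := min b ((e - 1) / 2)
      set s := e - 2 * u
      refine ⟨s - min μ (s - 1 + s % 2), min μ (s - 1 + s % 2), u, ?_, min_le_left _ _, min_le_left _ _,
        by omega, ?_⟩
      · omega
      · rw [Nat.even_iff, Nat.even_iff]; omega
  obtain ⟨π', μ', b', h1, h3, h4, he', hpar⟩ := key
  obtain ⟨W, -, hW, hWi, hWd, hWp⟩ := hall π' μ' b' h1 h3 h4
  exact ⟨W, hWi, hW, by omega, hWp.trans (hpar.trans hSμ.symm)⟩

/-- Invariant subspaces of an involution whose moved space lies in a singular space close to the fixed space. -/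
theorem involution_two_shape (h2 : (2 : F) = 0) (hg : ∀ v, Q (g v) = Q v) {L : Submodule F V}
    (hL : ∀ x ∈ L, Q x = 0) (hNL : movedN g ≤ L) {ε : ℕ} (hε : ε ≤ 2) (hLK : L ≤ fixedK g)
    (hd : finrank F (fixedK g) ≤ finrank F L + ε) {W : Submodule F V}
    (hinv : ∀ v ∈ W, g v ∈ W) (hW : Nondeg Q W) (hev : Even (finrank F W)) :
    (Plus Q W ∧ (ε = 0 → finrank F W % 4 = 0)) ∨ (ε = 2 ∧ finrank F W % 4 = 2) := by
  set T := L ⊓ W with hT
  let f : W →ₗ[F] V := (g - 1) ∘ₗ W.subtype
  have h1 := LinearMap.finrank_range_add_finrank_ker f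
  have hr : finrank F (LinearMap.range f) ≤ finrank F T := by
    refine Submodule.finrank_mono ?_
    rintro _ ⟨x, rfl⟩
    exact ⟨hNL ⟨(x : V), rfl⟩, W.sub_mem (hinv _ x.2) x.2⟩
  have heven : Even (finrank F (LinearMap.range f)) := by
    let M : Module.End F W := g.restrict hinv - 1
    have hM : ∀ u : W, ((M u : W) : V) = (g - 1) (u : V) := fun u => rfl
    have hM' : ∀ u, polarBilin (Q.comp W.subtype) u (M u) = 0 := fun u => by
      show polar (Q.comp W.subtype) u (M u) = 0
      rw [polar_comp, hM, QuadraticMap.polar_comm, ← apply_moved h2 hg]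
      exact hL _ (hNL ⟨(u : V), rfl⟩)
    have h := CfsgLib.Classical.ClassTheory.even_finrank_range_of_alt hW.comp M hM'
    have hf : f = W.subtype ∘ₗ M := LinearMap.ext fun u => (hM u).symm
    rw [hf, LinearMap.range_comp, Submodule.finrank_map_subtype_eq]
    exact h
  have hk : finrank F (LinearMap.ker f) ≤ finrank F T + ε := by
    have h3 := Submodule.finrank_sup_add_finrank_inf_eq (W ⊓ fixedK g) L
    have h4 : finrank F ↥(W ⊓ fixedK g ⊔ L) ≤ finrank F (fixedK g) :=
      Submodule.finrank_mono (sup_le inf_le_right hLK)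
    have h5 : finrank F ↥((W ⊓ fixedK g) ⊓ L) ≤ finrank F T := Submodule.finrank_mono fun x hx => ⟨hx.2, hx.1.1⟩
    have h6 : finrank F (LinearMap.ker f) ≤ finrank F ↥(W ⊓ fixedK g) := by
      rw [← Submodule.finrank_map_subtype_eq W (LinearMap.ker f)]
      refine Submodule.finrank_mono ?_
      rintro _ ⟨x, hx, rfl⟩
      exact ⟨x.2, hx⟩
    omega
  have h7 : 2 * finrank F (T.comap W.subtype) ≤ finrank F W :=
    two_mul_finrank_le hW.comp (W := T.comap W.subtype) fun w hw => hL _ hw.1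
  rw [(Submodule.comapSubtypeEquivOfLe (inf_le_right : T ≤ W)).finrank_eq] at h7
  have h8 : finrank F T = finrank F ↥(L ⊓ W) := rfl
  obtain ⟨j, hj⟩ := hev
  obtain ⟨i, hi⟩ := heven
  by_cases hhalf : 2 * finrank F T = finrank F W
  · exact Or.inl ⟨⟨T, inf_le_right, fun x hx => hL x hx.1, hhalf⟩, fun _ => by omega⟩
  · exact Or.inr ⟨by omega, by omega⟩

end CfsgLib.Geo.Elusive
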