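/-
Elements of odd prime order of matrix orthogonal groups and the criterion for nondegenerate subspaces.
-/
import Cfsg.Agent.Lib.Geo.Elusive.Degenerate
import Cfsg.Agent.Lib.Classical.Quad.OmegaIndex

set_option autoImplicit false
set_option maxHeartbeats 800000
set_option linter.unusedSectionVars false
set_option linter.style.haveILetI false

namespace CfsgLib.Geo.Elusive

open CfsgLib.Classical CfsgLib.Classical.Quad CfsgLib.Geo.OrthMax CfsgLib.Geo.PrimeAct
open QuadraticMap (polar polarBilin)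
open Module

universe u

variable {F : Type u} [Field F] [Finite F] {r : ℕ} [Fact r.Prime]
variable {ι : Type} [Fintype ι] [DecidableEq ι] {Q : QuadraticForm F (ι → F)}

theorem isometry_of_mem {x : GL ι F} (hx : x ∈ Cfsg.Geo.omegaGL (⇑Q)) (v : ι → F) :
    Q ((x : Matrix ι ι F).mulVec v) = Q v := by
  obtain ⟨g, -, rfl⟩ := hx
  exact g.2 v v

theorem isometry_of_mem_lin {x : GL ι F} (hx : x ∈ Cfsg.Geo.omegaGL (⇑Q)) (v : ι → F) :
    Q (Matrix.toLinAlgEquiv' (x : Matrix ι ι F) v) = Q v := by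
  rw [Matrix.toLinAlgEquiv'_apply]; exact isometry_of_mem hx v

/-- Isometries of odd order lie in `Ω`. -/
theorem exists_omega_of_odd (hQ : (polarBilin Q).Nondegenerate) (hn : 5 ≤ Fintype.card ι) (hr2 : r ≠ 2)
    (g : Module.End F (ι → F)) (hgr : g ^ r = 1) (hg : ∀ v, Q (g v) = Q v) :
    ∃ x : GL ι F, x ∈ Cfsg.Geo.omegaGL (⇑Q) ∧ x ^ r = 1 ∧ Matrix.toLinAlgEquiv' (x : Matrix ι ι F) = g := by
  have hr0 : r ≠ 0 := (Fact.out : r.Prime).ne_zero
  have hM : (LinearMap.toMatrixAlgEquiv' g) ^ r = 1 := by rw [← map_pow, hgr, map_one]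
  let U : GL ι F := Units.ofPowEqOne _ r hM hr0
  have hU : Matrix.toLinAlgEquiv' (U : Matrix ι ι F) = g := Matrix.toLinAlgEquiv'_toMatrixAlgEquiv' g
  have hmem : U ∈ Cfsg.isometryGroup F ⇑Q := fun u v => by
    show Q ((U : Matrix ι ι F).mulVec u) = Q u
    rw [← Matrix.toLinAlgEquiv'_apply, hU, hg]
  have hUr : U ^ r = 1 := Units.ext (by rw [Units.val_pow_eq_pow_val]; exact hM)
  refine ⟨U, ⟨⟨U, hmem⟩, ?_, rfl⟩, hUr, hU⟩
  have hex : (∃ c : F, c ≠ 0 ∧ c ≠ 1) ∨ Fintype.card ι ≠ 4 := Or.inr (by omega)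
  show (⟨U, hmem⟩ : ↥(Cfsg.isometryGroup F ⇑Q)) ∈ Cfsg.Omega F (⇑Q)
  rw [← ker_invHomM hQ hex (by omega), MonoidHom.mem_ker]
  set a : ↥(Cfsg.isometryGroup F ⇑Q) := ⟨U, hmem⟩ with ha
  have har : a ^ r = 1 := Subtype.ext (by rw [Subgroup.coe_pow, ha, hUr, Subgroup.coe_one])
  obtain ⟨k, hk⟩ := (Fact.out : r.Prime).odd_of_ne_two hr2
  have hsq : a = a ^ (k + 1) * a ^ (k + 1) := by
    rw [← pow_add, show k + 1 + (k + 1) = r + 1 by omega, pow_succ, har, one_mul]
  rw [hsq, map_mul]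
  generalize invHomM hQ hex (a ^ (k + 1)) = y
  obtain ⟨y₁, y₂⟩ := y
  refine Prod.ext ?_ (sqClass_mul_self y₂)
  show y₁ * y₁ = 1
  exact Multiplicative.toAdd.injective (by simp [CharTwo.add_self_eq_zero])

variable (P : Submodule F (ι → F) → Prop)

/-- Elements of odd prime order modulo scalars, as maps of that order. -/
theorem allFix_scalar_iff (hQ : (polarBilin Q).Nondegenerate) (hn : 5 ≤ Fintype.card ι) (hr2 : r ≠ 2) :
    (∀ x : GL ι F, x ∈ Cfsg.Geo.omegaGL (⇑Q) →
      (∃ z : F, ((x ^ r : GL ι F) : Matrix ι ι F) = z • (1 : Matrix ι ι F)) →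
      (∀ z : F, (x : Matrix ι ι F) ≠ z • (1 : Matrix ι ι F)) →
      ∃ W : Submodule F (ι → F), P W ∧ W.map (Matrix.toLin' (x : Matrix ι ι F)) ≤ W) ↔
    ∀ g : Module.End F (ι → F), g ^ r = 1 → g ≠ 1 → (∀ v, Q (g v) = Q v) →
      ∃ W : Submodule F (ι → F), (∀ v ∈ W, g v ∈ W) ∧ P W := by
  haveI : Nontrivial (ι → F) := Module.nontrivial_of_finrank_pos (R := F) (by rw [finrank_pi]; omega)
  obtain ⟨v₀, hv₀⟩ := exists_apply_ne_zero hQ
  obtain ⟨k, hk⟩ := (Fact.out : r.Prime).odd_of_ne_two hr2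
  constructor
  · intro h g hgr hg1 hg
    obtain ⟨x, hx, hxr, hxg⟩ := exists_omega_of_odd hQ hn hr2 g hgr hg
    obtain ⟨W, hW, hmap⟩ := h x hx ⟨1, by rw [hxr, Units.val_one, one_smul]⟩ fun z hz => hg1 (by
      rw [hz, map_smul, map_one] at hxg
      have h1 := hg v₀
      rw [← hxg, LinearMap.smul_apply, Module.End.one_apply, apply_smul] at h1
      have hzz : z * z = 1 := mul_right_cancel₀ hv₀ (h1.trans (one_mul _).symm)
      have hzr : z ^ r = 1 := by
        have h2 := congrArg (fun f : Module.End F (ι → F) => f v₀) hgr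
        have hv0 : v₀ ≠ 0 := fun h => hv₀ (by rw [h, QuadraticMap.map_zero])
        simp only [← hxg, smul_pow, one_pow, LinearMap.smul_apply, Module.End.one_apply] at h2
        exact smul_left_injective F hv0 (h2.trans (one_smul F v₀).symm)
      rw [hk, pow_succ, pow_mul, pow_two, hzz, one_pow, one_mul] at hzr
      rw [← hxg, hzr, one_smul])
    refine ⟨W, fun v hv => ?_, hW⟩
    have h1 := hmap (Submodule.mem_map_of_mem hv)
    rw [← hxg]
    simpa only [Matrix.toLin'_apply, Matrix.toLinAlgEquiv'_apply] using h1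
  · intro h x hx ⟨z, hz⟩ hns
    set f := Matrix.toLinAlgEquiv' (x : Matrix ι ι F) with hf
    have hfi : ∀ v, Q (f v) = Q v := isometry_of_mem_lin hx
    have hfr : f ^ r = z • 1 := by rw [hf, ← map_pow, ← Units.val_pow_eq_pow_val, hz, map_smul, map_one]
    have hzz : z * z = 1 := by
      have h1 : ∀ j, Q ((f ^ j) v₀) = Q v₀ := fun j => by
        induction j with
        | zero => rfl
        | succ j ih => rw [pow_succ', Module.End.mul_apply, hfi, ih]
      have h2 := h1 r
      rw [hfr, LinearMap.smul_apply, Module.End.one_apply, apply_smul] at h2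
      exact mul_right_cancel₀ hv₀ (h2.trans (one_mul _).symm)
    obtain ⟨W, hW, hP⟩ := h (z • f) (by
        rw [smul_pow, hfr, smul_smul, hk, pow_succ, pow_mul, pow_two, hzz, one_pow, one_mul, hzz, one_smul])
      (fun he => hns z (Matrix.toLinAlgEquiv'.injective (by
        rw [map_smul, map_one, ← hf, ← one_smul F f, ← hzz, mul_smul, he])))
      fun v => by rw [LinearMap.smul_apply, apply_smul, hzz, one_mul, hfi]
    refine ⟨W, hP, ?_⟩
    rintro _ ⟨v, hv, rfl⟩
    have h1 := W.smul_mem z (hW v hv)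
    rw [LinearMap.smul_apply, smul_smul, hzz, one_smul, hf] at h1
    simpa only [Matrix.toLin'_apply, Matrix.toLinAlgEquiv'_apply] using h1

/-- Elements of odd prime order as maps of that order. -/
theorem allFix_order_iff (hQ : (polarBilin Q).Nondegenerate) (hn : 5 ≤ Fintype.card ι) (hr2 : r ≠ 2) :
    (∀ x : GL ι F, x ∈ Cfsg.Geo.omegaGL (⇑Q) → orderOf x = r →
      ∃ W : Submodule F (ι → F), P W ∧ W.map (Matrix.toLin' (x : Matrix ι ι F)) ≤ W) ↔
    ∀ g : Module.End F (ι → F), g ^ r = 1 → g ≠ 1 → (∀ v, Q (g v) = Q v) →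
      ∃ W : Submodule F (ι → F), (∀ v ∈ W, g v ∈ W) ∧ P W := by
  constructor
  · intro h g hgr hg1 hg
    obtain ⟨x, hx, hxr, hxg⟩ := exists_omega_of_odd hQ hn hr2 g hgr hg
    have hx1 : x ≠ 1 := fun e => hg1 (by rw [← hxg, e, Units.val_one, map_one])
    obtain ⟨W, hW, hmap⟩ := h x hx (orderOf_eq_prime hxr hx1)
    refine ⟨W, fun v hv => ?_, hW⟩
    have h1 := hmap (Submodule.mem_map_of_mem hv)
    rw [← hxg]
    simpa only [Matrix.toLin'_apply, Matrix.toLinAlgEquiv'_apply] using h1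
  · intro h x hx ho
    have hxr : x ^ r = 1 := ho ▸ pow_orderOf_eq_one x
    obtain ⟨W, hW, hP⟩ := h (Matrix.toLinAlgEquiv' (x : Matrix ι ι F))
      (by rw [← map_pow, ← Units.val_pow_eq_pow_val, hxr, Units.val_one, map_one])
      (fun he => (Fact.out : r.Prime).ne_one (by
        rw [← ho, show x = 1 from Units.ext (Matrix.toLinAlgEquiv'.injective (he.trans (map_one _).symm)), orderOf_one]))
      (isometry_of_mem_lin hx)
    refine ⟨W, hP, ?_⟩
    rintro _ ⟨v, hv, rfl⟩
    simpa only [Matrix.toLin'_apply, Matrix.toLinAlgEquiv'_apply] using hW v hv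

variable {V : Type u} [AddCommGroup V] [Module F V] [FiniteDimensional F V] {R : QuadraticForm F V} {W₀ : Submodule F V}

local notation "ordq" => orderOf (Nat.card F : ZMod r)

theorem rest_eq_bot_of_small (hr2 : r ≠ 2) (hrF : (r : F) ≠ 0) {g : Module.End F V}
    (hgr : g ^ r = 1) (hg : ∀ v, R (g v) = R v) {W : Submodule F V} (hW : Nondeg R W) (hinv : ∀ v ∈ W, g v ∈ W)
    (hlt : finrank F W < cstep ordq) : W ≤ fixSp g := by
  have hsplit := finrank_split hgr hrF W hinv
  set WC := W ⊓ fixSp g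
  set WR := W ⊓ restSp r g
  have horth : ∀ a ∈ WR, ∀ b ∈ WC, polar R a b = 0 := fun a ha b hb => by
    rw [QuadraticMap.polar_comm]; exact polar_fix_rest hg hrF b hb.2 a ha.2
  have hinf : WR ⊓ WC = ⊥ := le_bot_iff.1 ((inf_le_inf inf_le_right inf_le_right).trans
    (inf_comm (restSp r g) (fixSp g) ▸ disjoint_fix_rest hrF).le)
  have hsup : WR ⊔ WC = W := Submodule.eq_of_le_of_finrank_eq (sup_le inf_le_left inf_le_left) (by
    have h := Submodule.finrank_sup_add_finrank_inf_eq WR WC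
    rw [hinf, finrank_bot] at h
    omega)
  have hWRn : Nondeg R WR := fun x hx hall => hW x hx.1 fun y hy => by
    rw [← hsup] at hy
    obtain ⟨a, ha, b, hb, rfl⟩ := Submodule.mem_sup.1 hy
    rw [polar_add_right', hall a ha, horth x hx b hb, add_zero]
  obtain ⟨A', hA', -⟩ := free_type hr2 hrF hWRn (fun v hv => ⟨hinv v hv.1, restSp_invariant hgr v hv.2⟩) hgr hg
    fun v hv h => free_of_le_rest hrF hv.2 h
  have hA0 : A' = 0 := by
    by_contra hne
    have := Nat.le_mul_of_pos_right (cstep ordq) (Nat.pos_of_ne_zero hne)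
    omega
  rw [← hsup, Submodule.finrank_eq_zero.1 (show finrank F WR = 0 by rw [hA', hA0, mul_zero]), bot_sup_eq]
  exact inf_le_right

/-- The criterion for a class of nondegenerate subspaces, an odd prime different from the characteristic. -/
theorem main_iff (hR : (polarBilin R).Nondegenerate) (hr2 : r ≠ 2) (hrF : (r : F) ≠ 0) (hW₀ : Nondeg R W₀)
    (hlt : finrank F W₀ < finrank F V) (hpar : Even (finrank F W₀) ∨ Even (finrank F V))
    (hdvd : r ∣ Nat.card {W : Submodule F V // Iso R W W₀}) {Crit : Prop}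
    (ha : Crit → ∀ A, 1 ≤ A → Adm (cstep ordq) ordq (finrank F V) (Plus R (⊤ : Submodule F V)) A →
      Good (cstep ordq) ordq (finrank F V) (finrank F W₀) (Plus R (⊤ : Submodule F V)) (Plus R W₀) A)
    (hb : cstep ordq ≤ finrank F W₀ →
      (∀ A, 1 ≤ A → Adm (cstep ordq) ordq (finrank F V) (Plus R (⊤ : Submodule F V)) A →
        Good (cstep ordq) ordq (finrank F V) (finrank F W₀) (Plus R (⊤ : Submodule F V)) (Plus R W₀) A) → Crit) :
    (∀ g : Module.End F V, g ^ r = 1 → g ≠ 1 → (∀ v, R (g v) = R v) →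
      ∃ W : Submodule F V, (∀ v ∈ W, g v ∈ W) ∧ Iso R W W₀) ↔ Crit := by
  constructor
  · intro hall
    rcases Nat.lt_or_ge (finrank F W₀) (cstep ordq) with hsmall | hbig
    · exfalso
      refine not_dvd_of_fixed hR hrF W₀ (fun g hgr hg => ?_) (fun g hgr hg W hinv hiso => ?_) hdvd
      · by_cases h1 : g = 1
        · exact ⟨W₀, fun v hv => by rw [h1]; exact hv, Iso.refl W₀⟩
        · exact hall g hgr h1 hg
      · exact rest_eq_bot_of_small hr2 hrF hgr hg (hiso.symm.nondeg hW₀) hinv (hiso.finrank_eq ▸ hsmall)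
    · refine hb hbig fun A hA1 hadm => ?_
      obtain ⟨g, hgr, hg, hd, -⟩ := exists_element hr2 hrF hR hA1 hadm
      have hg1 : g ≠ 1 := fun e => by
        have hpos := Nat.mul_pos (cstep_pos (F := F) hrF) hA1
        have h0 : restSp r g = ⊥ := by
          rw [eq_bot_iff]
          intro v hv
          exact (Submodule.mem_bot F).2 (free_of_le_rest hrF hv (by rw [e]; rfl))
        rw [h0, finrank_bot] at hd
        omega
      obtain ⟨W, hinv, hiso⟩ := hall g hgr hg1 hg
      exact good_of_invariant hr2 hrF hR hW₀ hlt hpar hgr hg hd hinv hiso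
  · intro hC g hgr hg1 hg
    obtain ⟨A, hA, hsum, hRp, hCp⟩ := exists_blocks hr2 hrF hR hgr hg
    have hA1 : 1 ≤ A := by
      by_contra h0
      obtain rfl : A = 0 := by omega
      refine hg1 (LinearMap.ext fun v => mem_fixSp.1 ?_)
      have hfull : fixSp g = ⊤ := Submodule.eq_top_of_finrank_eq (by omega)
      rw [hfull]
      exact Submodule.mem_top
    refine exists_invariant_iso hr2 hrF hR hW₀ (fun _ => Or.inr hlt) hgr hg hA (ha hC A hA1 ⟨by omega, fun he => ?_⟩)
    have hC0 : fixSp g = ⊥ := Submodule.finrank_eq_zero.1 (by omega)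
    have htop : restSp r g = ⊤ := by
      rw [← fix_sup_rest hgr hrF, hC0, bot_sup_eq]
    rwa [htop] at hRp

end CfsgLib.Geo.Elusive
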