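/-
Passing between matrix elements of order two and involutions, characteristic two.
-/
import Cfsg.Agent.Lib.Geo.Elusive.InvolutionTwo
import Cfsg.Agent.Lib.Geo.Elusive.OddMatrices
import Cfsg.Agent.Lib.Geo.QuadPointFixed

set_option autoImplicit false
set_option maxHeartbeats 800000
set_option linter.unusedSectionVars false
set_option linter.style.haveILetI false

namespace CfsgLib.Geo.Elusive

open CfsgLib.Classical CfsgLib.Classical.Quad CfsgLib.Geo.OrthMax
open QuadraticMap (polar polarBilin)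
open Module

universe u

theorem one_data {F : Type u} [Field F] {V : Type u} [AddCommGroup V] [Module F V] (B : Submodule F V) :
    movedN (1 : Module.End F ↥B) = ⊥ ∧ fixedK (1 : Module.End F ↥B) = ⊤ :=
  ⟨by rw [movedN, sub_self]; exact LinearMap.range_zero, by rw [fixedK, sub_self]; exact LinearMap.ker_zero⟩

variable {F : Type u} [Field F] [Fintype F] [CharP F 2] {ι : Type} [Fintype ι] [DecidableEq ι]
  {Q : QuadraticForm F (ι → F)}

theorem involution_of_scalar_sq (hQ : (polarBilin Q).Nondegenerate) [Nonempty ι] {x : GL ι F}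
    (hx : x ∈ Cfsg.Geo.omegaGL (⇑Q)) {z : F}
    (hz : ((x ^ 2 : GL ι F) : Matrix ι ι F) = z • (1 : Matrix ι ι F)) (v : ι → F) :
    Matrix.toLinAlgEquiv' (x : Matrix ι ι F) (Matrix.toLinAlgEquiv' (x : Matrix ι ι F) v) = v := by
  have hsq : ∀ w, Matrix.toLinAlgEquiv' (x : Matrix ι ι F) (Matrix.toLinAlgEquiv' (x : Matrix ι ι F) w) = z • w :=
    fun w => by
      rw [Matrix.toLinAlgEquiv'_apply, Matrix.toLinAlgEquiv'_apply, Matrix.mulVec_mulVec, ← Units.val_mul, ← pow_two, hz,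
        Matrix.smul_mulVec, Matrix.one_mulVec]
  obtain ⟨w, hw⟩ := exists_apply_ne_zero hQ
  have h1 : Q (z • w) = Q w := by rw [← hsq, isometry_of_mem_lin hx, isometry_of_mem_lin hx]
  rw [apply_smul, mul_eq_right₀ hw, ← pow_two] at h1
  have hz1 : z = 1 := frobenius_inj F 2 (by rw [frobenius_def, frobenius_def, h1, one_pow])
  rw [hsq, hz1, one_smul]

theorem not_allFix_two (hQ : (polarBilin Q).Nondegenerate) (hι : Fintype.card ι ≠ 4)
    {P : Submodule F (ι → F) → Prop} {g : Module.End F (ι → F)} (hgg : g ^ 2 = 1) (hg1 : g ≠ 1)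
    (hg : ∀ v, Q (g v) = Q v) (hev : Even (finrank F (movedN g)))
    (hno : ∀ W : Submodule F (ι → F), (∀ v ∈ W, g v ∈ W) → ¬ P W) :
    ¬ ∀ x : GL ι F, x ∈ Cfsg.Geo.omegaGL (⇑Q) →
      (∃ z : F, ((x ^ 2 : GL ι F) : Matrix ι ι F) = z • (1 : Matrix ι ι F)) →
      (∀ z : F, (x : Matrix ι ι F) ≠ z • (1 : Matrix ι ι F)) →
      ∃ W : Submodule F (ι → F), P W ∧ W.map (Matrix.toLin' (x : Matrix ι ι F)) ≤ W := by
  intro hall
  obtain ⟨x, hx, hxr, hxg⟩ := CfsgLib.Geo.QuadPoint.exists_omega hQ hι two_ne_zero g hgg hg hev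
  obtain ⟨W, hP, hmap⟩ := hall x hx ⟨1, by rw [hxr, Units.val_one, one_smul]⟩ fun z hz => by
    have hgz : g = z • (1 : Module.End F (ι → F)) := LinearMap.ext fun v => by
      rw [← hxg, hz, Matrix.smul_mulVec, Matrix.one_mulVec]; rfl
    rcases subsingleton_or_nontrivial (ι → F) with hs | hn
    · exact hg1 (LinearMap.ext fun v => Subsingleton.elim _ _)
    obtain ⟨v, hv⟩ := exists_ne (0 : ι → F)
    have h1 := LinearMap.congr_fun hgg v
    rw [hgz, smul_pow, one_pow, LinearMap.smul_apply, Module.End.one_apply] at h1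
    have hz1 : z = 1 := frobenius_inj F 2 (by
      rw [frobenius_def, frobenius_def, one_pow]
      exact smul_left_injective F hv (h1.trans (one_smul F v).symm))
    exact hg1 (by rw [hgz, hz1, one_smul])
  refine hno W (fun v hv => ?_) hP
  rw [← hxg, ← Matrix.toLin'_apply]
  exact hmap (Submodule.mem_map_of_mem hv)

/-- In plus type with `d` even, an involution without invariant subspaces of dimension 2 mod 4. -/
theorem exists_two_plus (hQ : (polarBilin Q).Nondegenerate) {d : ℕ} (hd : finrank F (ι → F) = 2 * d) (hd2 : 1 ≤ d)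
    (hde : Even d) (hp : Plus Q (⊤ : Submodule F (ι → F))) :
    ∃ g : Module.End F (ι → F), g ^ 2 = 1 ∧ g ≠ 1 ∧ (∀ v, Q (g v) = Q v) ∧ Even (finrank F (movedN g)) ∧
      ∀ W : Submodule F (ι → F), (∀ v ∈ W, g v ∈ W) → Nondeg Q W → Even (finrank F W) → finrank F W % 4 = 0 := by
  have h2 : (2 : F) = 0 := CharTwo.two_eq_zero
  obtain ⟨k, hk⟩ := hde
  obtain ⟨g, hu, hMK, hKs, hKd, hMd⟩ := exists_twos hQ hp (k := k) (by omega)
  have hsq : (g - 1) ^ 2 = 0 := LinearMap.ext fun v => by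
    rw [pow_two, Module.End.mul_apply]
    exact hMK.le ⟨v, rfl⟩
  refine ⟨g, pow_eq_one_of_quadratic hsq, ?_, hu.iso, ⟨k, hMd⟩, fun W hinv hW hev => ?_⟩
  · intro h
    rw [h, movedN, sub_self, LinearMap.range_zero, finrank_bot] at hMd
    omega
  rcases involution_two_shape h2 hu.iso hKs hMK.le (ε := 0) (by omega) le_rfl le_rfl hinv hW hev with ⟨-, h⟩ | ⟨h, -⟩
  · exact h rfl
  · omega

/-- In minus type with `d` odd, an involution without invariant minus subspaces of dimension 0 mod 4. -/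
theorem exists_two_minus (hQ : (polarBilin Q).Nondegenerate) {d : ℕ} (hd : finrank F (ι → F) = 2 * d) (hd2 : 2 ≤ d)
    (hdo : Odd d) :
    ∃ g : Module.End F (ι → F), g ^ 2 = 1 ∧ g ≠ 1 ∧ (∀ v, Q (g v) = Q v) ∧ Even (finrank F (movedN g)) ∧
      ∀ W : Submodule F (ι → F), (∀ v ∈ W, g v ∈ W) → Nondeg Q W → Even (finrank F W) →
        Plus Q W ∨ finrank F W % 4 = 2 := by
  have h2 : (2 : F) = 0 := CharTwo.two_eq_zero
  obtain ⟨l, hl⟩ := hdo
  obtain ⟨A, -, hA, hAp, hAd⟩ := exists_plus_sub (C := (⊤ : Submodule F (ι → F)))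
    (fun x _ h => hQ.1 x fun y => h y Submodule.mem_top) (k := l + l) (by rw [finrank_top]; omega)
  obtain ⟨g, gA, hu, -, hMK, hKs, hKd, hpow, hne⟩ := exists_twos_glue hQ hA hAp hAd 1 (udata_one _)
  have hcompl := hA.isCompl hQ
  obtain ⟨hker, hrange⟩ := glue_ker hcompl hpow
  have hone : movedN (1 : Module.End F ↥(OrthMax.perp Q A)) = ⊥ ∧
      fixedK (1 : Module.End F ↥(OrthMax.perp Q A)) = ⊤ :=
    one_data _
  rw [hone.2] at hker
  rw [hone.1, Submodule.map_bot, sup_bot_eq, hMK] at hrange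
  have hsq : (g - 1) ^ 2 = 0 := LinearMap.ext fun v => by
    rw [pow_two, Module.End.mul_apply]
    have hm : (g - 1) v ∈ fixedK g := by
      have hsub : movedN g ≤ fixedK g := by rw [hrange, hker]; exact le_sup_left
      exact hsub ⟨v, rfl⟩
    exact hm
  refine ⟨g, pow_eq_one_of_quadratic hsq, hne (by omega), hu.iso, ?_, fun W hinv hW hev => ?_⟩
  · rw [hrange, Submodule.finrank_map_subtype_eq, hKd]
    exact ⟨l, rfl⟩
  have hBd : finrank F ↥(OrthMax.perp Q A) = 2 := by rw [finrank_perp hQ, hd, hAd]; omega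
  have h3 := finrank_map_sup hcompl (fixedK gA) (⊤ : Submodule F ↥(OrthMax.perp Q A))
  rw [← hker, finrank_top] at h3
  rcases involution_two_shape h2 hu.iso (L := (fixedK gA).map A.subtype)
    (by rintro _ ⟨a, ha, rfl⟩; exact hKs a ha) hrange.le (ε := 2) le_rfl
    (by rw [hker]; exact le_sup_left) (by rw [Submodule.finrank_map_subtype_eq]; omega) hinv hW hev with ⟨h, -⟩ | ⟨-, h⟩
  · exact Or.inl h
  · exact Or.inr h

end CfsgLib.Geo.Elusive
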