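/-
Isometries with square `-1` in odd characteristic: invariant planes, types, existence and spinor norm.
-/
import Cfsg.Agent.Lib.Geo.Elusive.FreeBlocks
import Cfsg.Agent.Lib.Classical.Quad.OmegaIndex

set_option autoImplicit false
set_option maxHeartbeats 800000
set_option linter.unusedSectionVars false
set_option linter.style.haveILetI false

namespace CfsgLib.Geo.Elusive

open CfsgLib.Classical CfsgLib.Classical.Quad CfsgLib.Geo.OrthMax
open QuadraticMap (polar polarBilin)
open Module

universe u

variable {F : Type u} [Field F] [Finite F]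
variable {V : Type u} [AddCommGroup V] [Module F V] [FiniteDimensional F V] {Q : QuadraticForm F V}

/-- The invariants of an element without transvection part and of spinor norm `2 ^ d`. -/
noncomputable def jInv (F : Type u) [Field F] (d : ℕ) : Multiplicative (ZMod 2) × SqClass F :=
  (1, (sqc (2 : F)) ^ d)

theorem jInv_succ (d : ℕ) : jInv F (d + 1) = (1, sqc (2 : F)) * jInv F d :=
  Prod.ext (one_mul _).symm (pow_succ' _ d)

/-- The plane spanned by two orthogonal vectors of equal value. -/
theorem plane_facts (h2 : (2 : F) ≠ 0) {v w : V} (hv : Q v ≠ 0) (hw : Q w = Q v) (hvw : polar Q v w = 0) :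
    Nondeg Q (Submodule.span F {v} ⊔ Submodule.span F {w}) ∧
      finrank F ↥(Submodule.span F {v} ⊔ Submodule.span F {w}) = 2 ∧
      (Plus Q (Submodule.span F {v} ⊔ Submodule.span F {w}) ↔ IsSquare (-1 : F)) := by
  have hline : ∀ {x : V}, Q x ≠ 0 → Nondeg Q (Submodule.span F {x}) ∧ finrank F (Submodule.span F {x}) = 1 := by
    intro x hx
    refine ⟨fun y hy hall => ?_, finrank_span_singleton fun h => hx (by rw [h, QuadraticMap.map_zero])⟩
    obtain ⟨c, rfl⟩ := Submodule.mem_span_singleton.1 hy
    have h := hall x (Submodule.mem_span_singleton_self x)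
    rw [polar_smul_left', polar_self'] at h
    rw [(mul_eq_zero.1 h).resolve_right (mul_ne_zero h2 hx), zero_smul]
  obtain ⟨hvn, hvd⟩ := hline hv
  obtain ⟨hwn, hwd⟩ := hline (x := w) (hw ▸ hv)
  have horth : ∀ a ∈ Submodule.span F {v}, ∀ b ∈ Submodule.span F {w}, polar Q a b = 0 := fun a ha b hb => by
    obtain ⟨c, rfl⟩ := Submodule.mem_span_singleton.1 ha
    obtain ⟨c', rfl⟩ := Submodule.mem_span_singleton.1 hb
    rw [polar_smul_left', polar_smul_right', hvw, mul_zero, mul_zero]
  have hval : ∀ a b : F, Q (a • v + b • w) = (a * a + b * b) * Q v := fun a b => by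
    rw [apply_add, apply_smul, apply_smul, polar_smul_left', polar_smul_right', hvw, hw]
    ring
  have hd : finrank F ↥(Submodule.span F {v} ⊔ Submodule.span F {w}) = 2 := by
    rw [finrank_sup_orth hvn horth, hvd, hwd]
  refine ⟨nondeg_sup hvn hwn horth, hd, ?_, ?_⟩
  · rintro ⟨S, hS, hSs, hSd⟩
    rw [hd] at hSd
    obtain ⟨x, hx, hx0⟩ : ∃ x ∈ S, x ≠ 0 := S.exists_mem_ne_zero_of_ne_bot fun h => by
      rw [h, finrank_bot] at hSd
      omega
    obtain ⟨a', ha', b', hb', rfl⟩ := Submodule.mem_sup.1 (hS hx)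
    obtain ⟨a, rfl⟩ := Submodule.mem_span_singleton.1 ha'
    obtain ⟨b, rfl⟩ := Submodule.mem_span_singleton.1 hb'
    have h := (mul_eq_zero.1 ((hval a b).symm.trans (hSs _ hx))).resolve_right hv
    by_cases hb : b = 0
    · rw [hb, mul_zero, add_zero, mul_self_eq_zero] at h
      exact absurd (by rw [h, hb, zero_smul, zero_smul, add_zero]) hx0
    · exact ⟨a / b, by field_simp; linear_combination -h⟩
  · rintro ⟨s, hs⟩
    refine ⟨Submodule.span F {s • v + w}, (Submodule.span_singleton_le_iff_mem _ _).2 (Submodule.add_mem_sup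
      (Submodule.smul_mem _ s (Submodule.mem_span_singleton_self v)) (Submodule.mem_span_singleton_self w)), ?_, ?_⟩
    · intro x hx
      obtain ⟨c, rfl⟩ := Submodule.mem_span_singleton.1 hx
      have h := hval s 1
      rw [one_smul] at h
      rw [apply_smul, h]
      linear_combination (-(c * c) * Q v) * hs
    · rw [hd, finrank_span_singleton fun h => hv ?_]
      have h' := congrArg (polar Q w) h
      rw [polar_add_right', polar_smul_right', polar_self', hw, QuadraticMap.polar_comm, hvw, mul_zero, zero_add,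
        QuadraticMap.polar_zero_right] at h'
      exact (mul_eq_zero.1 h').resolve_left h2

/-- The quarter turn of a plane, as a product of two reflections. -/
theorem exists_rot (h2 : (2 : F) ≠ 0) (hQ : (polarBilin Q).Nondegenerate) {v w : V} (hv : Q v ≠ 0) (hw : Q w = Q v)
    (hvw : polar Q v w = 0) :
    ∃ a : OQ Q, (a : V ≃ₗ[F] V) v = w ∧ (a : V ≃ₗ[F] V) w = -v ∧
      (∀ z, polar Q z v = 0 → polar Q z w = 0 → (a : V ≃ₗ[F] V) z = z) ∧ invariants a = (1, sqc (2 : F)) := by
  have hw0 : Q w ≠ 0 := hw ▸ hv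
  have hd : Q (v - w) = 2 * Q v := by
    rw [sub_eq_add_neg, apply_add, QuadraticMap.map_neg, QuadraticMap.polar_neg_right, hvw, hw]
    ring
  have hd0 : Q (v - w) ≠ 0 := hd ▸ mul_ne_zero h2 hv
  have hR : reflGroup Q = ⊤ := reflGroup_eq_top hQ (hex_of_two_ne_zero h2)
  refine ⟨refl hd0 * refl hw0, ?_, ?_, fun z hz1 hz2 => ?_, ?_⟩
  · show (refl hd0 : V ≃ₗ[F] V) ((refl hw0 : V ≃ₗ[F] V) v) = w
    rw [refl_apply, refl_apply, hvw]
    rw [mul_zero, zero_smul, sub_zero, hd, QuadraticMap.polar_sub_right, polar_self', hvw, sub_zero,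
      inv_mul_cancel₀ (mul_ne_zero h2 hv), one_smul, sub_sub_cancel]
  · show (refl hd0 : V ≃ₗ[F] V) ((refl hw0 : V ≃ₗ[F] V) w) = -v
    rw [refl_apply hw0, polar_self', ← mul_assoc, mul_comm (Q w)⁻¹ 2, mul_assoc, inv_mul_cancel₀ hw0, mul_one,
      show w - (2 : F) • w = -w by rw [two_smul]; abel, refl_apply, QuadraticMap.polar_neg_left,
      QuadraticMap.polar_sub_right, polar_self', QuadraticMap.polar_comm (⇑Q) w v, hvw, hw, zero_sub, neg_neg, hd,
      inv_mul_cancel₀ (mul_ne_zero h2 hv), one_smul]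
    abel
  · show (refl hd0 : V ≃ₗ[F] V) ((refl hw0 : V ≃ₗ[F] V) z) = z
    rw [refl_apply hw0, hz2, mul_zero, zero_smul, sub_zero, refl_apply, QuadraticMap.polar_sub_right, hz1, hz2,
      sub_zero, mul_zero, zero_smul, sub_zero]
  · have h := invHom_refl hQ hR (v := v - w) hd0
    have h' := invHom_refl hQ hR (v := w) hw0
    show invHom hQ hR (refl hd0 * refl hw0) = _
    rw [map_mul, h, h', hd, hw, Prod.mk_mul_mk]
    refine Prod.ext ?_ ?_
    · show Multiplicative.ofAdd (1 : ZMod 2) * Multiplicative.ofAdd 1 = 1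
      rw [← ofAdd_add, show (1 : ZMod 2) + 1 = 0 from by decide, ofAdd_zero]
    · show sqc (2 * Q v) * sqc (Q v) = sqc (2 : F)
      rw [sqc_mul h2 hv, mul_assoc, sqClass_mul_self, mul_one]

variable {J : Module.End F V}

theorem polar_self_J (h2 : (2 : F) ≠ 0) (hJ : ∀ v, Q (J v) = Q v) (hJJ : ∀ v, J (J v) = -v) (v : V) :
    polar Q v (J v) = 0 := by
  have h : polar Q (J v) (J (J v)) = polar Q v (J v) := by simp only [polar, ← map_add, hJ]
  rw [hJJ, QuadraticMap.polar_neg_right, QuadraticMap.polar_comm] at h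
  exact (mul_eq_zero.1 (show (2 : F) * polar Q v (J v) = 0 by linear_combination -h)).resolve_left h2

theorem jperp_invariant (hJ : ∀ v, Q (J v) = Q v) (hJJ : ∀ v, J (J v) = -v) {U : Submodule F V}
    (hU : ∀ v ∈ U, J v ∈ U) : ∀ v ∈ OrthMax.perp Q U, J v ∈ OrthMax.perp Q U := fun v hv => mem_perp.2 fun w hw => by
  have h : polar Q (J w) (J (J v)) = polar Q w (J v) := by simp only [polar, ← map_add, hJ]
  rw [← h, hJJ, QuadraticMap.polar_neg_right, mem_perp.1 hv _ (hU w hw), neg_zero]

/-- Structure of an invariant nondegenerate subspace. -/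
theorem j_decomp (h2 : (2 : F) ≠ 0) (hQ : (polarBilin Q).Nondegenerate) (hJ : ∀ v, Q (J v) = Q v)
    (hJJ : ∀ v, J (J v) = -v) (n : ℕ) : ∀ {W : Submodule F V}, finrank F W = n → Nondeg Q W → (∀ v ∈ W, J v ∈ W) →
    ∃ d, n = 2 * d ∧ (Plus Q W ↔ (IsSquare (-1 : F) ∨ Even d)) ∧
      (∀ l, l ≤ d → ∃ U, U ≤ W ∧ (∀ v ∈ U, J v ∈ U) ∧ Nondeg Q U ∧ finrank F U = 2 * l) ∧
      ∃ a : OQ Q, (∀ v ∈ W, (a : V ≃ₗ[F] V) v = J v) ∧ (∀ z ∈ OrthMax.perp Q W, (a : V ≃ₗ[F] V) z = z) ∧
        invariants a = jInv F d := by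
  induction n using Nat.strong_induction_on with
  | h n ih =>
    intro W hWd hW hinv
    rcases Nat.eq_zero_or_pos n with rfl | hn
    · obtain rfl := Submodule.finrank_eq_zero.1 hWd
      refine ⟨0, rfl, iff_of_true plus_bot (Or.inr ⟨0, rfl⟩), fun l hl => ⟨⊥, le_rfl, hinv, hW, by
        rw [Nat.le_zero.1 hl, finrank_bot]⟩, 1, fun v hv => ?_, fun z _ => rfl, ?_⟩
      · rw [(Submodule.mem_bot F).1 hv, map_zero, map_zero]
      · exact (invariants_one hQ).trans (Prod.ext rfl (pow_zero _).symm)
    haveI : Nontrivial W := Module.nontrivial_of_finrank_pos (R := F) (by omega)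
    obtain ⟨⟨v, hvW⟩, hv⟩ := exists_apply_ne_zero hW.comp
    change Q v ≠ 0 at hv
    set P := Submodule.span F {v} ⊔ Submodule.span F {J v} with hP
    obtain ⟨hPn, hPd, hPp⟩ := plane_facts h2 hv (hJ v) (polar_self_J h2 hJ hJJ v)
    rw [← hP] at hPn hPd hPp
    have hPW : P ≤ W := sup_le ((Submodule.span_singleton_le_iff_mem _ _).2 hvW)
      ((Submodule.span_singleton_le_iff_mem _ _).2 (hinv v hvW))
    have hPi : ∀ x ∈ P, J x ∈ P := fun x hx => by
      obtain ⟨a', ha', b', hb', rfl⟩ := Submodule.mem_sup.1 hx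
      obtain ⟨a, rfl⟩ := Submodule.mem_span_singleton.1 ha'
      obtain ⟨b, rfl⟩ := Submodule.mem_span_singleton.1 hb'
      rw [map_add, map_smul, map_smul, hJJ, smul_neg, ← neg_smul, add_comm]
      exact Submodule.add_mem_sup (Submodule.smul_mem _ _ (Submodule.mem_span_singleton_self v))
        (Submodule.smul_mem _ _ (Submodule.mem_span_singleton_self (J v)))
    obtain ⟨hW', hsup, hd⟩ := nondeg_inf_perp hPn hW hPW
    set W' := W ⊓ OrthMax.perp Q P with hW'def
    have hW'i : ∀ x ∈ W', J x ∈ W' := fun x hx => ⟨hinv x hx.1, jperp_invariant hJ hJJ hPi x hx.2⟩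
    obtain ⟨d, hd2, hdp, hsub, a, ha, haf, hai⟩ := ih (finrank F W') (by omega) rfl hW' hW'i
    have horth : ∀ x ∈ P, ∀ y ∈ W', polar Q x y = 0 := fun x hx y hy => mem_perp.1 hy.2 x hx
    obtain ⟨b, hb1, hb2, hbf, hbi⟩ := exists_rot h2 hQ hv (hJ v) (polar_self_J h2 hJ hJJ v)
    refine ⟨d + 1, by omega, ?_, fun l hl => ?_, b * a, fun x hx => ?_, fun z hz => ?_, ?_⟩
    · rw [← hsup, plus_sup_iff hPn hW' horth (hPd ▸ even_two) (hd2 ▸ even_two_mul d), hPp, hdp]
      by_cases hs : IsSquare (-1 : F)
      · simp [hs]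
      · simp [hs, Nat.even_add_one]
    · rcases Nat.eq_zero_or_pos l with rfl | hl0
      · exact ⟨⊥, bot_le, fun x hx => by rw [(Submodule.mem_bot F).1 hx, map_zero]; exact zero_mem _,
          fun x hx _ => (Submodule.mem_bot F).1 hx, by simp⟩
      obtain ⟨U, hUW, hUi, hUn, hUd⟩ := hsub (l - 1) (by omega)
      refine ⟨P ⊔ U, sup_le hPW (hUW.trans inf_le_left), fun x hx => ?_,
        nondeg_sup hPn hUn fun x hx y hy => horth x hx y (hUW hy), ?_⟩
      · obtain ⟨p, hp, u, hu, rfl⟩ := Submodule.mem_sup.1 hx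
        rw [map_add]
        exact Submodule.add_mem_sup (hPi p hp) (hUi u hu)
      · rw [finrank_sup_orth hPn fun x hx y hy => horth x hx y (hUW hy), hPd, hUd]
        omega
    · rw [← hsup] at hx
      obtain ⟨p, hp, y, hy, rfl⟩ := Submodule.mem_sup.1 hx
      show (b : V ≃ₗ[F] V) ((a : V ≃ₗ[F] V) (p + y)) = J (p + y)
      have hap : (a : V ≃ₗ[F] V) p = p := haf p (mem_perp.2 fun z hz => by
        rw [QuadraticMap.polar_comm]; exact horth p hp z hz)
      have hby : ∀ z ∈ W', (b : V ≃ₗ[F] V) z = z := fun z hz => hbf z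
        (by rw [QuadraticMap.polar_comm]
            exact horth v (Submodule.mem_sup_left (Submodule.mem_span_singleton_self v)) z hz)
        (by rw [QuadraticMap.polar_comm]
            exact horth (J v) (Submodule.mem_sup_right (Submodule.mem_span_singleton_self (J v))) z hz)
      rw [map_add, map_add, hap, ha y hy, hby _ (hW'i y hy), map_add]
      congr 1
      obtain ⟨a', ha', b', hb', rfl⟩ := Submodule.mem_sup.1 hp
      obtain ⟨s, rfl⟩ := Submodule.mem_span_singleton.1 ha'
      obtain ⟨t, rfl⟩ := Submodule.mem_span_singleton.1 hb'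
      rw [map_add, map_smul, map_smul, hb1, hb2, map_add, map_smul, map_smul, hJJ]
    · show (b : V ≃ₗ[F] V) ((a : V ≃ₗ[F] V) z) = z
      rw [haf z (mem_perp.2 fun w hw => mem_perp.1 hz w hw.1)]
      refine hbf z ?_ ?_ <;> rw [QuadraticMap.polar_comm]
      · exact mem_perp.1 hz v hvW
      · exact mem_perp.1 hz _ (hinv v hvW)
    · show invariants (b * a) = _
      rw [invariants_mul hQ (reflGroup_eq_top hQ (hex_of_two_ne_zero h2)), hbi, hai, jInv_succ]

/-- A square root of `-1` on a space of the right type. -/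
theorem exists_J (h2 : (2 : F) ≠ 0) (hQ : (polarBilin Q).Nondegenerate) (d : ℕ) : ∀ {W : Submodule F V},
    finrank F W = 2 * d → Nondeg Q W → (Plus Q W ↔ (IsSquare (-1 : F) ∨ Even d)) →
    ∃ a : OQ Q, (∀ v ∈ W, (a : V ≃ₗ[F] V) ((a : V ≃ₗ[F] V) v) = -v ∧ (a : V ≃ₗ[F] V) v ∈ W) ∧
      (∀ z ∈ OrthMax.perp Q W, (a : V ≃ₗ[F] V) z = z) ∧ invariants a = jInv F d := by
  induction d with
  | zero =>
    intro W hWd hW _
    obtain rfl := Submodule.finrank_eq_zero.1 (hWd.trans (mul_zero 2))
    exact ⟨1, fun v hv => by rw [(Submodule.mem_bot F).1 hv]; simp, fun z _ => rfl,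
      (invariants_one hQ).trans (Prod.ext rfl (pow_zero _).symm)⟩
  | succ d ih =>
    intro W hWd hW hp
    obtain ⟨v, hvW, hv⟩ : ∃ v ∈ W, Q v = 1 := by
      obtain ⟨v, hv⟩ := exists_apply_eq hW.comp (by omega) (one_ne_zero (α := F))
      exact ⟨v, v.2, hv⟩
    have hv1 : Q v ≠ 0 := hv ▸ one_ne_zero
    have hLn : Nondeg Q (Submodule.span F {v}) := fun y hy hall => by
      obtain ⟨c, rfl⟩ := Submodule.mem_span_singleton.1 hy
      have h := hall v (Submodule.mem_span_singleton_self v)
      rw [polar_smul_left', polar_self'] at h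
      rw [(mul_eq_zero.1 h).resolve_right (mul_ne_zero h2 hv1), zero_smul]
    obtain ⟨hL', -, hLd⟩ := nondeg_inf_perp hLn hW ((Submodule.span_singleton_le_iff_mem _ _).2 hvW)
    rw [finrank_span_singleton (fun h : v = 0 => hv1 (by rw [h, QuadraticMap.map_zero]))] at hLd
    obtain ⟨w, hwW, hvw, hw⟩ : ∃ w ∈ W, polar Q v w = 0 ∧ Q w = 1 := by
      rcases Nat.eq_zero_or_pos d with rfl | hd
      · haveI : Nontrivial ↥(W ⊓ OrthMax.perp Q (Submodule.span F {v})) :=
          Module.nontrivial_of_finrank_pos (R := F) (by omega)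
        obtain ⟨⟨u, huW, hu⟩, hu0⟩ := exists_apply_ne_zero hL'.comp
        change Q u ≠ 0 at hu0
        have hvu : polar Q v u = 0 := mem_perp.1 hu v (Submodule.mem_span_singleton_self v)
        have hval : ∀ a b : F, Q (a • v + b • u) = a * a + b * b * Q u := fun a b => by
          rw [apply_add, apply_smul, apply_smul, polar_smul_left', polar_smul_right', hvu, hv]
          ring
        have hsq : IsSquare (Q u) := by
          by_contra hns
          haveI := Fintype.ofFinite F
          have hiff : IsSquare (-1 * Q u) ↔ IsSquare (-1 : F) := by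
            constructor
            · rintro ⟨s, hs⟩
              have hp' : Plus Q W := by
                refine ⟨Submodule.span F {s • v + u}, (Submodule.span_singleton_le_iff_mem _ _).2
                  (W.add_mem (W.smul_mem s hvW) huW), fun x hx => ?_, ?_⟩
                · obtain ⟨c, rfl⟩ := Submodule.mem_span_singleton.1 hx
                  have h := hval s 1
                  rw [one_smul] at h
                  rw [apply_smul, h]
                  linear_combination (-(c * c)) * hs
                · rw [hWd, finrank_span_singleton fun h => hu0 ?_]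
                  have h' := congrArg (polar Q u) h
                  rw [polar_add_right', polar_smul_right', QuadraticMap.polar_comm, hvu, polar_self',
                    QuadraticMap.polar_zero_right, mul_zero, zero_add] at h'
                  exact (mul_eq_zero.1 h').resolve_left h2
              exact (hp.1 hp').resolve_right (by simp)
            · intro hs
              obtain ⟨S, hSW, hSs, hSd⟩ := hp.2 (Or.inl hs)
              rw [hWd] at hSd
              obtain ⟨x, hx, hx0⟩ : ∃ x ∈ S, x ≠ 0 := S.exists_mem_ne_zero_of_ne_bot fun h => by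
                rw [h, finrank_bot] at hSd
                omega
              have hdim : Submodule.span F {v} ⊔ Submodule.span F {u} = W := by
                refine Submodule.eq_of_le_of_finrank_eq (sup_le ((Submodule.span_singleton_le_iff_mem _ _).2 hvW)
                  ((Submodule.span_singleton_le_iff_mem _ _).2 huW)) ?_
                rw [finrank_sup_orth hLn fun a ha b hb => by
                    obtain ⟨c, rfl⟩ := Submodule.mem_span_singleton.1 ha
                    obtain ⟨c', rfl⟩ := Submodule.mem_span_singleton.1 hb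
                    rw [polar_smul_left', polar_smul_right', hvu, mul_zero, mul_zero],
                  finrank_span_singleton (fun h : v = 0 => hv1 (by rw [h, QuadraticMap.map_zero])),
                  finrank_span_singleton (fun h : u = 0 => hu0 (by rw [h, QuadraticMap.map_zero])), hWd]
              have hxW := hSW hx
              rw [← hdim] at hxW
              obtain ⟨a', ha', b', hb', rfl⟩ := Submodule.mem_sup.1 hxW
              obtain ⟨a, rfl⟩ := Submodule.mem_span_singleton.1 ha'
              obtain ⟨b, rfl⟩ := Submodule.mem_span_singleton.1 hb'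
              have h := (hval a b).symm.trans (hSs _ hx)
              by_cases hb : b = 0
              · rw [hb, mul_zero, zero_mul, add_zero, mul_self_eq_zero] at h
                exact absurd (by rw [h, hb, zero_smul, zero_smul, add_zero]) hx0
              · exact ⟨a / b, by field_simp; linear_combination -h⟩
          have hm := Quad.isSquare_mul_iff_not (F := F) h2 (x := (-1 : F)) (neg_ne_zero.2 one_ne_zero) hns
          tauto
        obtain ⟨s, hs⟩ := hsq
        have hs0 : s ≠ 0 := fun h => hu0 (by rw [hs, h, mul_zero])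
        exact ⟨s⁻¹ • u, W.smul_mem _ huW, by rw [polar_smul_right', hvu, mul_zero],
          by rw [apply_smul, hs]; field_simp⟩
      · obtain ⟨w, hw⟩ := exists_apply_eq hL'.comp (by omega) (one_ne_zero (α := F))
        exact ⟨w, w.2.1, mem_perp.1 w.2.2 v (Submodule.mem_span_singleton_self v), hw⟩
    set P := Submodule.span F {v} ⊔ Submodule.span F {w} with hP
    obtain ⟨hPn, hPd, hPp⟩ := plane_facts h2 hv1 (hw.trans hv.symm) hvw
    rw [← hP] at hPn hPd hPp
    have hPW : P ≤ W := sup_le ((Submodule.span_singleton_le_iff_mem _ _).2 hvW)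
      ((Submodule.span_singleton_le_iff_mem _ _).2 hwW)
    obtain ⟨hW', hsup, hd⟩ := nondeg_inf_perp hPn hW hPW
    set W' := W ⊓ OrthMax.perp Q P with hW'def
    have horth : ∀ x ∈ P, ∀ y ∈ W', polar Q x y = 0 := fun x hx y hy => mem_perp.1 hy.2 x hx
    have hW'd : finrank F W' = 2 * d := by omega
    obtain ⟨a, ha, haf, hai⟩ := ih hW'd hW' (by
      rw [← hsup, plus_sup_iff hPn hW' horth (hPd ▸ even_two) (hW'd ▸ even_two_mul d), hPp] at hp
      by_cases hs : IsSquare (-1 : F)
      · simp only [hs, true_iff, true_or, iff_true] at hp ⊢; exact hp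
      · simp only [hs, false_iff, false_or, Nat.even_add_one] at hp ⊢; tauto)
    obtain ⟨b, hb1, hb2, hbf, hbi⟩ := exists_rot h2 hQ hv1 (hw.trans hv.symm) hvw
    have hby : ∀ z ∈ W', (b : V ≃ₗ[F] V) z = z := fun z hz => hbf z
      (by rw [QuadraticMap.polar_comm]
          exact horth v (Submodule.mem_sup_left (Submodule.mem_span_singleton_self v)) z hz)
      (by rw [QuadraticMap.polar_comm]
          exact horth w (Submodule.mem_sup_right (Submodule.mem_span_singleton_self w)) z hz)
    have hap : ∀ p ∈ P, (a : V ≃ₗ[F] V) p = p := fun p hp => haf p (mem_perp.2 fun z hz => by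
      rw [QuadraticMap.polar_comm]; exact horth p hp z hz)
    refine ⟨b * a, fun x hx => ?_, fun z hz => ?_, ?_⟩
    · rw [← hsup] at hx ⊢
      obtain ⟨p, hp, y, hy, rfl⟩ := Submodule.mem_sup.1 hx
      obtain ⟨hyy, hyW⟩ := ha y hy
      obtain ⟨a', ha', b', hb', rfl⟩ := Submodule.mem_sup.1 hp
      obtain ⟨s, rfl⟩ := Submodule.mem_span_singleton.1 ha'
      obtain ⟨t, rfl⟩ := Submodule.mem_span_singleton.1 hb'
      have e1 : ((b * a : OQ Q) : V ≃ₗ[F] V) (s • v + t • w + y) = (s • w + (-t) • v) + (a : V ≃ₗ[F] V) y := by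
        show (b : V ≃ₗ[F] V) ((a : V ≃ₗ[F] V) _) = _
        rw [map_add, hap _ hp, map_add, hby _ hyW, map_add, map_smul, map_smul, hb1, hb2, smul_neg, neg_smul]
      have hp' : s • w + (-t) • v ∈ P := by
        rw [add_comm]
        exact Submodule.add_mem_sup (Submodule.smul_mem _ _ (Submodule.mem_span_singleton_self v))
          (Submodule.smul_mem _ _ (Submodule.mem_span_singleton_self w))
      refine ⟨?_, e1.symm ▸ Submodule.add_mem_sup hp' hyW⟩
      rw [e1]
      show (b : V ≃ₗ[F] V) ((a : V ≃ₗ[F] V) _) = _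
      rw [map_add, hap _ hp', map_add, hyy, map_neg, hby y hy, map_add, map_smul, map_smul, hb1, hb2]
      simp only [smul_neg, neg_smul]
      abel
    · show (b : V ≃ₗ[F] V) ((a : V ≃ₗ[F] V) z) = z
      rw [haf z (mem_perp.2 fun x hx => mem_perp.1 hz x hx.1)]
      refine hbf z ?_ ?_ <;> rw [QuadraticMap.polar_comm]
      · exact mem_perp.1 hz v hvW
      · exact mem_perp.1 hz w hwW
    · show invariants (b * a) = _
      rw [invariants_mul hQ (reflGroup_eq_top hQ (hex_of_two_ne_zero h2)), hbi, hai, jInv_succ]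

end CfsgLib.Geo.Elusive
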