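/-
Arithmetic of the block criterion for nondegenerate subspaces.
-/
import Cfsg.Agent.Lib.Geo.Elusive.OddPrime

set_option autoImplicit false
set_option maxHeartbeats 800000

namespace CfsgLib.Geo.Elusive

/-- The closed form of "all admissible block numbers are good". -/
def GenCrit (c i n m : ℕ) (T P₀ : Prop) : Prop :=
  (n % c = 0 ∧ ¬ (T ↔ Sgn i (n / c))) ∨ (m % c = 0 ∧ (P₀ ↔ Sgn i (m / c))) ∨
    (0 < m % c ∧ (m % c < n % c ∨
      (Even m ∧ m % c = n % c ∧ (P₀ ↔ (Sgn i (m / c) ↔ (Sgn i (n / c) ↔ T))))))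

theorem sgn_succ (i j : ℕ) : Sgn i (j + 1) ↔ (Odd i ∨ ¬ Even j) := by
  unfold Sgn; rw [Nat.even_add_one]

theorem good_of_crit {c i n m A : ℕ} {T P₀ : Prop} (hc : Even c) (hc0 : 0 < c) (hm : 1 ≤ m) (hmn : m < n)
    (hpar : Even m ∨ Even n) (h : GenCrit c i n m T P₀) (hA1 : 1 ≤ A) (hA : Adm c i n T A) :
    Good c i n m T P₀ A := by
  classical
  obtain ⟨hAn, hAdm⟩ := hA
  have hk := Nat.mod_lt n hc0
  have hl := Nat.mod_lt m hc0
  have hn := Nat.mod_add_div n c
  have hmd := Nat.mod_add_div m c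
  set k := n % c
  set l := m % c
  set N := n / c
  set M := m / c
  by_cases hsmall : c * A < m
  · exact ⟨A, le_rfl, hsmall.le, by omega, Or.inl ⟨hsmall, by omega⟩⟩
  push Not at hsmall
  have hMA : M ≤ A := Nat.le_of_mul_le_mul_left (by omega : c * M ≤ c * A) hc0
  have hAN : A ≤ N := by
    by_contra hlt
    push Not at hlt
    have h1 : c * (N + 1) ≤ c * A := Nat.mul_le_mul_left _ hlt
    rw [Nat.mul_succ] at h1
    omega
  have hstep : A < N → c * A + c ≤ c * N := fun hlt => by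
    have h1 : c * (A + 1) ≤ c * N := Nat.mul_le_mul_left _ hlt
    rwa [Nat.mul_succ] at h1
  rcases Nat.eq_zero_or_pos l with hl0 | hlpos
  · have hmM : c * M = m := by omega
    by_cases hP : P₀ ↔ Sgn i M
    · have hev : Even m := hmM ▸ hc.mul_right M
      exact ⟨M, hMA, by omega, by omega, Or.inr (Or.inl ⟨hev, hmM, hP⟩)⟩
    obtain ⟨hk0, hT⟩ : k = 0 ∧ ¬ (T ↔ Sgn i N) := by
      rcases h with h | ⟨-, h⟩ | ⟨h, -⟩
      · exact h
      · exact absurd h hP
      · omega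
    have hlt : A < N := lt_of_le_of_ne hAN fun e => hT (e ▸ hAdm (by rw [e]; omega))
    have hs := hstep hlt
    have hev : Even m := hmM ▸ hc.mul_right M
    have hnev : Even n := by rw [← hn, hk0, zero_add]; exact hc.mul_right N
    obtain ⟨M', hM'⟩ : ∃ M', M = M' + 1 := ⟨M - 1, by
      rcases Nat.eq_zero_or_pos M with h0 | h0
      · rw [h0, mul_zero] at hmM; omega
      · omega⟩
    have hM'c : c * M' + c = m := by rw [← hmM, hM', mul_add, mul_one]
    refine ⟨M', by omega, by omega, by omega, ?_⟩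
    by_cases he : c * A + c < n
    · exact Or.inl ⟨by omega, by omega⟩
    · have hN : N = A + 1 := Nat.eq_of_mul_eq_mul_left hc0 (by rw [mul_add, mul_one]; omega)
      refine Or.inr (Or.inr ⟨hev, by omega, ?_⟩)
      rw [hM', sgn_succ] at hP
      rw [hN, sgn_succ] at hT
      unfold Sgn
      by_cases h1 : Odd i <;> by_cases h2 : Even M' <;> by_cases h3 : Even A <;>
        simp only [h1, h2, h3, or_self, or_true, true_or, false_or, not_true_eq_false, not_false_eq_true] at hP hT ⊢ <;>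
        tauto
  · refine ⟨M, hMA, by omega, ?_⟩
    rcases eq_or_lt_of_le hAN with rfl | hlt
    · rcases h with ⟨hk0, hT⟩ | ⟨h0, -⟩ | ⟨-, h1 | ⟨hev, h1, hP⟩⟩
      · exact absurd (hAdm (by omega)) hT
      · omega
      · exact ⟨by omega, Or.inl ⟨by omega, by omega⟩⟩
      · exact ⟨by omega, Or.inr (Or.inr ⟨hev, by omega, hP⟩)⟩
    · have hs := hstep hlt
      exact ⟨by omega, Or.inl ⟨by omega, by omega⟩⟩

theorem crit_of_good {c i n m : ℕ} {T P₀ : Prop} (hc0 : 0 < c) (hcm : c ≤ m) (hmn : m < n)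
    (h : ∀ A, 1 ≤ A → Adm c i n T A → Good c i n m T P₀ A) : GenCrit c i n m T P₀ := by
  classical
  have hk := Nat.mod_lt n hc0
  have hl := Nat.mod_lt m hc0
  have hn := Nat.mod_add_div n c
  have hmd := Nat.mod_add_div m c
  have hM1 : 1 ≤ m / c := Nat.div_pos hcm hc0
  have hMN : m / c ≤ n / c := Nat.div_le_div_right hmn.le
  by_contra hcon
  unfold GenCrit at hcon
  rw [not_or, not_or] at hcon
  obtain ⟨h1, h2, h3⟩ := hcon
  have hadm : Adm c i n T (n / c) := ⟨by omega, fun he => by_contra fun hne => h1 ⟨by omega, hne⟩⟩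
  obtain ⟨A', hA', hle, hle', hcases⟩ := h _ (le_trans hM1 hMN) hadm
  have hA'M : A' ≤ m / c := (Nat.le_div_iff_mul_le hc0).2 (by rwa [mul_comm])
  rcases eq_or_lt_of_le hA'M with rfl | hlt
  · rcases hcases with ⟨q1, q2⟩ | ⟨-, q1, q2⟩ | ⟨qe, q1, q2⟩
    · exact h3 ⟨by omega, Or.inl (by omega)⟩
    · exact h2 ⟨by omega, q2⟩
    · rcases Nat.eq_zero_or_pos (m % c) with hl0 | hlpos
      · have hT : T ↔ Sgn i (n / c) := by_contra fun hne => h1 ⟨by omega, hne⟩
        exact h2 ⟨hl0, by tauto⟩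
      · exact h3 ⟨hlpos, Or.inr ⟨qe, by omega, q2⟩⟩
  · have h4 : c * (A' + 1) ≤ c * (m / c) := Nat.mul_le_mul_left _ hlt
    rw [Nat.mul_succ] at h4
    omega

end CfsgLib.Geo.Elusive
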