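/-
The criterion in closed form, and translations for subspaces of given type.
-/
import Cfsg.Agent.Lib.Geo.Elusive.OddMatrices
import Cfsg.Agent.Lib.Geo.Elusive.NDArith

set_option autoImplicit false
set_option maxHeartbeats 800000
set_option linter.unusedSectionVars false

namespace CfsgLib.Geo.Elusive

open CfsgLib.Classical CfsgLib.Classical.Quad CfsgLib.Geo.OrthMax CfsgLib.Geo.PrimeAct
open QuadraticMap (polar polarBilin)
open Module

universe u

variable {F : Type u} [Field F] [Finite F] {r : ℕ} [Fact r.Prime]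
variable {V : Type u} [AddCommGroup V] [Module F V] [FiniteDimensional F V] {Q : QuadraticForm F V}
  {W₀ : Submodule F V}

local notation "ordq" => orderOf (Nat.card F : ZMod r)

theorem main_crit (hQ : (polarBilin Q).Nondegenerate) (hr2 : r ≠ 2) (hrF : (r : F) ≠ 0) (hW₀ : Nondeg Q W₀)
    (hm : 1 ≤ finrank F W₀) (hlt : finrank F W₀ < finrank F V) (hpar : Even (finrank F W₀) ∨ Even (finrank F V))
    (hdvd : r ∣ Nat.card {W : Submodule F V // Iso Q W W₀}) {Crit : Prop}
    (e1 : Crit → GenCrit (cstep ordq) ordq (finrank F V) (finrank F W₀) (Plus Q (⊤ : Submodule F V)) (Plus Q W₀))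
    (e2 : cstep ordq ≤ finrank F W₀ →
      GenCrit (cstep ordq) ordq (finrank F V) (finrank F W₀) (Plus Q (⊤ : Submodule F V)) (Plus Q W₀) → Crit) :
    (∀ g : Module.End F V, g ^ r = 1 → g ≠ 1 → (∀ v, Q (g v) = Q v) →
      ∃ W : Submodule F V, (∀ v ∈ W, g v ∈ W) ∧ Iso Q W W₀) ↔ Crit :=
  main_iff hQ hr2 hrF hW₀ hlt hpar hdvd
    (fun hC A hA1 hA => good_of_crit (cstep_even _) (cstep_pos hrF) hm hlt hpar (e1 hC) hA1 hA)
    (fun hcm hall => e2 hcm (crit_of_good (cstep_pos hrF) hcm hlt hall))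

/-- Membership of a type class as isometry to a representative. -/
theorem type_iff_iso (hW₀ : Nondeg Q W₀) (hev : Even (finrank F W₀)) (W : Submodule F V) :
    (finrank F W = finrank F W₀ ∧ Nondeg Q W ∧ (Plus Q W ↔ Plus Q W₀)) ↔ Iso Q W W₀ := by
  constructor
  · rintro ⟨hd, hW, hp⟩
    exact (iso_iff_plus hW hW₀ hd hev).2 hp
  · intro h
    exact ⟨h.finrank_eq, h.symm.nondeg hW₀, h.plus, h.symm.plus⟩

theorem plus_top_qPlus {G : Type u} [Field G] [Finite G] (d : ℕ) : Plus (qPlus d G) (⊤ : Submodule G (Fin d ⊕ Fin d → G)) :=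
  plus_of_model (Submodule.topEquiv (R := G) (M := Fin d ⊕ Fin d → G)).symm fun v => by
    rw [← coe_qPlus]; rfl

theorem not_plus_top_qMinus {G : Type u} [Field G] [Finite G] {a b : G}
    (hab : ∀ x y : G, x ^ 2 + a * x * y + b * y ^ 2 = 0 → x = 0 ∧ y = 0) (d : ℕ) :
    ¬ Plus (qMinus d G a b) (⊤ : Submodule G ((Fin d ⊕ Fin d) ⊕ Fin 2 → G)) :=
  not_plus_of_model hab (Submodule.topEquiv (R := G) (M := (Fin d ⊕ Fin d) ⊕ Fin 2 → G)).symm fun v => by
    rw [← coe_qMinus]; rfl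

end CfsgLib.Geo.Elusive
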