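/-
Totally singular subspaces inside nondegenerate subspaces.
-/
import Cfsg.Agent.Lib.Geo.Elusive.OrthTypes
import Cfsg.Agent.Lib.Classical.Quad.OmegaIndex

set_option autoImplicit false
set_option maxHeartbeats 800000
set_option linter.unusedSectionVars false
set_option linter.style.haveILetI false

namespace CfsgLib.Geo.Elusive

open CfsgLib.Classical CfsgLib.Classical.Quad CfsgLib.Geo.OrthMax
open QuadraticMap (polar polarBilin)
open Module

universe u

variable {F : Type u} [Field F] [Finite F]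
variable {V : Type u} [AddCommGroup V] [Module F V] [FiniteDimensional F V] {Q : QuadraticForm F V}

/-- `C` contains a totally singular subspace of dimension `j`. -/
def TSIn (Q : QuadraticForm F V) (C : Submodule F V) (j : ℕ) : Prop :=
  ∃ S : Submodule F V, S ≤ C ∧ (∀ x ∈ S, Q x = 0) ∧ finrank F S = j

theorem exists_sub_dim (S : Submodule F V) {j : ℕ} (hj : j ≤ finrank F S) :
    ∃ T : Submodule F V, T ≤ S ∧ finrank F T = j := by
  let b := Module.finBasis F S
  refine ⟨(Submodule.span F (Set.range (⇑b ∘ Fin.castLE hj))).map S.subtype,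
    Submodule.map_subtype_le _ _, ?_⟩
  rw [Submodule.finrank_map_subtype_eq, finrank_span_eq_card
    (b.linearIndependent.comp _ (Fin.castLE_injective hj)), Fintype.card_fin]

theorem TSIn.mono {C : Submodule F V} {j k : ℕ} (h : TSIn Q C j) (hk : k ≤ j) : TSIn Q C k := by
  obtain ⟨S, hSC, hS, hd⟩ := h
  obtain ⟨T, hT, hTd⟩ := exists_sub_dim S (hd ▸ hk)
  exact ⟨T, hT.trans hSC, fun x hx => hS x (hT hx), hTd⟩

theorem two_mul_le_of_singular {C S : Submodule F V} (hC : Nondeg Q C) (hSC : S ≤ C) (hS : ∀ x ∈ S, Q x = 0) :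
    2 * finrank F S ≤ finrank F C := by
  have h := two_mul_finrank_le hC.comp (W := S.comap C.subtype) fun w hw => hS _ hw
  rwa [(Submodule.comapSubtypeEquivOfLe hSC).finrank_eq] at h

/-- The Witt index in terms of dimension and type. -/
theorem tsIn_iff {C : Submodule F V} (hC : Nondeg Q C) (j : ℕ) :
    TSIn Q C j ↔ (2 * j < finrank F C ∨ (2 * j = finrank F C ∧ Plus Q C)) := by
  constructor
  · rintro ⟨S, hSC, hS, hd⟩
    rcases eq_or_lt_of_le (two_mul_le_of_singular hC hSC hS) with h | h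
    · exact Or.inr ⟨hd ▸ h, S, hSC, hS, h⟩
    · exact Or.inl (hd ▸ h)
  · rintro (h | ⟨h, S, hSC, hS, hd⟩)
    · obtain ⟨W, hWC, -, ⟨S, hSW, hS, hd⟩, hWd⟩ := exists_plus_sub hC h
      exact ⟨S, hSW.trans hWC, hS, by omega⟩
    · exact ⟨S, hSC, hS, by omega⟩

/-- Totally singular subspaces of equal dimension are isometric. -/
theorem iso_singular {W W₀ : Submodule F V} (hW₀ : ∀ x ∈ W₀, Q x = 0) :
    Iso Q W W₀ ↔ finrank F W = finrank F W₀ ∧ ∀ x ∈ W, Q x = 0 := by
  constructor
  · intro h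
    refine ⟨h.finrank_eq, fun x hx => ?_⟩
    obtain ⟨e, he⟩ := h
    rw [← he ⟨x, hx⟩]
    exact hW₀ _ (e ⟨x, hx⟩).2
  · rintro ⟨hd, hW⟩
    exact ⟨LinearEquiv.ofFinrankEq _ _ hd, fun w => by rw [hW _ w.2]; exact hW₀ _ (LinearEquiv.ofFinrankEq _ _ hd w).2⟩

/-- Spaces of the same even dimension and type are isometric. -/
theorem exists_isometry_of_type {M U : Type u} [AddCommGroup M] [Module F M] [FiniteDimensional F M]
    [AddCommGroup U] [Module F U] [FiniteDimensional F U] {R : QuadraticForm F M} {R' : QuadraticForm F U}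
    (hR : (polarBilin R).Nondegenerate) (hR' : (polarBilin R').Nondegenerate) {k : ℕ} (hM : finrank F M = 2 * k)
    (hU : finrank F U = 2 * k) (h : Plus R (⊤ : Submodule F M) ↔ Plus R' (⊤ : Submodule F U)) :
    ∃ e : M ≃ₗ[F] U, ∀ v, R' (e v) = R v := by
  haveI := Fintype.ofFinite F
  rcases CfsgLib.Known.QuadClassify.classify_even hM R hR with ⟨e, he⟩ | ⟨-, ζ, e, hζ, he⟩ <;>
    rcases CfsgLib.Known.QuadClassify.classify_even hU R' hR' with ⟨e', he'⟩ | ⟨-, η, e', hη, he'⟩
  · exact ⟨e.symm.trans e', fun v => by rw [LinearEquiv.trans_apply, he', ← he, e.apply_symm_apply]⟩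
  · exact absurd (h.1 (plus_of_model (e.trans Submodule.topEquiv.symm) he))
      (not_plus_of_model (CfsgLib.Known.QuadClassify.aniso_of_no_root hη) (e'.trans Submodule.topEquiv.symm) he')
  · exact absurd (h.2 (plus_of_model (e'.trans Submodule.topEquiv.symm) he'))
      (not_plus_of_model (CfsgLib.Known.QuadClassify.aniso_of_no_root hζ) (e.trans Submodule.topEquiv.symm) he)
  · obtain ⟨w, hw⟩ := CfsgLib.Known.QuadClassify.minus_equiv (k - 1) hη hζ
    exact ⟨e.symm.trans (w.trans e'), fun v => by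
      rw [LinearEquiv.trans_apply, LinearEquiv.trans_apply, he', hw, ← he, e.apply_symm_apply]⟩

end CfsgLib.Geo.Elusive
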