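/-
Invariant totally singular subspaces of free isometries of odd prime order.
-/
import Cfsg.Agent.Lib.Geo.Elusive.Singular
import Cfsg.Agent.Lib.Geo.Elusive.OddPrime
import Cfsg.Agent.Lib.Classical.ClassTheory.OrthPrime

set_option autoImplicit false
set_option maxHeartbeats 800000
set_option linter.unusedSectionVars false
set_option linter.style.haveILetI false

namespace CfsgLib.Geo.Elusive

open CfsgLib.Classical CfsgLib.Classical.Quad CfsgLib.Geo.OrthMax CfsgLib.Geo.PrimeAct
open QuadraticMap (polar polarBilin)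
open Module Polynomial

universe u

variable {F : Type u} [Field F] [Finite F] {r : ℕ} [Fact r.Prime]

local notation "ordq" => orderOf (Nat.card F : ZMod r)

variable (hr2 : r ≠ 2) (hrF : (r : F) ≠ 0)

include hrF in
/-- The number of cyclotomic factors. -/
theorem cyc_facts : (∀ f ∈ ClassTheory.cycFactors F r, f.natDegree = ordq) ∧
    (ClassTheory.cycFactors F r).card * ordq = r - 1 := by
  haveI := Fintype.ofFinite F
  obtain ⟨p, hp⟩ := CharP.exists F
  obtain ⟨k, hpp, hk⟩ := FiniteField.card F p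
  haveI : Fact p.Prime := ⟨hpp⟩
  have hrp : r ≠ p := fun e => hrF ((CharP.cast_eq_zero_iff F p r).2 (e ▸ dvd_rfl))
  have hq0 : (Nat.card F : ZMod r) ≠ 0 := fun h => by
    rw [Nat.card_eq_fintype_card, hk, ZMod.natCast_eq_zero_iff] at h
    exact hrp ((Nat.prime_dvd_prime_iff_eq Fact.out hpp).1 ((Fact.out : r.Prime).dvd_of_dvd_pow h))
  have hdvd : ordq ∣ r - 1 := ZMod.orderOf_dvd_card_sub_one hq0
  obtain ⟨h1, h2, -⟩ := ClassTheory.cycFactors_facts (F := F) (p := p) (Fact.out : r.Prime) hrp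
    (i := ordq) (t := (r - 1) / ordq) (by rw [Nat.card_eq_fintype_card]) (Nat.div_mul_cancel hdvd)
  exact ⟨h1, by rw [h2, Nat.div_mul_cancel hdvd]⟩

variable {V : Type u} [AddCommGroup V] [Module F V] [FiniteDimensional F V] {Q : QuadraticForm F V}

include hrF in
/-- A free map of order `r` on a space of dimension `i` has a cyclotomic characteristic polynomial. -/
theorem charpoly_mem_cyc {g : Module.End F V} (hr : g ^ r = 1) (hfree : ∀ v, g v = v → v = 0)
    (hd : finrank F V = ordq) : g.charpoly ∈ ClassTheory.cycFactors F r := by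
  haveI : Nontrivial V := Module.nontrivial_of_finrank_pos (R := F) (hd ▸ ord_pos hrF)
  have hrp : r.Prime := Fact.out
  obtain ⟨h, hhm, hh, hhd⟩ := Polynomial.exists_monic_irreducible_factor (minpoly F g) (minpoly.not_isUnit F g)
  have hhX : h ∣ X ^ r - 1 := hhd.trans (minpoly.dvd F g (by simp [hr]))
  rcases ClassTheory.eq_or_mem_cycFactors hrp hh hhm hhX with rfl | hmem
  · have hev : Module.End.HasEigenvalue g 1 := Module.End.hasEigenvalue_of_isRoot (dvd_iff_isRoot.1 hhd)
    obtain ⟨v, hv⟩ := hev.exists_hasEigenvector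
    exact absurd (hfree v (by rw [hv.apply_eq_smul, one_smul])) hv.2
  · have hdvd : h ∣ g.charpoly := hhd.trans (LinearMap.minpoly_dvd_charpoly g)
    have heq : g.charpoly = h := eq_of_monic_of_dvd_of_natDegree_le hhm (LinearMap.charpoly_monic g) hdvd
      (by rw [LinearMap.charpoly_natDegree, hd, (cyc_facts hrF).1 h hmem]) |>.symm ▸ rfl
    rwa [heq]

include hr2 hrF in
/-- Free isometries with the same characteristic polynomial are conjugate by an isometry. -/
theorem exists_commuting_isometry {M N : Type u} [AddCommGroup M] [Module F M] [FiniteDimensional F M]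
    [AddCommGroup N] [Module F N] [FiniteDimensional F N] {R : QuadraticForm F M} {R' : QuadraticForm F N}
    (hR : (polarBilin R).Nondegenerate) (hR' : (polarBilin R').Nondegenerate) {g : Module.End F M} {k : Module.End F N}
    (hg : ∀ v, R (g v) = R v) (hk : ∀ v, R' (k v) = R' v) (hgr : g ^ r = 1) (hkr : k ^ r = 1)
    (hfree : ∀ v, g v = v → v = 0) (hc : g.charpoly = k.charpoly) :
    ∃ e : M ≃ₗ[F] N, (∀ v, e (g v) = k (e v)) ∧ ∀ v, R' (e v) = R v := by
  have hrp : r.Prime := Fact.out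
  obtain ⟨l, hl⟩ := hrp.odd_of_ne_two hr2
  obtain ⟨e, he⟩ := CfsgLib.Known.SemisimpleClass.exists_equiv _ M N g k _ hgr hkr hrF hc rfl
  have hinj : ∀ {X : Type u} [AddCommGroup X] [Module F X] (h : Module.End F X), h ^ r = 1 →
      ∃ a : X ≃ₗ[F] X, ∀ v, a v = h v := fun h hh =>
    ⟨LinearEquiv.ofLinear h (h ^ (2 * l))
      (by rw [← Module.End.mul_eq_comp, ← pow_succ', ← hl, hh]; rfl)
      (by rw [← Module.End.mul_eq_comp, ← pow_succ, ← hl, hh]; rfl), fun v => rfl⟩
  obtain ⟨a, ha⟩ := hinj g hgr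
  obtain ⟨a', ha'⟩ := hinj k hkr
  have hpow : ∀ j v, g (g v) = v → (g ^ (2 * j)) v = v := by
    intro j v hv
    induction j with
    | zero => rfl
    | succ j ih => rw [show 2 * (j + 1) = 2 + 2 * j by ring, pow_add, Module.End.mul_apply, ih, pow_two]; exact hv
  obtain ⟨f, hf, hfb⟩ := ClassTheory.exists_isometric_of_fpf (1 : F) hR
    (fun u v => by rw [one_mul]; exact QuadraticMap.polar_comm _ _ _) hR'
    (fun u v => by rw [one_mul]; exact QuadraticMap.polar_comm _ _ _) a
    (fun u v => by show polar R (a u) (a v) = polar R u v; simp only [ha, polar, ← map_add, hg]) a'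
    (fun u v => by show polar R' (a' u) (a' v) = polar R' u v; simp only [ha', polar, ← map_add, hk]) e
    (fun v => by rw [ha, ha', he, LinearEquiv.conj_apply_apply, e.symm_apply_apply])
    fun v hv => by
      rw [ha, ha] at hv
      refine hfree v ?_
      have h := LinearMap.congr_fun hgr v
      rw [hl, pow_succ', Module.End.mul_apply, hpow l v hv] at h
      exact h
  refine ⟨f, fun v => by rw [← ha, ← ha', hf], fun v => sub_eq_zero.1 ?_⟩
  let d : M → F := fun v => R' (f v) - R v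
  have hadd : ∀ u v, d (u + v) = d u + d v := fun u v => by
    have h1 : polar R' (f u) (f v) = polar R u v := hfb u v
    simp only [polar] at h1
    simp only [d, map_add]
    linear_combination h1
  have hdg : ∀ u, d (g u) = d u := fun u => by
    simp only [d, show f (g u) = k (f u) by rw [← ha, hf, ha'], hg, hk]
  obtain ⟨u, rfl⟩ : ∃ u, g u - u = v := LinearMap.injective_iff_surjective.1
    (show Function.Injective (g - 1 : Module.End F M) from (injective_iff_map_eq_zero _).2 fun u hu =>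
      hfree u (sub_eq_zero.1 hu)) v
  show d (g u - u) = 0
  have h2 := hadd (g u - u) u
  rw [sub_add_cancel, hdg] at h2
  exact (eq_comm.1 (add_eq_right.1 h2.symm)).symm

variable {g : Module.End F V}

include hr2 hrF in
/-- Two orthogonal minimal blocks with the same characteristic polynomial span an invariant singular subspace. -/
theorem exists_pair_singular (hr : g ^ r = 1) (hg : ∀ v, Q (g v) = Q v) {U₁ U₂ : Submodule F V}
    (h1 : Nondeg Q U₁) (h1i : ∀ v ∈ U₁, g v ∈ U₁) (h2 : Nondeg Q U₂) (h2i : ∀ v ∈ U₂, g v ∈ U₂)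
    (hfree : ∀ v ∈ U₁, g v = v → v = 0) (horth : ∀ a ∈ U₁, ∀ b ∈ U₂, polar Q a b = 0)
    (hc : (g.restrict h1i).charpoly = (g.restrict h2i).charpoly) :
    ∃ S : Submodule F V, S ≤ U₁ ⊔ U₂ ∧ (∀ v ∈ S, g v ∈ S) ∧ (∀ x ∈ S, Q x = 0) ∧ finrank F S = finrank F U₁ := by
  obtain ⟨e, he, heQ⟩ := exists_commuting_isometry hr2 hrF (R' := -(Q.comp U₂.subtype)) h1.comp
    (by
      have hn := h2.comp
      refine Quad.nondegenerate_of_left fun x hx => hn.1 x fun y => ?_
      have h := hx y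
      rw [FunLike.coe_neg, QuadraticMap.polar_neg, neg_eq_zero] at h
      exact h)
    (g := g.restrict h1i) (k := g.restrict h2i) (fun v => hg v)
    (fun v => by simp only [neg_apply, QuadraticMap.neg_apply]; exact congrArg Neg.neg (hg v))
    (restrict_pow_eq_one g hr h1i) (restrict_pow_eq_one g hr h2i)
    (fun v hv => Subtype.ext (hfree v v.2 (congrArg Subtype.val hv))) hc
  let φ : U₁ →ₗ[F] V := U₁.subtype + U₂.subtype ∘ₗ e.toLinearMap
  have hφ : ∀ u : U₁, φ u = (u : V) + (e u : V) := fun u => rfl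
  have hinj : Function.Injective φ := (injective_iff_map_eq_zero _).2 fun u hu => Subtype.ext (by
    refine h1 u u.2 fun y hy => ?_
    have h : polar Q (φ u) y = polar Q (u : V) y := by
      rw [hφ, polar_add_left', QuadraticMap.polar_comm (⇑Q) (e u : V), horth y hy _ (e u).2, add_zero]
    rw [← h, hu, QuadraticMap.polar_zero_left])
  refine ⟨LinearMap.range φ, ?_, ?_, ?_, LinearMap.finrank_range_of_inj hinj⟩
  · rintro _ ⟨u, rfl⟩
    exact Submodule.add_mem_sup u.2 (e u).2
  · rintro _ ⟨u, rfl⟩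
    refine ⟨g.restrict h1i u, ?_⟩
    rw [hφ, hφ, map_add, he]
    rfl
  · rintro _ ⟨u, rfl⟩
    rw [hφ, apply_add, horth _ u.2 _ (e u).2, add_zero]
    have h : -(Q (e u : V)) = Q (u : V) := heQ u
    rw [← h, neg_add_cancel]

include hr2 hrF in
/-- A chain of pairwise orthogonal minimal nondegenerate blocks. -/
theorem exists_block_list (hev : Even ordq) (hr : g ^ r = 1) (hg : ∀ v, Q (g v) = Q v) (n : ℕ) :
    ∀ {W : Submodule F V}, Nondeg Q W → (∀ v ∈ W, g v ∈ W) → (∀ v ∈ W, g v = v → v = 0) →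
      ordq * n ≤ finrank F W →
      ∃ U : Fin n → Submodule F V, (∀ j, U j ≤ W ∧ Nondeg Q (U j) ∧ (∀ v ∈ U j, g v ∈ U j) ∧
        finrank F (U j) = ordq) ∧ ∀ j k, j ≠ k → ∀ a ∈ U j, ∀ b ∈ U k, polar Q a b = 0 := by
  have hi0 := ord_pos (F := F) (r := r) hrF
  have hc : cstep ordq = ordq := if_pos hev
  induction n with
  | zero => exact fun _ _ _ _ => ⟨Fin.elim0, fun j => j.elim0, fun j => j.elim0⟩
  | succ n ih =>
    intro W hW hinv hfree hle
    rw [mul_add, mul_one] at hle
    obtain ⟨B, hBW, hBi, hB, hBd⟩ := exists_free_sub hr2 hrF hW hinv hr hg hfree (A' := 1) (by rw [hc]; omega)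
    rw [hc, mul_one] at hBd
    obtain ⟨hW', -, hd⟩ := nondeg_inf_perp hB hW hBW
    obtain ⟨U, hU, hUo⟩ := ih hW' (fun v hv => ⟨hinv v hv.1, inf_perp_invariant hr hg hBi v hv.2⟩)
      (fun v hv => hfree v hv.1) (by omega)
    refine ⟨Fin.cons B U, fun j => ?_, fun j k hjk => ?_⟩
    · refine Fin.cases ?_ (fun j => ?_) j
      · rw [Fin.cons_zero]; exact ⟨hBW, hB, hBi, hBd⟩
      · rw [Fin.cons_succ]; exact ⟨(hU j).1.trans inf_le_left, (hU j).2⟩
    · revert hjk
      refine Fin.cases ?_ (fun j => ?_) j <;> refine Fin.cases ?_ (fun k => ?_) k <;> intro hjk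
      · exact absurd rfl hjk
      · rw [Fin.cons_zero, Fin.cons_succ]
        exact fun a ha b hb => mem_perp.1 ((hU k).1 hb).2 a ha
      · rw [Fin.cons_zero, Fin.cons_succ]
        exact fun a ha b hb => by rw [QuadraticMap.polar_comm]; exact mem_perp.1 ((hU j).1 ha).2 b hb
      · rw [Fin.cons_succ, Fin.cons_succ]
        exact hUo j k fun e => hjk (congrArg Fin.succ e)

include hr2 hrF in
/-- A block with an invariant singular half. -/
theorem exists_split_block (hr : g ^ r = 1) (hg : ∀ v, Q (g v) = Q v) {W : Submodule F V} (hW : Nondeg Q W)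
    (hinv : ∀ v ∈ W, g v ∈ W) (hfree : ∀ v ∈ W, g v = v → v = 0)
    (hsize : (Odd ordq ∧ cstep ordq ≤ finrank F W) ∨
      (Even ordq ∧ ordq * ((ClassTheory.cycFactors F r).card + 1) ≤ finrank F W)) :
    ∃ X S : Submodule F V, X ≤ W ∧ Nondeg Q X ∧ (∀ v ∈ X, g v ∈ X) ∧ finrank F X = 2 * ordq ∧
      S ≤ X ∧ (∀ v ∈ S, g v ∈ S) ∧ (∀ x ∈ S, Q x = 0) ∧ finrank F S = ordq := by
  classical
  rcases hsize with ⟨hodd, hle⟩ | ⟨hev, hle⟩
  · obtain ⟨X, hXW, hXi, hX, hXd⟩ := exists_free_sub hr2 hrF hW hinv hr hg hfree (A' := 1) (by rw [mul_one]; exact hle)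
    rw [mul_one, show cstep ordq = 2 * ordq from if_neg (Nat.not_even_iff_odd.2 hodd)] at hXd
    have hfX : ∀ v, g.restrict hXi v = v → v = 0 := fun v hv =>
      Subtype.ext (hfree v (hXW v.2) (congrArg Subtype.val hv))
    have hrX := restrict_pow_eq_one g hr hXi
    have hi0 := ord_pos (F := F) (r := r) hrF
    obtain ⟨S₀, hS₀, hS₀d⟩ := exists_invariant_order (g.restrict hXi) hrX hfX (by omega)
    have hS₀s : ∀ x ∈ S₀, (Q.comp X.subtype) x = 0 := by
      rcases nondeg_or_singular hrX (Q := Q.comp X.subtype) (fun v => hg v) hfX hS₀ hS₀d with hn | hs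
      · exact absurd (minimal_nondeg_sub hr2 hrX (fun v => hg v) hfX hS₀ hn hS₀d hi0).1
          (Nat.not_even_iff_odd.2 hodd)
      · exact hs.1
    refine ⟨X, S₀.map X.subtype, hXW, hX, hXi, hXd, Submodule.map_subtype_le _ _, ?_, ?_,
      by rw [Submodule.finrank_map_subtype_eq, hS₀d]⟩
    · rintro _ ⟨x, hx, rfl⟩; exact ⟨_, hS₀ x hx, rfl⟩
    · rintro _ ⟨x, hx, rfl⟩; exact hS₀s x hx
  · obtain ⟨U, hU, hUo⟩ := exists_block_list hr2 hrF hev hr hg _ hW hinv hfree hle
    let κ : Fin ((ClassTheory.cycFactors F r).card + 1) → ClassTheory.cycFactors F r := fun j =>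
      ⟨(g.restrict (hU j).2.2.1).charpoly, charpoly_mem_cyc hrF (restrict_pow_eq_one g hr _)
        (fun v hv => Subtype.ext (hfree v ((hU j).1 v.2) (congrArg Subtype.val hv))) (hU j).2.2.2⟩
    obtain ⟨j, k, hjk, hκ⟩ := Fintype.exists_ne_map_eq_of_card_lt κ (by simp)
    obtain ⟨hjW, hjn, hji, hjd⟩ := hU j
    obtain ⟨hkW, hkn, hki, hkd⟩ := hU k
    obtain ⟨S, hS, hSi, hSs, hSd⟩ := exists_pair_singular hr2 hrF hr hg hjn hji hkn hki
      (fun v hv => hfree v (hjW hv)) (hUo j k hjk) (congrArg Subtype.val hκ)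
    refine ⟨U j ⊔ U k, S, sup_le hjW hkW, nondeg_sup hjn hkn (hUo j k hjk), fun v hv => ?_, ?_, hS, hSi, hSs,
      hSd.trans hjd⟩
    · obtain ⟨a, ha, b, hb, rfl⟩ := Submodule.mem_sup.1 hv
      rw [map_add]
      exact Submodule.add_mem_sup (hji a ha) (hki b hb)
    · rw [finrank_sup_orth hjn (hUo j k hjk), hjd, hkd, two_mul]

include hr2 hrF in
/-- Invariant singular subspaces of a free part. -/
theorem exists_free_singular (hr : g ^ r = 1) (hg : ∀ v, Q (g v) = Q v) (j : ℕ) :
    ∀ {W : Submodule F V}, Nondeg Q W → (∀ v ∈ W, g v ∈ W) → (∀ v ∈ W, g v = v → v = 0) →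
      (j = 0 ∨ (Odd ordq ∧ cstep ordq * j ≤ finrank F W) ∨
        (Even ordq ∧ ordq * ((ClassTheory.cycFactors F r).card + 2 * j) ≤ finrank F W + ordq)) →
      ∃ S : Submodule F V, S ≤ W ∧ (∀ v ∈ S, g v ∈ S) ∧ (∀ x ∈ S, Q x = 0) ∧ finrank F S = ordq * j := by
  induction j with
  | zero =>
    intro W _ _ _ _
    exact ⟨⊥, bot_le, fun v hv => by rw [(Submodule.mem_bot F).1 hv, map_zero]; exact zero_mem _,
      fun x hx => by rw [(Submodule.mem_bot F).1 hx, QuadraticMap.map_zero], by simp⟩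
  | succ j ih =>
    intro W hW hinv hfree hsize
    have hsize' := hsize.resolve_left (Nat.succ_ne_zero j)
    obtain ⟨X, S₁, hXW, hX, hXi, hXd, hS₁, hS₁i, hS₁s, hS₁d⟩ := exists_split_block hr2 hrF hr hg hW hinv hfree
      (by
        rcases hsize' with ⟨ho, h⟩ | ⟨he, h⟩
        · refine Or.inl ⟨ho, ?_⟩
          rw [mul_add, mul_one] at h
          omega
        · refine Or.inr ⟨he, ?_⟩
          simp only [mul_add, mul_one, ← mul_assoc, mul_comm ordq 2] at h ⊢
          omega)
    obtain ⟨hW', -, hd⟩ := nondeg_inf_perp hX hW hXW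
    obtain ⟨S, hS, hSi, hSs, hSd⟩ := ih hW' (fun v hv => ⟨hinv v hv.1, inf_perp_invariant hr hg hXi v hv.2⟩)
      (fun v hv => hfree v hv.1) (by
        refine Or.inr (hsize'.imp (fun ⟨ho, h⟩ => ⟨ho, ?_⟩) fun ⟨he, h⟩ => ⟨he, ?_⟩)
        · rw [mul_add, mul_one] at h
          have hc : cstep ordq = 2 * ordq := if_neg (Nat.not_even_iff_odd.2 ho)
          omega
        · simp only [mul_add, mul_one, ← mul_assoc, mul_comm ordq 2] at h ⊢
          omega)
    have horth : ∀ a ∈ S₁, ∀ b ∈ S, polar Q a b = 0 := fun a ha b hb => mem_perp.1 (hS hb).2 a (hS₁ ha)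
    refine ⟨S₁ ⊔ S, sup_le (hS₁.trans hXW) (hS.trans inf_le_left), fun v hv => ?_, fun x hx => ?_, ?_⟩
    · obtain ⟨a, ha, b, hb, rfl⟩ := Submodule.mem_sup.1 hv
      rw [map_add]
      exact Submodule.add_mem_sup (hS₁i a ha) (hSi b hb)
    · obtain ⟨a, ha, b, hb, rfl⟩ := Submodule.mem_sup.1 hx
      rw [apply_add, hS₁s a ha, hSs b hb, horth a ha b hb, add_zero, add_zero]
    · have h := Submodule.finrank_sup_add_finrank_inf_eq S₁ S
      have h2 : S₁ ⊓ S = ⊥ := (Submodule.eq_bot_iff _).2 fun x hx =>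
        hX x (hS₁ hx.1) fun y hy => by rw [QuadraticMap.polar_comm]; exact mem_perp.1 (hS hx.2).2 y hy
      rw [h2, finrank_bot, hS₁d, hSd] at h
      rw [mul_add, mul_one]
      omega

end CfsgLib.Geo.Elusive
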