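/-
Free isometries of odd prime order with few invariant totally singular subspaces.
-/
import Cfsg.Agent.Lib.Geo.Elusive.SingularFree

set_option autoImplicit false
set_option maxHeartbeats 800000
set_option linter.unusedSectionVars false
set_option linter.style.haveILetI false

namespace CfsgLib.Geo.Elusive

open CfsgLib.Classical CfsgLib.Classical.Quad CfsgLib.Geo.OrthMax CfsgLib.Geo.PrimeAct
open QuadraticMap (polar polarBilin)
open Module Polynomial

universe u

variable {F : Type u} [Field F] [Finite F] {r : ℕ} [Fact r.Prime]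

local notation "ordq" => orderOf (Nat.card F : ZMod r)

variable (hr2 : r ≠ 2) (hrF : (r : F) ≠ 0)
include hr2 hrF

/-- One component: the self-reciprocal factor with multiplicity. -/
theorem exists_component (hev : Even ordq) {f : F[X]} (hf : f ∈ ClassTheory.cycFactors F r) (a : ℕ) :
    ∃ (M : Type u) (_ : AddCommGroup M) (_ : Module F M) (_ : FiniteDimensional F M) (Q : QuadraticForm F M)
      (g : Module.End F M), (polarBilin Q).Nondegenerate ∧ (∀ v, Q (g v) = Q v) ∧ g ^ r = 1 ∧
      (∀ v, g v = v → v = 0) ∧ finrank F M = ordq * a ∧ aeval g f = 0 ∧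
      ∀ S : Submodule F M, (∀ v ∈ S, g v ∈ S) → (∀ x ∈ S, Q x = 0) → finrank F S ≤ ordq * (a / 2) := by
  haveI := Fintype.ofFinite F
  obtain ⟨p, hp⟩ := CharP.exists F
  obtain ⟨n, hpp, hn⟩ := FiniteField.card F p
  haveI : Fact p.Prime := ⟨hpp⟩
  have hrp : r.Prime := Fact.out
  have hne : r ≠ p := fun e => hrF ((CharP.cast_eq_zero_iff F p r).2 (e ▸ dvd_rfl))
  obtain ⟨hirr, hm⟩ := ClassTheory.mem_cycFactors_irreducible hf
  have hdeg := (cyc_facts hrF).1 f hf
  have hi0 := ord_pos (F := F) (r := r) hrF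
  have h0 := ClassTheory.mem_cycFactors_coeff_zero hrp hf
  have hdual : ClassTheory.dualPoly (RingHom.id F) f = f := congrArg Subtype.val
    ((ClassTheory.dualPerm_eq_iff (p := p) hrp hr2 hne (i := ordq) (by rw [Nat.card_eq_fintype_card]) ⟨f, hf⟩).2 hev)
  have hroot : ∀ c : F, f.eval c ≠ 0 := fun c h => by
    have hd : f.natDegree = 1 :=
      natDegree_eq_of_degree_eq_some (degree_eq_one_of_irreducible_of_root hirr h)
    rw [hdeg] at hd
    rw [hd] at hev
    exact Nat.not_even_one hev
  obtain ⟨M, _, _, _, Q, g, N, hQ, hg, hN, hN', hc⟩ :=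
    (ClassTheory.orthReal_self hm hirr h0 hdual fun c _ => hroot c).pow a
  have hsqf : Squarefree (minpoly F g) := ((X_pow_sub_one_separable_iff.2 hN').squarefree).squarefree_of_dvd
    (minpoly.dvd F g (by simp [hN]))
  have hdvd : minpoly F g ∣ f := by
    rcases Nat.eq_zero_or_pos a with rfl | ha
    · rw [pow_zero] at hc
      exact (LinearMap.minpoly_dvd_charpoly g).trans (hc ▸ one_dvd f)
    · exact (hsqf.dvd_pow_iff_dvd ha.ne').1 (hc ▸ LinearMap.minpoly_dvd_charpoly g)
  have hfg : aeval g f = 0 := by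
    obtain ⟨c, hc⟩ := hdvd
    rw [hc, map_mul, minpoly.aeval, zero_mul]
  have hgr : g ^ r = 1 := by
    obtain ⟨c, hc⟩ := ClassTheory.mem_cycFactors_dvd hrp hf
    have h := congrArg (aeval g) hc
    rw [map_sub, map_pow, aeval_X, map_one, map_mul, hfg, zero_mul, sub_eq_zero] at h
    exact h
  have hfree : ∀ v, g v = v → v = 0 := fun v hv => by
    by_contra hv0
    have h := Module.End.aeval_apply_of_hasEigenvector (f := g) (μ := 1) (p := f)
      ⟨Module.End.mem_eigenspace_iff.2 (by rw [hv, one_smul]), hv0⟩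
    rw [hfg, LinearMap.zero_apply] at h
    exact hv0 ((smul_eq_zero.1 h.symm).resolve_left (hroot 1))
  have hMd : finrank F M = ordq * a := by
    rw [← LinearMap.charpoly_natDegree g, hc, natDegree_pow, hdeg, mul_comm]
  refine ⟨M, inferInstance, inferInstance, inferInstance, Q, g, hQ, hg, hgr, hfree, hMd, hfg, fun S hS hSs => ?_⟩
  obtain ⟨s, hs⟩ := dvd_finrank_of_free hgr hfree S hS
  have h2 := two_mul_le_of_singular (C := (⊤ : Submodule F M)) (nondeg_top hQ) le_top hSs
  rw [finrank_top, hMd, hs, ← mul_assoc, mul_comm 2, mul_assoc] at h2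
  rw [hs]
  refine Nat.mul_le_mul_left _ ?_
  have := Nat.le_of_mul_le_mul_left h2 hi0
  omega

/-- Orthogonal sums of components. -/
theorem exists_multi_component (hev : Even ordq) (a : F[X] → ℕ) (J : Finset F[X]) (hJ : J ⊆ ClassTheory.cycFactors F r) :
    ∃ (M : Type u) (_ : AddCommGroup M) (_ : Module F M) (_ : FiniteDimensional F M) (Q : QuadraticForm F M)
      (g : Module.End F M), (polarBilin Q).Nondegenerate ∧ (∀ v, Q (g v) = Q v) ∧ g ^ r = 1 ∧
      (∀ v, g v = v → v = 0) ∧ finrank F M = ordq * ∑ f ∈ J, a f ∧ aeval g (∏ f ∈ J, f) = 0 ∧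
      ∀ S : Submodule F M, (∀ v ∈ S, g v ∈ S) → (∀ x ∈ S, Q x = 0) → finrank F S ≤ ordq * ∑ f ∈ J, a f / 2 := by
  classical
  induction J using Finset.induction_on with
  | empty =>
    refine ⟨Fin 0 → F, inferInstance, inferInstance, inferInstance, 0, 1,
      ⟨fun v _ => Subsingleton.elim _ _, fun v _ => Subsingleton.elim _ _⟩, fun v => rfl, one_pow r,
      fun v _ => Subsingleton.elim _ _, by simp, LinearMap.ext fun v => Subsingleton.elim _ _, fun S _ _ => ?_⟩
    have h := Submodule.finrank_le S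
    simp at h ⊢
    exact h
  | @insert f J hfJ ih =>
    rw [Finset.insert_subset_iff] at hJ
    obtain ⟨M, _, _, _, Q, g, hQ, hg, hgr, hfree, hMd, hPg, hbd⟩ := ih hJ.2
    obtain ⟨N, _, _, _, R, k, hR, hk, hkr, hkfree, hNd, hfk, hkbd⟩ := exists_component hr2 hrF hev hJ.1 (a f)
    set G : Module.End F (M × N) := LinearMap.prodMap g k with hG
    have haev : ∀ P : F[X], aeval G P = LinearMap.prodMap (aeval g P) (aeval k P) := fun P => by
      show aeval (LinearMap.prodMapAlgHom F M N (g, k)) P = _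
      rw [aeval_algHom_apply, aeval_prod_apply]
      rfl
    have hcop : IsCoprime (∏ f' ∈ J, f') f := IsCoprime.prod_left fun f' hf' => by
      obtain ⟨h1, h1m⟩ := ClassTheory.mem_cycFactors_irreducible (hJ.2 hf')
      obtain ⟨h2, h2m⟩ := ClassTheory.mem_cycFactors_irreducible hJ.1
      exact h1.coprime_iff_not_dvd.2 fun hd => hfJ
        (eq_of_monic_of_associated h1m h2m (h1.associated_of_dvd h2 hd) ▸ hf')
    obtain ⟨u, v, huv⟩ := hcop
    refine ⟨M × N, inferInstance, inferInstance, inferInstance, Q.prod R, G, ClassTheory.prod_nondeg hQ hR,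
      fun x => by simp [hG, hg, hk], ?_, fun x hx => ?_, ?_, ?_, fun S hS hSs => ?_⟩
    · rw [hG, ClassTheory.prodMap_pow_eq, hgr, hkr]
      exact LinearMap.ext fun _ => rfl
    · exact Prod.ext (hfree _ (congrArg Prod.fst hx)) (hkfree _ (congrArg Prod.snd hx))
    · rw [finrank_prod, Finset.sum_insert hfJ, hMd, hNd, mul_add, add_comm]
    · rw [Finset.prod_insert hfJ, haev, map_mul, map_mul, hfk, hPg, mul_zero, zero_mul, LinearMap.prodMap_zero]
    · have hpoly : ∀ P : F[X], ∀ x ∈ S, aeval G P x ∈ S := fun P x hx => by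
        induction P using Polynomial.induction_on' with
        | add p q hp hq => rw [map_add, LinearMap.add_apply]; exact S.add_mem hp hq
        | monomial j c =>
          rw [aeval_monomial, ← Algebra.smul_def, LinearMap.smul_apply]
          refine S.smul_mem _ ?_
          induction j with
          | zero => simpa using hx
          | succ j ih => rw [pow_succ', Module.End.mul_apply]; exact hS _ ih
      set S₁ := S.comap (LinearMap.inl F M N) with hS₁
      set S₂ := S.comap (LinearMap.inr F M N) with hS₂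
      have hsplit : S ≤ S₁.prod S₂ := fun x hx => by
        have h := hpoly (v * f) x hx
        have h1 : aeval g (v * f) = 1 := by
          have h' := congrArg (aeval g) huv
          rw [map_add, map_mul (aeval g) u, hPg, mul_zero, zero_add, map_one] at h'
          exact h'
        have h2 : aeval k (v * f) = 0 := by rw [map_mul, hfk, mul_zero]
        rw [haev, h1, h2] at h
        have hfst : (x.1, (0 : N)) ∈ S := h
        refine ⟨hfst, ?_⟩
        show ((0 : M), x.2) ∈ S
        have := S.sub_mem hx hfst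
        simpa [Prod.sub_def] using this
      have hd := Submodule.finrank_mono hsplit
      rw [ClassTheory.finrank_submodule_prod] at hd
      have b1 : finrank F S₁ ≤ ordq * ∑ f ∈ J, a f / 2 := hbd S₁ (fun m hm => by
          show (g m, (0 : N)) ∈ S
          have := hS _ hm
          simpa [hG] using this)
        fun m hm => by simpa using hSs _ hm
      have b2 : finrank F S₂ ≤ ordq * (a f / 2) := hkbd S₂ (fun m hm => by
          show ((0 : M), k m) ∈ S
          have := hS _ hm
          simpa [hG] using this)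
        fun m hm => by simpa using hSs _ hm
      rw [Finset.sum_insert hfJ, mul_add]
      omega

/-- A free model with `A` blocks and the fewest invariant singular subspaces. -/
theorem exists_bounded_model (hev : Even ordq) (A : ℕ) :
    ∃ (M : Type u) (_ : AddCommGroup M) (_ : Module F M) (_ : FiniteDimensional F M) (Q : QuadraticForm F M)
      (g : Module.End F M), (polarBilin Q).Nondegenerate ∧ (∀ v, Q (g v) = Q v) ∧ g ^ r = 1 ∧
      (∀ v, g v = v → v = 0) ∧ finrank F M = ordq * A ∧
      ∀ S : Submodule F M, (∀ v ∈ S, g v ∈ S) → (∀ x ∈ S, Q x = 0) →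
        finrank F S ≤ ordq * ((A + 1 - (ClassTheory.cycFactors F r).card) / 2) := by
  classical
  have hne : (ClassTheory.cycFactors F r).Nonempty := by
    rw [← Finset.card_pos]
    rcases Nat.eq_zero_or_pos (ClassTheory.cycFactors F r).card with h | h
    · have h2 := (cyc_facts (F := F) (r := r) hrF).2
      have := (Fact.out : r.Prime).two_le
      rw [h, zero_mul] at h2
      omega
    · exact h
  rcases Nat.lt_or_ge (ClassTheory.cycFactors F r).card A with hlt | hge
  · have hpos := hne.card_pos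
    obtain ⟨f₀, hf₀⟩ := hne
    set t := (ClassTheory.cycFactors F r).card with ht
    obtain ⟨M, _, _, _, Q, g, hQ, hg, hgr, hfree, hd, -, hb⟩ :=
      exists_multi_component hr2 hrF hev (fun f => if f = f₀ then A + 1 - t else 1) _ (Finset.Subset.refl _)
    have hs : ∑ f ∈ ClassTheory.cycFactors F r, (if f = f₀ then A + 1 - t else 1) = A := by
      rw [← Finset.add_sum_erase _ _ hf₀, if_pos rfl,
        Finset.sum_congr rfl (fun f hf => if_neg (Finset.ne_of_mem_erase hf)), Finset.sum_const,
        Finset.card_erase_of_mem hf₀, smul_eq_mul, mul_one, ← ht]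
      omega
    refine ⟨M, inferInstance, inferInstance, inferInstance, Q, g, hQ, hg, hgr, hfree, by rw [hd, hs],
      fun S hS hSs => (hb S hS hSs).trans_eq ?_⟩
    rw [← Finset.add_sum_erase _ _ hf₀, Finset.sum_eq_zero (s := (ClassTheory.cycFactors F r).erase f₀)
      fun f hf => by rw [if_neg (Finset.ne_of_mem_erase hf)]; norm_num, if_pos rfl, add_zero]
  · obtain ⟨J, hJ, hJc⟩ := Finset.exists_subset_card_eq hge
    obtain ⟨M, _, _, _, Q, g, hQ, hg, hgr, hfree, hd, -, hb⟩ :=
      exists_multi_component hr2 hrF hev (fun _ => 1) J hJ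
    refine ⟨M, inferInstance, inferInstance, inferInstance, Q, g, hQ, hg, hgr, hfree,
      by rw [hd, Finset.sum_const, hJc, smul_eq_mul, mul_one], fun S hS hSs => (hb S hS hSs).trans ?_⟩
    simp

variable {V : Type u} [AddCommGroup V] [Module F V] [FiniteDimensional F V] {Q : QuadraticForm F V}

/-- Elements with `A` blocks and few invariant singular subspaces in the moved part. -/
theorem exists_element_bounded (hQ : (polarBilin Q).Nondegenerate) {A : ℕ} (hA1 : 1 ≤ A)
    (h : Adm (cstep ordq) ordq (finrank F V) (Plus Q (⊤ : Submodule F V)) A) :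
    ∃ g : Module.End F V, g ^ r = 1 ∧ (∀ v, Q (g v) = Q v) ∧ finrank F (restSp r g) = cstep ordq * A ∧
      finrank F (fixSp g) + cstep ordq * A = finrank F V ∧
      ∀ S : Submodule F V, S ≤ restSp r g → (∀ v ∈ S, g v ∈ S) → (∀ x ∈ S, Q x = 0) →
        Even ordq → finrank F S ≤ ordq * ((A + 1 - (ClassTheory.cycFactors F r).card) / 2) := by
  rcases Nat.even_or_odd ordq with hev | hodd
  swap
  · obtain ⟨g, h1, h2, h3, h4⟩ := exists_element hr2 hrF hQ hA1 h
    exact ⟨g, h1, h2, h3, h4, fun S _ _ _ he => absurd hodd (Nat.not_odd_iff_even.2 he)⟩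
  obtain ⟨M, _, _, _, R, g₀, hR, hg₀, hg₀r, hg₀f, hMd, hbd⟩ := exists_bounded_model hr2 hrF hev A
  obtain ⟨A', hA', hMp⟩ := free_type hr2 hrF (Q := R) (g := g₀) (W := ⊤) (nondeg_top hR)
    (fun v _ => Submodule.mem_top) hg₀r hg₀ fun v _ hv => hg₀f v hv
  have hc : cstep ordq = ordq := if_pos hev
  have hi0 := ord_pos (F := F) (r := r) hrF
  rw [finrank_top, hMd, hc] at hA'
  obtain rfl : A = A' := Nat.eq_of_mul_eq_mul_left hi0 hA'
  obtain ⟨l, hl⟩ : Even (cstep ordq * A) := (cstep_even _).mul_right A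
  have hl1 : 1 ≤ l := by
    have := Nat.mul_pos (cstep_pos (F := F) (r := r) hrF) hA1
    omega
  obtain ⟨U, hUn, hUd, hUp⟩ : ∃ U : Submodule F V, Nondeg Q U ∧ finrank F U = 2 * l ∧
      (Plus Q U ↔ Sgn ordq A) := by
    rcases eq_or_lt_of_le h.1 with he | hlt
    · exact ⟨⊤, nondeg_top hQ, by rw [finrank_top]; omega, h.2 he⟩
    by_cases hs : Sgn ordq A
    · obtain ⟨U, -, h1, h2, h3⟩ := exists_plus_sub (nondeg_top hQ) (k := l) (by rw [finrank_top]; omega)
      exact ⟨U, h1, h3, iff_of_true h2 hs⟩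
    · obtain ⟨U, -, h1, h2, h3⟩ := exists_minus_sub (nondeg_top hQ) hl1 (by rw [finrank_top]; omega)
      exact ⟨U, h1, h3, iff_of_false h2 hs⟩
  have hUp' : Plus (Q.comp U.subtype) (⊤ : Submodule F U) ↔ Plus Q U := by
    have := (plus_map_iff (Q := Q) (U := (⊤ : Submodule F U))).symm
    rwa [Submodule.map_subtype_top] at this
  obtain ⟨e, he⟩ := exists_isometry_of_type hR hUn.comp (k := l) (by rw [hMd, ← hc]; omega) hUd
    (hMp.trans (hUp.symm.trans hUp'.symm))
  set e2 := Submodule.prodEquivOfIsCompl U (OrthMax.perp Q U) (hUn.isCompl hQ) with he2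
  have he2a : ∀ z, e2 z = (z.1 : V) + (z.2 : V) := fun z => rfl
  have hQz : ∀ z, Q (e2 z) = Q (z.1 : V) + Q (z.2 : V) := fun z => by
    rw [he2a, apply_add, mem_perp.1 z.2.2 _ z.1.2, add_zero]
  set g₁ : Module.End F U := e.toLinearMap ∘ₗ g₀ ∘ₗ e.symm.toLinearMap with hg₁
  have hg₁a : ∀ x, g₁ (e x) = e (g₀ x) := fun x => by
    show e (g₀ (e.symm (e x))) = _
    rw [e.symm_apply_apply]
  have hg₁r : g₁ ^ r = 1 := LinearMap.ext fun v => by
    obtain ⟨x, rfl⟩ := e.surjective v
    rw [hg₁, conj_pow_apply, hg₀r]; rfl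
  let G : Module.End F V := e2.toLinearMap ∘ₗ LinearMap.prodMap g₁ LinearMap.id ∘ₗ e2.symm.toLinearMap
  have hGa : ∀ z, G (e2 z) = e2 (g₁ z.1, z.2) := fun z => by
    show e2 (LinearMap.prodMap g₁ LinearMap.id (e2.symm (e2 z))) = _
    rw [e2.symm_apply_apply]; rfl
  have hGr : G ^ r = 1 := by
    refine LinearMap.ext fun v => ?_
    obtain ⟨z, rfl⟩ := e2.surjective v
    have hk : ∀ k : ℕ, (G ^ k) (e2 z) = e2 ((g₁ ^ k) z.1, z.2) := fun k => by
      induction k with
      | zero => rfl
      | succ k ih => rw [pow_succ', Module.End.mul_apply, ih, hGa, pow_succ', Module.End.mul_apply]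
    rw [hk, hg₁r]; rfl
  have hG : ∀ v, Q (G v) = Q v := fun v => by
    obtain ⟨z, rfl⟩ := e2.surjective v
    obtain ⟨x, hx⟩ := e.surjective z.1
    rw [hGa, hQz, hQz, ← hx, hg₁a]
    exact congrArg (· + _) ((he (g₀ x)).trans ((hg₀ x).trans (he x).symm))
  have hfix : fixSp G = OrthMax.perp Q U := by
    ext v
    obtain ⟨z, rfl⟩ := e2.surjective v
    obtain ⟨x, hx⟩ := e.surjective z.1
    rw [mem_fixSp, hGa, e2.injective.eq_iff, Prod.ext_iff, ← hx, hg₁a, e.injective.eq_iff]
    constructor
    · rintro ⟨hz, -⟩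
      rw [he2a, ← hx, hg₀f x hz, map_zero, Submodule.coe_zero, zero_add]
      exact z.2.2
    · intro hz
      have h0 : z.1 = 0 := Subtype.ext ((Submodule.disjoint_def.1 (hUn.isCompl hQ).disjoint) _ z.1.2 (by
        have := Submodule.sub_mem _ hz z.2.2
        rwa [he2a, add_sub_cancel_right] at this))
      have hx0 : x = 0 := e.injective (by rw [hx, h0, map_zero])
      exact ⟨by rw [hx0, map_zero], rfl⟩
  have hd : finrank F (fixSp G) + cstep ordq * A = finrank F V := by
    rw [hfix, finrank_perp hQ, hUd]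
    have := h.1
    omega
  have hsplit := finrank_split hGr hrF ⊤ fun v _ => Submodule.mem_top
  rw [top_inf_eq, top_inf_eq, finrank_top] at hsplit
  have hrest : restSp r G = U := by
    refine (Submodule.eq_of_le_of_finrank_eq (fun u hu => ?_) (by omega)).symm
    have hk : ∀ j : ℕ, (G ^ j) (e2 (⟨u, hu⟩, 0)) = e2 ((g₁ ^ j) ⟨u, hu⟩, 0) := fun j => by
      induction j with
      | zero => rfl
      | succ j ih => rw [pow_succ', Module.End.mul_apply, ih, hGa, pow_succ', Module.End.mul_apply]
    show orbitSum r G u = 0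
    have hu' : u = e2 (⟨u, hu⟩, 0) := by rw [he2a]; simp
    have hs : orbitSum r g₁ ⟨u, hu⟩ = 0 := by
      have hfree₁ : ∀ v, g₁ v = v → v = 0 := fun v hv => by
        obtain ⟨x, rfl⟩ := e.surjective v
        rw [hg₁a, e.injective.eq_iff] at hv
        rw [hg₀f x hv, map_zero]
      exact hfree₁ _ (apply_orbitSum hg₁r _)
    have hcong : ∀ j ∈ Finset.range r, (G ^ j) u = (((g₁ ^ j) ⟨u, hu⟩ : U) : V) := fun j _ => by
      have h1 := hk j
      rw [← hu', he2a, Submodule.coe_zero, add_zero] at h1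
      exact h1
    rw [orbitSum, LinearMap.sum_apply, Finset.sum_congr rfl hcong, ← Submodule.coe_sum, ← LinearMap.sum_apply,
      ← orbitSum, hs, Submodule.coe_zero]
  refine ⟨G, hGr, hG, by rw [hrest, hUd]; omega, hd, fun S hSR hS hSs _ => ?_⟩
  rw [hrest] at hSR
  have hb := hbd ((S.comap U.subtype).comap e.toLinearMap) (fun x hx => by
      show ((e (g₀ x) : U) : V) ∈ S
      have h1 := hS _ hx
      have h2 : G ((e x : U) : V) = ((e (g₀ x) : U) : V) := by
        have := hGa (e x, 0)
        rw [he2a, he2a] at this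
        simpa [hg₁a] using this
      rw [← h2]
      exact h1)
    fun x hx => (he x).symm.trans (hSs _ hx)
  rwa [LinearEquiv.finrank_eq (e.ofSubmodule' (S.comap U.subtype)), (Submodule.comapSubtypeEquivOfLe hSR).finrank_eq] at hb

end CfsgLib.Geo.Elusive
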