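/-
The criterion for totally singular subspaces fixed by all elements of odd prime order.
-/
import Cfsg.Agent.Lib.Geo.Elusive.SingularWitness
import Cfsg.Agent.Lib.Geo.Elusive.Degenerate

set_option autoImplicit false
set_option maxHeartbeats 800000
set_option linter.unusedSectionVars false
set_option linter.style.haveILetI false

namespace CfsgLib.Geo.Elusive

open CfsgLib.Classical CfsgLib.Classical.Quad CfsgLib.Geo.OrthMax CfsgLib.Geo.PrimeAct
open QuadraticMap (polar polarBilin)
open Module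

universe u

variable {F : Type u} [Field F] [Finite F] {r : ℕ} [Fact r.Prime]
variable {V : Type u} [AddCommGroup V] [Module F V] [FiniteDimensional F V] {Q : QuadraticForm F V}

local notation "ordq" => orderOf (Nat.card F : ZMod r)

/-- The number of singular blocks in every element with `A` free blocks. -/
def tsBound (i t A : ℕ) : ℕ := if Even i then (A + 1 - t) / 2 else A

/-- Every element with `A` blocks fixes a singular subspace of dimension `m`. -/
def TSGood (c i t n m : ℕ) (T : Prop) (A : ℕ) : Prop :=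
  ∃ j, j ≤ tsBound i t A ∧ i * j ≤ m ∧
    (2 * (m - i * j) + c * A < n ∨ (2 * (m - i * j) + c * A = n ∧ (Sgn i A ↔ T)))

variable (hr2 : r ≠ 2) (hrF : (r : F) ≠ 0)
include hr2 hrF

theorem singular_of_good (hQ : (polarBilin Q).Nondegenerate) {g : Module.End F V} (hr : g ^ r = 1)
    (hg : ∀ v, Q (g v) = Q v) {A m : ℕ} (hA : finrank F (restSp r g) = cstep ordq * A)
    (hgood : TSGood (cstep ordq) ordq (ClassTheory.cycFactors F r).card (finrank F V) m
      (Plus Q (⊤ : Submodule F V)) A) :
    ∃ W : Submodule F V, (∀ v ∈ W, g v ∈ W) ∧ finrank F W = m ∧ ∀ x ∈ W, Q x = 0 := by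
  obtain ⟨A₁, hA₁, hsum, -, hCp⟩ := exists_blocks hr2 hrF hQ hr hg
  obtain rfl : A = A₁ := Nat.eq_of_mul_eq_mul_left (cstep_pos hrF) (hA.symm.trans hA₁)
  have hC := nondeg_fix hQ hr hg hrF
  obtain ⟨j, hj, hjm, hsize⟩ := hgood
  obtain ⟨S, hSR, hSi, hSs, hSd⟩ := exists_free_singular hr2 hrF hr hg j (nondeg_rest hQ hr hg hrF)
    (restSp_invariant hr) (fun v hv h => free_of_le_rest hrF hv h) (by
      unfold tsBound at hj
      rcases Nat.eq_zero_or_pos j with h0 | h0
      · exact Or.inl h0
      refine Or.inr ?_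
      rw [hA]
      split at hj
      · rename_i hev
        refine Or.inr ⟨hev, ?_⟩
        rw [show cstep ordq = ordq from if_pos hev]
        calc ordq * ((ClassTheory.cycFactors F r).card + 2 * j) ≤ ordq * (A + 1) :=
              Nat.mul_le_mul_left _ (by omega)
          _ = ordq * A + ordq := by rw [mul_add, mul_one]
      · rename_i hev
        exact Or.inl ⟨Nat.not_even_iff_odd.1 hev, Nat.mul_le_mul_left _ hj⟩)
  obtain ⟨T, hTC, hTs, hTd⟩ : TSIn Q (fixSp g) (m - ordq * j) := by
    rw [tsIn_iff hC]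
    rcases hsize with h | ⟨h, hs⟩
    · exact Or.inl (by omega)
    · refine Or.inr ⟨by omega, (hCp ?_).2 hs⟩
      rw [← h]
      exact (even_two_mul _).add ((cstep_even _).mul_right A)
  refine ⟨T ⊔ S, fun v hv => ?_, ?_, fun x hx => ?_⟩
  · obtain ⟨a, ha, b, hb, rfl⟩ := Submodule.mem_sup.1 hv
    rw [map_add, mem_fixSp.1 (hTC ha)]
    exact Submodule.add_mem_sup ha (hSi b hb)
  · have h := Submodule.finrank_sup_add_finrank_inf_eq T S
    have h0 : T ⊓ S = ⊥ := le_bot_iff.1 ((inf_le_inf hTC hSR).trans (disjoint_fix_rest hrF).le)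
    rw [h0, finrank_bot, hTd, hSd] at h
    omega
  · obtain ⟨a, ha, b, hb, rfl⟩ := Submodule.mem_sup.1 hx
    rw [apply_add, hTs a ha, hSs b hb, polar_fix_rest hg hrF a (hTC ha) b (hSR hb), add_zero, add_zero]

theorem good_of_singular (hQ : (polarBilin Q).Nondegenerate) {g : Module.End F V} (hr : g ^ r = 1)
    (hg : ∀ v, Q (g v) = Q v) {A m : ℕ} (hA : finrank F (restSp r g) = cstep ordq * A)
    (hbd : ∀ S : Submodule F V, S ≤ restSp r g → (∀ v ∈ S, g v ∈ S) → (∀ x ∈ S, Q x = 0) →
        Even ordq → finrank F S ≤ ordq * ((A + 1 - (ClassTheory.cycFactors F r).card) / 2))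
    {W : Submodule F V} (hinv : ∀ v ∈ W, g v ∈ W) (hWd : finrank F W = m) (hWs : ∀ x ∈ W, Q x = 0) :
    TSGood (cstep ordq) ordq (ClassTheory.cycFactors F r).card (finrank F V) m
      (Plus Q (⊤ : Submodule F V)) A := by
  obtain ⟨A₁, hA₁, hsum, -, hCp⟩ := exists_blocks hr2 hrF hQ hr hg
  obtain rfl : A = A₁ := Nat.eq_of_mul_eq_mul_left (cstep_pos hrF) (hA.symm.trans hA₁)
  have hC := nondeg_fix hQ hr hg hrF
  have hi0 := ord_pos (F := F) (r := r) hrF
  obtain ⟨j, hj⟩ := orderOf_dvd_finrank_inf_rest hr hrF W hinv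
  have hsplit := finrank_split hr hrF W hinv
  refine ⟨j, ?_, by omega, ?_⟩
  · unfold tsBound
    split
    · rename_i hev
      refine Nat.le_of_mul_le_mul_left (hj ▸ hbd _ inf_le_right
        (fun v hv => ⟨hinv v hv.1, restSp_invariant hr v hv.2⟩) (fun x hx => hWs x hx.1) hev) hi0
    · rename_i hev
      have h := two_mul_le_of_singular (C := restSp r g) (nondeg_rest hQ hr hg hrF) (S := W ⊓ restSp r g)
        inf_le_right fun x hx => hWs x hx.1
      rw [hj, hA, show cstep ordq = 2 * ordq from if_neg hev, mul_assoc] at h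
      exact Nat.le_of_mul_le_mul_left (Nat.le_of_mul_le_mul_left h two_pos) hi0
  · have hTS : TSIn Q (fixSp g) (m - ordq * j) :=
      ⟨W ⊓ fixSp g, inf_le_right, fun x hx => hWs x hx.1, by omega⟩
    rcases (tsIn_iff hC _).1 hTS with h | ⟨h, hp⟩
    · exact Or.inl (by omega)
    · refine Or.inr ⟨by omega, (hCp ?_).1 hp⟩
      rw [← hsum, ← h]
      exact (even_two_mul _).add ((cstep_even _).mul_right A)

theorem main_ts (hQ : (polarBilin Q).Nondegenerate) {W₀ : Submodule F V} (hW₀ : ∀ x ∈ W₀, Q x = 0) {m : ℕ}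
    (hW₀d : finrank F W₀ = m) (hdvd : r ∣ Nat.card {W : Submodule F V // Iso Q W W₀}) {Crit : Prop}
    (e1 : Crit → ∀ A, 1 ≤ A → Adm (cstep ordq) ordq (finrank F V) (Plus Q (⊤ : Submodule F V)) A →
      TSGood (cstep ordq) ordq (ClassTheory.cycFactors F r).card (finrank F V) m (Plus Q (⊤ : Submodule F V)) A)
    (e2 : ordq ≤ m → (∀ A, 1 ≤ A → Adm (cstep ordq) ordq (finrank F V) (Plus Q (⊤ : Submodule F V)) A →
      TSGood (cstep ordq) ordq (ClassTheory.cycFactors F r).card (finrank F V) m (Plus Q (⊤ : Submodule F V)) A) →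
      Crit) :
    (∀ g : Module.End F V, g ^ r = 1 → g ≠ 1 → (∀ v, Q (g v) = Q v) →
      ∃ W : Submodule F V, (∀ v ∈ W, g v ∈ W) ∧ Iso Q W W₀) ↔ Crit := by
  constructor
  · intro hall
    refine e2 ?_ fun A hA1 hAdm => ?_
    · by_contra hlt
      push Not at hlt
      refine not_dvd_of_fixed hQ hrF W₀ (fun g hr hg => ?_) (fun g hr hg W hinv hiso => ?_) hdvd
      · by_cases h1 : g = 1
        · exact ⟨W₀, fun v hv => by rw [h1]; exact hv, Iso.refl W₀⟩
        · exact hall g hr h1 hg
      · obtain ⟨j, hj⟩ := orderOf_dvd_finrank_inf_rest hr hrF W hinv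
        have hle : finrank F ↥(W ⊓ restSp r g) ≤ finrank F W := Submodule.finrank_mono inf_le_left
        have hj0 : j = 0 := by
          rcases Nat.eq_zero_or_pos j with h | h
          · exact h
          · rw [hj, hiso.finrank_eq, hW₀d] at hle
            have := Nat.le_mul_of_pos_right ordq h
            omega
        have hsplit := finrank_split hr hrF W hinv
        rw [hj, hj0, mul_zero, add_zero] at hsplit
        exact inf_eq_left.1 (Submodule.eq_of_le_of_finrank_eq inf_le_left hsplit)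
    · obtain ⟨g, hr, hg, hA, -, hbd⟩ := exists_element_bounded hr2 hrF hQ hA1 hAdm
      have hg1 : g ≠ 1 := by
        rintro rfl
        have h0 : restSp r (1 : Module.End F V) = ⊥ := le_bot_iff.1 fun v hv =>
          (Submodule.mem_bot F).2 (free_of_le_rest hrF hv rfl)
        rw [h0, finrank_bot] at hA
        have := Nat.mul_pos (cstep_pos (F := F) (r := r) hrF) hA1
        omega
      obtain ⟨W, hinv, hiso⟩ := hall g hr hg1 hg
      obtain ⟨hd, hs⟩ := (iso_singular hW₀).1 hiso
      exact good_of_singular hr2 hrF hQ hr hg hA hbd hinv (hd.trans hW₀d) hs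
  · intro hC g hr hg1 hg
    obtain ⟨A, hA, hsum, hRp, hCp⟩ := exists_blocks hr2 hrF hQ hr hg
    have hA1 : 1 ≤ A := by
      rcases Nat.eq_zero_or_pos A with rfl | h
      · rw [mul_zero, Submodule.finrank_eq_zero] at hA
        refine absurd (LinearMap.ext fun v => ?_) hg1
        have hv : v ∈ fixSp g ⊔ restSp r g := (fix_sup_rest hr hrF).ge Submodule.mem_top
        rw [hA, sup_bot_eq] at hv
        exact mem_fixSp.1 hv
      · exact h
    have hAdm : Adm (cstep ordq) ordq (finrank F V) (Plus Q (⊤ : Submodule F V)) A := by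
      refine ⟨by omega, fun he => ?_⟩
      have h0 : fixSp g = ⊥ := Submodule.finrank_eq_zero.1 (by omega)
      have hev : Even (finrank F V) := he ▸ (cstep_even _).mul_right A
      have h := hCp hev
      rw [h0] at h
      exact (h.1 plus_bot).symm
    obtain ⟨W, hinv, hd, hs⟩ := singular_of_good hr2 hrF hQ hr hg hA (e1 hC A hA1 hAdm)
    exact ⟨W, hinv, (iso_singular hW₀).2 ⟨hd.trans hW₀d.symm, hs⟩⟩

end CfsgLib.Geo.Elusive
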