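/-
Arithmetic of the criterion for totally singular subspaces.
-/
import Cfsg.Agent.Lib.Geo.Elusive.SingularMain

set_option autoImplicit false
set_option maxHeartbeats 1600000

namespace CfsgLib.Geo.Elusive

/-- The closed form of the criterion. -/
def TSCrit (c i t n m : ℕ) (T : Prop) : Prop :=
  i ≤ m ∧
    ((Odd i ∧ (2 * (m % i) < n % c ∨ (2 * (m % i) = n % c ∧ T) ∨ (n % c = 0 ∧ ¬ T))) ∨
      (Even i ∧ t + 2 * (m / i) ≤ n / i ∧
        ((n % c = 0 ∧ ¬ (T ↔ Even (n / i)) ∧ 2 * (m % i) ≤ i ∧ t + 2 * (m / i) < n / i) ∨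
          2 * (m % i) < n % c ∨ (2 * (m % i) = n % c ∧ (T ↔ Even (n / i))))))

theorem compare {i l k : ℕ} (hl : l < i) (hk : k < i) (S N : ℕ) :
    (2 * l + i * S < i * N + k ↔ (S + 2 ≤ N ∨ (S + 1 = N ∧ 2 * l < i + k) ∨ (S = N ∧ 2 * l < k))) ∧
      (2 * l + i * S = i * N + k ↔ ((S + 1 = N ∧ 2 * l = i + k) ∨ (S = N ∧ 2 * l = k))) := by
  rcases Nat.lt_trichotomy S N with h | rfl | h
  · rcases Nat.lt_or_ge (S + 1) N with h1 | h1
    · have h2 : i * (S + 2) ≤ i * N := Nat.mul_le_mul_left _ h1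
      rw [mul_add] at h2
      constructor <;> constructor <;> intro <;> omega
    · obtain rfl : N = S + 1 := by omega
      rw [mul_add, mul_one]
      constructor <;> constructor <;> intro <;> omega
  · constructor <;> constructor <;> intro <;> omega
  · have h2 : i * (N + 1) ≤ i * S := Nat.mul_le_mul_left _ h
    rw [mul_add, mul_one] at h2
    constructor <;> constructor <;> intro <;> omega

theorem expand {i m n c : ℕ} (hc : c = i) {j : ℕ} (hj : j ≤ m / i) (A : ℕ) :
    (2 * (m - i * j) + c * A = 2 * (m % i) + i * (2 * (m / i - j) + A)) ∧ n = i * (n / i) + n % i := by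
  refine ⟨?_, (Nat.div_add_mod n i).symm⟩
  obtain ⟨u, hu⟩ := Nat.exists_eq_add_of_le hj
  have hm : m = i * (m / i) + m % i := (Nat.div_add_mod m i).symm
  rw [hu] at hm ⊢
  rw [mul_add] at hm
  rw [hc, Nat.add_sub_cancel_left, mul_add, mul_left_comm i 2 u]
  omega

theorem ts_even {i t n m : ℕ} {T : Prop} (hev : Even i) (hi : i ≤ m) (hi0 : 0 < i) (ht : 1 ≤ t) (hmn : 2 * m ≤ n) :
    (∀ A, 1 ≤ A → Adm i i n T A → TSGood i i t n m T A) ↔
      (t + 2 * (m / i) ≤ n / i ∧
        ((n % i = 0 ∧ ¬ (T ↔ Even (n / i)) ∧ 2 * (m % i) ≤ i ∧ t + 2 * (m / i) < n / i) ∨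
          2 * (m % i) < n % i ∨ (2 * (m % i) = n % i ∧ (T ↔ Even (n / i))))) := by
  have hl : m % i < i := Nat.mod_lt m hi0
  have hk : n % i < i := Nat.mod_lt n hi0
  have hM : 1 ≤ m / i := (Nat.one_le_div_iff hi0).2 hi
  have hN : 2 * (m / i) ≤ n / i := by
    rw [Nat.le_div_iff_mul_le hi0, mul_assoc]
    exact le_trans (Nat.mul_le_mul_left 2 (Nat.div_mul_le_self m i)) hmn
  have hno : ¬ Odd i := Nat.not_odd_iff_even.2 hev
  have hadm : ∀ A, Adm i i n T A ↔ (A ≤ n / i ∧ (A = n / i → n % i = 0 → (T ↔ Even A))) := fun A => by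
    unfold Adm Sgn
    simp only [hno, false_or]
    rw [Nat.le_div_iff_mul_le hi0, mul_comm i A]
    refine and_congr_right fun _ => ⟨fun h h1 h2 => h ?_, fun h he => h ?_ ?_⟩
    · rw [h1, mul_comm]
      have := Nat.div_add_mod n i
      omega
    · rw [← he, Nat.mul_div_cancel _ hi0]
    · rw [← he, Nat.mul_mod_left]
  have hgood : ∀ A, TSGood i i t n m T A ↔ ∃ j, 2 * j ≤ A + 1 - t ∧ j ≤ m / i ∧
      ((2 * (m / i - j) + A + 2 ≤ n / i ∨ (2 * (m / i - j) + A + 1 = n / i ∧ 2 * (m % i) < i + n % i) ∨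
          (2 * (m / i - j) + A = n / i ∧ 2 * (m % i) < n % i)) ∨
        (((2 * (m / i - j) + A + 1 = n / i ∧ 2 * (m % i) = i + n % i) ∨
          (2 * (m / i - j) + A = n / i ∧ 2 * (m % i) = n % i)) ∧ (Even A ↔ T))) := fun A => by
    unfold TSGood tsBound Sgn
    simp only [if_pos hev, hno, false_or]
    constructor
    · rintro ⟨j, h1, h2, h3⟩
      have hj : j ≤ m / i := by rw [Nat.le_div_iff_mul_le hi0, mul_comm]; exact h2
      obtain ⟨e, en⟩ := expand (m := m) (n := n) (c := i) rfl hj A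
      refine ⟨j, by omega, hj, ?_⟩
      rw [e] at h3
      obtain ⟨c1, c2⟩ := compare hl hk (2 * (m / i - j) + A) (n / i)
      rw [← c1, ← c2, ← en]
      exact h3
    · rintro ⟨j, h1, hj, h3⟩
      obtain ⟨e, en⟩ := expand (m := m) (n := n) (c := i) rfl hj A
      refine ⟨j, by omega, le_trans (Nat.mul_le_mul_left _ hj) (Nat.mul_div_le m i), ?_⟩
      rw [e]
      obtain ⟨c1, c2⟩ := compare hl hk (2 * (m / i - j) + A) (n / i)
      rw [← c1, ← c2, ← en] at h3
      exact h3
  simp only [hadm, hgood]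
  constructor
  · intro h
    have h1 := h (n / i)
    have h2 := h (n / i - 1)
    have h3 := h t
    by_cases hT : T
    · simp only [hT, iff_true, true_iff, Nat.even_iff] at h1 h2 h3 ⊢
      refine ⟨?_, ?_⟩
      · by_contra hc
        push Not at hc
        by_cases ht' : t < n / i
        · obtain ⟨j, hj⟩ := h3 ht ⟨by omega, by omega⟩
          omega
        · by_cases hN1 : n % i = 0 ∧ (n / i) % 2 = 1
          · obtain ⟨j, hj⟩ := h2 (by omega) ⟨by omega, by omega⟩
            omega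
          · obtain ⟨j, hj⟩ := h1 (by omega) ⟨le_rfl, by omega⟩
            omega
      · by_cases hN1 : n % i = 0 ∧ (n / i) % 2 = 1
        · obtain ⟨j, hj⟩ := h2 (by omega) ⟨by omega, by omega⟩
          by_cases ht' : t < n / i
          · obtain ⟨j', hj'⟩ := h3 ht ⟨by omega, by omega⟩
            omega
          · omega
        · obtain ⟨j, hj⟩ := h1 (by omega) ⟨le_rfl, by omega⟩
          omega
    · simp only [hT, iff_false, false_iff, Nat.even_iff] at h1 h2 h3 ⊢
      refine ⟨?_, ?_⟩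
      · by_contra hc
        push Not at hc
        by_cases ht' : t < n / i
        · obtain ⟨j, hj⟩ := h3 ht ⟨by omega, by omega⟩
          omega
        · by_cases hN1 : n % i = 0 ∧ (n / i) % 2 = 0
          · obtain ⟨j, hj⟩ := h2 (by omega) ⟨by omega, by omega⟩
            omega
          · obtain ⟨j, hj⟩ := h1 (by omega) ⟨le_rfl, by omega⟩
            omega
      · by_cases hN1 : n % i = 0 ∧ (n / i) % 2 = 0
        · obtain ⟨j, hj⟩ := h2 (by omega) ⟨by omega, by omega⟩
          by_cases ht' : t < n / i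
          · obtain ⟨j', hj'⟩ := h3 ht ⟨by omega, by omega⟩
            omega
          · omega
        · obtain ⟨j, hj⟩ := h1 (by omega) ⟨le_rfl, by omega⟩
          omega
  · rintro ⟨hb, hcase⟩ A hA1 ⟨hAN, hAd⟩
    refine ⟨min (m / i) ((A + 1 - t) / 2), by omega, min_le_left _ _, ?_⟩
    by_cases hT : T
    · simp only [hT, iff_true, true_iff, Nat.even_iff] at hAd hcase ⊢
      omega
    · simp only [hT, iff_false, false_iff, Nat.even_iff] at hAd hcase ⊢
      omega

theorem ts_odd {i t n m : ℕ} {T : Prop} (hodd : Odd i) (hi : i ≤ m) (hmn : 2 * m ≤ n)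
    (hmT : 2 * m = n → T) :
    (∀ A, 1 ≤ A → Adm (2 * i) i n T A → TSGood (2 * i) i t n m T A) ↔
      (2 * (m % i) < n % (2 * i) ∨ (2 * (m % i) = n % (2 * i) ∧ T) ∨ (n % (2 * i) = 0 ∧ ¬ T)) := by
  have hi0 : 0 < i := hodd.pos
  have hl : m % i < i := Nat.mod_lt m hi0
  have hk : n % (2 * i) < 2 * i := Nat.mod_lt n (by omega)
  have hn := Nat.div_add_mod n (2 * i)
  have hm := Nat.div_add_mod m i
  constructor
  · intro h
    by_cases hex : n % (2 * i) = 0 ∧ ¬ T
    · exact Or.inr (Or.inr hex)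
    have hN1 : 1 ≤ n / (2 * i) := (Nat.one_le_div_iff (by omega)).2 (by omega)
    obtain ⟨j, -, hjm, hsize⟩ := h (n / (2 * i)) hN1 ⟨by omega, fun he => iff_of_true
      (not_not.1 fun hT => hex ⟨by omega, hT⟩) (Or.inl hodd)⟩
    have hjM : j ≤ m / i := by rw [Nat.le_div_iff_mul_le hi0, mul_comm]; exact hjm
    have := Nat.mul_le_mul_left i hjM
    rcases hsize with h' | ⟨h', hT⟩
    · exact Or.inl (by omega)
    · rcases Nat.lt_or_ge (2 * (m % i)) (n % (2 * i)) with h2 | h2
      · exact Or.inl h2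
      · exact Or.inr (Or.inl ⟨by omega, hT.1 (Or.inl hodd)⟩)
  · intro hcase A hA1 ⟨hA, hAd⟩
    have hbound : tsBound i t A = A := if_neg (Nat.not_even_iff_odd.2 hodd)
    by_cases hAM : A ≤ m / i
    · have := Nat.mul_le_mul_left i hAM
      refine ⟨A, hbound.ge, by omega, ?_⟩
      rcases eq_or_lt_of_le hmn with h | h
      · exact Or.inr ⟨by rw [mul_assoc]; omega, iff_of_true (Or.inl hodd) (hmT h)⟩
      · exact Or.inl (by rw [mul_assoc]; omega)
    push Not at hAM
    refine ⟨m / i, hAM.le.trans hbound.ge, Nat.mul_div_le m i, ?_⟩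
    have hAN : A ≤ n / (2 * i) := by rw [Nat.le_div_iff_mul_le (by omega), mul_comm]; exact hA
    rcases eq_or_lt_of_le hAN with rfl | hlt
    · rcases hcase with h | ⟨h, hT⟩ | ⟨h, hT⟩
      · exact Or.inl (by omega)
      · exact Or.inr ⟨by omega, iff_of_true (Or.inl hodd) hT⟩
      · exact absurd ((hAd (by omega)).2 (Or.inl hodd)) hT
    · have h2 : 2 * i * (A + 1) ≤ 2 * i * (n / (2 * i)) := Nat.mul_le_mul_left _ hlt
      rw [mul_add, mul_one] at h2
      exact Or.inl (by omega)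

open CfsgLib.Geo.OrthMax in
/-- All elements of order `r` fix a singular subspace iff the closed criterion holds. -/
theorem ts_iff {F : Type*} [Field F] [Finite F] {r : ℕ} [Fact r.Prime] (hr2 : r ≠ 2) (hrF : (r : F) ≠ 0)
    {c i t n m : ℕ} {T : Prop} (hc : c = cstep i) (hi : i = orderOf (Nat.card F : ZMod r))
    (ht : t = (CfsgLib.Classical.ClassTheory.cycFactors F r).card) (hmn : 2 * m ≤ n) (hmT : 2 * m = n → T)
    (him : i ≤ m) :
    (∀ A, 1 ≤ A → Adm c i n T A → TSGood c i t n m T A) ↔ TSCrit c i t n m T := by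
  have hi0 : 0 < i := hi ▸ ord_pos hrF
  have ht1 : 1 ≤ t := by
    rcases Nat.eq_zero_or_pos t with h | h
    · have h2 := (cyc_facts (F := F) (r := r) hrF).2
      have := (Fact.out : r.Prime).two_le
      rw [← ht, h, zero_mul] at h2
      omega
    · exact h
  rcases Nat.even_or_odd i with hev | hodd
  · obtain rfl : c = i := by rw [hc, cstep, if_pos hev]
    rw [ts_even hev him hi0 ht1 hmn]
    simp only [TSCrit, him, hev, Nat.not_odd_iff_even.2 hev, false_and, false_or, true_and]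
  · obtain rfl : c = 2 * i := by rw [hc, cstep, if_neg (Nat.not_even_iff_odd.2 hodd)]
    rw [ts_odd hodd him hmn hmT]
    simp only [TSCrit, him, hodd, Nat.not_even_iff_odd.2 hodd, false_and, or_false, true_and]

end CfsgLib.Geo.Elusive
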