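/-
The number of totally singular subspaces below the maximum is one modulo the characteristic.
-/
import Cfsg.Agent.Lib.Geo.Elusive.Singular
import Cfsg.Agent.Lib.Classical.Quad.Eichler

set_option autoImplicit false
set_option maxHeartbeats 800000
set_option linter.unusedSectionVars false
set_option linter.style.haveILetI false

namespace CfsgLib.Geo.Elusive

open CfsgLib.Classical CfsgLib.Classical.Quad CfsgLib.Geo.OrthMax
open QuadraticMap (polar polarBilin)
open Module

universe u

variable {F : Type u} [Field F] [Finite F] {p : ℕ} [Fact p.Prime] [CharP F p]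

/-- The number of totally singular subspaces of dimension `m` is one modulo `p`. -/
theorem card_singular_modEq (m : ℕ) : ∀ {V : Type u} [AddCommGroup V] [Module F V] [FiniteDimensional F V]
    {Q : QuadraticForm F V}, (polarBilin Q).Nondegenerate → 2 * m < finrank F V →
    Nat.card {W : Submodule F V // finrank F W = m ∧ ∀ x ∈ W, Q x = 0} ≡ 1 [MOD p] := by
  induction m with
  | zero =>
    intro V _ _ _ Q _ _
    have : Nat.card {W : Submodule F V // finrank F W = 0 ∧ ∀ x ∈ W, Q x = 0} = 1 :=
      Nat.card_eq_one_iff_exists.2 ⟨⟨⊥, finrank_bot F V, fun x hx => by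
        rw [(Submodule.mem_bot F).1 hx, QuadraticMap.map_zero]⟩, fun W => Subtype.ext (Submodule.finrank_eq_zero.1 W.2.1)⟩
    rw [this]
  | succ m ih =>
    intro V _ _ _ Q hQ hlt
    haveI : Finite V := Module.finite_of_finite F
    haveI : Finite (Submodule F V) := Finite.of_injective _ SetLike.coe_injective
    have htop : Nondeg Q (⊤ : Submodule F V) := fun x _ h => hQ.1 x fun y => h y Submodule.mem_top
    obtain ⟨S, -, hS, hSd⟩ := (tsIn_iff htop 1).2 (Or.inl (by rw [finrank_top]; omega))
    obtain ⟨e, he, he0⟩ : ∃ e ∈ S, e ≠ 0 := S.exists_mem_ne_zero_of_ne_bot fun h => by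
      rw [h, finrank_bot] at hSd
      omega
    have hee : Q e = 0 := hS e he
    obtain ⟨y, hy⟩ : ∃ y, polar Q e y = 1 := by
      obtain ⟨z, hz⟩ : ∃ z, polar Q e z ≠ 0 := by
        by_contra! h
        exact he0 (hQ.1 e h)
      exact ⟨(polar Q e z)⁻¹ • z, by rw [polar_smul_right', inv_mul_cancel₀ hz]⟩
    set f := y + (-Q y) • e with hf
    have hef : polar Q e f = 1 := by rw [hf, polar_add_right', polar_smul_right', polar_self', hee, hy]; ring
    have hff : Q f = 0 := by
      rw [hf, apply_add, apply_smul, polar_smul_right', hee, QuadraticMap.polar_comm, hy]; ring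
    set P := Submodule.span F ({e, f} : Set V) with hP
    have heP : e ∈ P := Submodule.subset_span (Or.inl rfl)
    have hfP : f ∈ P := Submodule.subset_span (Or.inr rfl)
    have hcoef : ∀ a b : F, polar Q (a • e + b • f) e = b ∧ polar Q (a • e + b • f) f = a := fun a b => by
      constructor
      · rw [polar_add_left', polar_smul_left', polar_smul_left', polar_self', hee, QuadraticMap.polar_comm, hef]; ring
      · rw [polar_add_left', polar_smul_left', polar_smul_left', polar_self', hff, hef]; ring
    have hPn : Nondeg Q P := fun x hx hall => by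
      obtain ⟨a, b, rfl⟩ := Submodule.mem_span_pair.1 hx
      have h1 := (hcoef a b).1.symm.trans (hall e heP)
      have h3 := (hcoef a b).2.symm.trans (hall f hfP)
      rw [h1, h3, zero_smul, zero_smul, add_zero]
    have hli : LinearIndependent F ![e, f] := LinearIndependent.pair_iff.2 fun s t hst => by
      have h1 := (hcoef s t).1
      have h3 := (hcoef s t).2
      rw [hst, QuadraticMap.polar_zero_left] at h1 h3
      exact ⟨h3.symm, h1.symm⟩
    have hPd : finrank F P = 2 := by
      rw [hP, ← Matrix.range_cons_cons_empty e f ![], finrank_span_eq_card hli, Fintype.card_fin]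
    set H := OrthMax.perp Q P with hH
    have hHn : Nondeg Q H := hPn.perp hQ
    have hHd : finrank F H + 2 = finrank F V := by rw [hH, finrank_perp hQ, hPd]; omega
    have hHe : ∀ a : H, polar Q e a = 0 := fun a => mem_perp.1 a.2 e heP
    let φ : Multiplicative H →* OQ Q :=
      MonoidHom.mk' (fun a => eich hQ hee (a := ((Multiplicative.toAdd a : H) : V)) (hHe _)) fun a b => by
        rw [eich_mul hQ hee]
    letI : MulAction (Multiplicative H) {W : Submodule F V // finrank F W = m + 1 ∧ ∀ x ∈ W, Q x = 0} :=
      { smul := fun a W => ⟨W.1.map ((φ a : V ≃ₗ[F] V) : V →ₗ[F] V),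
          (LinearEquiv.finrank_map_eq (φ a : V ≃ₗ[F] V) W.1).trans W.2.1, by
            rintro _ ⟨x, hx, rfl⟩
            exact (OQ.map_apply (φ a) x).trans (W.2.2 x hx)⟩
        one_smul := fun W => Subtype.ext (by
          show W.1.map ((φ 1 : V ≃ₗ[F] V) : V →ₗ[F] V) = W.1
          rw [map_one]; exact Submodule.map_id _)
        mul_smul := fun a b W => Subtype.ext (by
          show W.1.map ((φ (a * b) : V ≃ₗ[F] V) : V →ₗ[F] V) =
            (W.1.map ((φ b : V ≃ₗ[F] V) : V →ₗ[F] V)).map ((φ a : V ≃ₗ[F] V) : V →ₗ[F] V)
          rw [map_mul]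
          exact Submodule.map_comp ((φ b : V ≃ₗ[F] V) : V →ₗ[F] V) ((φ a : V ≃ₗ[F] V) : V →ₗ[F] V) W.1) }
    haveI : Finite H := Module.finite_of_finite F
    have hpg : IsPGroup p (Multiplicative H) := by
      haveI := Fintype.ofFinite F
      obtain ⟨k, -, hk⟩ := FiniteField.card F p
      refine IsPGroup.of_card (n := k * finrank F H) ?_
      rw [Nat.card_congr Multiplicative.toAdd, Module.natCard_eq_pow_finrank (K := F), Nat.card_eq_fintype_card, hk, ← pow_mul]
    refine (hpg.card_modEq_card_fixedPoints _).trans ?_
    have happ : ∀ (a : H) (z : V), (φ (Multiplicative.ofAdd a) : V ≃ₗ[F] V) z =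
        z + (polar Q z a - Q (a : V) * polar Q z e) • e + (-polar Q z e) • (a : V) := fun a z => eich_apply hQ hee (hHe a) z
    have hmem : ∀ W : {W : Submodule F V // finrank F W = m + 1 ∧ ∀ x ∈ W, Q x = 0},
        W ∈ MulAction.fixedPoints (Multiplicative H) _ ↔ e ∈ W.1 := by
      intro W
      have hperp : ∀ x ∈ W.1, ∀ z ∈ W.1, polar Q x z = 0 := fun x hx z hz => by
        rw [polar, W.2.2 _ (W.1.add_mem hx hz), W.2.2 x hx, W.2.2 z hz]; ring
      constructor
      · intro hW
        have himg : ∀ (a : H), ∀ w ∈ W.1,
            (polar Q w a - Q (a : V) * polar Q w e) • e + (-polar Q w e) • (a : V) ∈ W.1 := fun a w hw => by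
          have h : (φ (Multiplicative.ofAdd a) : V ≃ₗ[F] V) w ∈ W.1 :=
            (congrArg Subtype.val (hW (Multiplicative.ofAdd a))).le ⟨w, hw, rfl⟩
          rw [happ, add_assoc] at h
          simpa using W.1.sub_mem h hw
        by_contra heW
        have hWe : ∀ w ∈ W.1, polar Q w e = 0 := by
          intro w hw
          by_contra ht
          obtain ⟨a, ha0⟩ : ∃ a : H, a ≠ 0 := by
            haveI : Nontrivial H := Module.nontrivial_of_finrank_pos (R := F) (by omega)
            exact exists_ne 0
          refine ha0 (Subtype.ext (hHn a a.2 fun b hb => ?_))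
          have h := hperp _ (himg a w hw) _ (himg ⟨b, hb⟩ w hw)
          simp only [polar_add_left', polar_add_right', polar_smul_left', polar_smul_right', polar_self', hee, hHe,
            QuadraticMap.polar_comm (⇑Q) (a : V) e, show polar Q e b = 0 from mem_perp.1 hb e heP, mul_zero, zero_add,
            add_zero] at h
          rcases mul_eq_zero.1 h with h | h
          · exact absurd (neg_eq_zero.1 h) ht
          · exact (mul_eq_zero.1 h).resolve_left (neg_ne_zero.2 ht)
        have hW0 : W.1 = ⊥ := (Submodule.eq_bot_iff _).2 fun w hw => by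
          obtain ⟨p', hp', h, hh, hph⟩ :=
            Submodule.mem_sup.1 ((hPn.isCompl hQ).sup_eq_top.ge (Submodule.mem_top (x := w)))
          have hh0 : h = 0 := hHn h hh fun b hb => by
            have h1 := himg ⟨b, hb⟩ w hw
            rw [hWe w hw, mul_zero, sub_zero, neg_zero, zero_smul, add_zero] at h1
            have hwb : polar Q w b = 0 := by
              by_contra hne
              exact heW (by simpa [smul_smul, inv_mul_cancel₀ hne] using W.1.smul_mem (polar Q w b)⁻¹ h1)
            rwa [← hph, polar_add_left', mem_perp.1 hb p' hp', zero_add] at hwb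
          rw [hh0, add_zero] at hph
          subst hph
          obtain ⟨a, b, hab⟩ := Submodule.mem_span_pair.1 hp'
          have hb0 : b = 0 := by rw [← (hcoef a b).1, hab]; exact hWe _ hw
          rw [hb0, zero_smul, add_zero] at hab
          by_contra hne
          have ha0 : a ≠ 0 := fun h => hne (by rw [← hab, h, zero_smul])
          exact heW (by simpa [← hab, smul_smul, inv_mul_cancel₀ ha0] using W.1.smul_mem a⁻¹ hw)
        have h := W.2.1
        rw [hW0, finrank_bot] at h
        omega
      · intro heW a
        refine Subtype.ext (Submodule.eq_of_le_of_finrank_eq ?_ (LinearEquiv.finrank_map_eq (φ a : V ≃ₗ[F] V) W.1))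
        rintro _ ⟨w, hw, rfl⟩
        have ha : a = Multiplicative.ofAdd (Multiplicative.toAdd a) := rfl
        show (φ a : V ≃ₗ[F] V) w ∈ W.1
        rw [ha, happ, hperp w hw e heW, neg_zero, zero_smul, add_zero]
        exact W.1.add_mem hw (W.1.smul_mem _ heW)
    have hline : ∀ U : Submodule F H, finrank F U = m → (∀ x ∈ U, Q (x : V) = 0) →
        finrank F ↥(Submodule.span F {e} ⊔ U.map H.subtype) = m + 1 ∧
          (∀ x ∈ Submodule.span F {e} ⊔ U.map H.subtype, Q x = 0) := by
      intro U hUd hU
      refine ⟨?_, fun x hx => ?_⟩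
      · have h := Submodule.finrank_sup_add_finrank_inf_eq (Submodule.span F {e}) (U.map H.subtype)
        have h0 : Submodule.span F {e} ⊓ U.map H.subtype = ⊥ := le_bot_iff.1
          ((inf_le_inf ((Submodule.span_singleton_le_iff_mem _ _).2 heP) (Submodule.map_subtype_le H U)).trans
            (hPn.isCompl hQ).disjoint.le_bot)
        rw [h0, finrank_bot, finrank_span_singleton he0, Submodule.finrank_map_subtype_eq, hUd] at h
        omega
      · obtain ⟨a, ha, _, ⟨b, hb, rfl⟩, rfl⟩ := Submodule.mem_sup.1 hx
        obtain ⟨c, rfl⟩ := Submodule.mem_span_singleton.1 ha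
        rw [apply_add, apply_smul, hee, polar_smul_left', Submodule.subtype_apply, hHe b, hU b hb]
        ring
    let back : {U : Submodule F H // finrank F U = m ∧ ∀ x ∈ U, (Q.comp H.subtype) x = 0} →
        ↥(MulAction.fixedPoints (Multiplicative H) {W : Submodule F V // finrank F W = m + 1 ∧ ∀ x ∈ W, Q x = 0}) :=
      fun U => ⟨⟨_, hline U.1 U.2.1 U.2.2⟩, (hmem _).2 (Submodule.mem_sup_left (Submodule.mem_span_singleton_self e))⟩
    have hbij : Function.Bijective back := by
      constructor
      · intro U U' h
        have key : ∀ U : Submodule F H, (Submodule.span F {e} ⊔ U.map H.subtype).comap H.subtype = U := fun U => by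
          refine le_antisymm (fun x hx => ?_) fun x hx => Submodule.mem_sup_right ⟨x, hx, rfl⟩
          obtain ⟨a, ha, _, ⟨b, hb, rfl⟩, hab⟩ := Submodule.mem_sup.1 (Submodule.mem_comap.1 hx)
          have h0 : a = 0 := Submodule.disjoint_def.1 (hPn.isCompl hQ).disjoint a
            ((Submodule.span_singleton_le_iff_mem _ _).2 heP ha) (by
              have h2 := H.sub_mem x.2 b.2
              rwa [show (x : V) - (b : V) = a by rw [show (x : V) = a + (b : V) from hab.symm, add_sub_cancel_right]] at h2)
          rw [h0, zero_add] at hab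
          rwa [← Subtype.ext hab]
        have h' : Submodule.span F {e} ⊔ U.1.map H.subtype = Submodule.span F {e} ⊔ U'.1.map H.subtype :=
          congrArg (fun z => z.1.1) h
        exact Subtype.ext ((key U.1).symm.trans ((congrArg (Submodule.comap H.subtype) h').trans (key U'.1)))
      · rintro ⟨⟨W, hWd, hW⟩, hWf⟩
        have heW : e ∈ W := (hmem ⟨W, hWd, hW⟩).1 hWf
        have hsup : Submodule.span F {e} ⊔ (W.comap H.subtype).map H.subtype = W := by
          refine le_antisymm (sup_le ((Submodule.span_singleton_le_iff_mem _ _).2 heW)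
            (Submodule.map_comap_le _ _)) fun w hw => ?_
          obtain ⟨p', hp', h, hh, hph⟩ :=
            Submodule.mem_sup.1 ((hPn.isCompl hQ).sup_eq_top.ge (Submodule.mem_top (x := w)))
          obtain ⟨a, b, rfl⟩ := Submodule.mem_span_pair.1 hp'
          have hwe : polar Q w e = 0 := by
            rw [polar, hW _ (W.add_mem hw heW), hW w hw, hW e heW]; ring
          rw [← hph, polar_add_left', (hcoef a b).1, QuadraticMap.polar_comm, mem_perp.1 hh e heP, add_zero] at hwe
          rw [hwe, zero_smul, add_zero] at hph
          refine Submodule.mem_sup.2 ⟨a • e, Submodule.smul_mem _ _ (Submodule.mem_span_singleton_self e), h,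
            ⟨⟨h, hh⟩, ?_, rfl⟩, hph⟩
          have := W.sub_mem hw (W.smul_mem a heW)
          rwa [← hph, add_sub_cancel_left] at this
        refine ⟨⟨W.comap H.subtype, ?_, fun x hx => hW _ hx⟩, Subtype.ext (Subtype.ext hsup)⟩
        have h := Submodule.finrank_sup_add_finrank_inf_eq (Submodule.span F {e}) ((W.comap H.subtype).map H.subtype)
        have h0 : Submodule.span F {e} ⊓ (W.comap H.subtype).map H.subtype = ⊥ := le_bot_iff.1
          ((inf_le_inf ((Submodule.span_singleton_le_iff_mem _ _).2 heP) (Submodule.map_subtype_le H _)).trans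
            (hPn.isCompl hQ).disjoint.le_bot)
        rw [h0, hsup, finrank_bot, finrank_span_singleton he0, Submodule.finrank_map_subtype_eq, hWd] at h
        omega
    rw [← Nat.card_eq_of_bijective back hbij]
    exact ih hHn.comp (by omega)

theorem not_dvd_card_singular {V : Type u} [AddCommGroup V] [Module F V] [FiniteDimensional F V]
    {Q : QuadraticForm F V} (hQ : (polarBilin Q).Nondegenerate) {m : ℕ} (hm : 2 * m < finrank F V) :
    ¬ p ∣ Nat.card {W : Submodule F V // finrank F W = m ∧ ∀ x ∈ W, Q x = 0} := fun h => by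
  have h1 := (card_singular_modEq (p := p) m hQ hm).symm.trans (Nat.modEq_zero_iff_dvd.2 h)
  rw [Nat.modEq_zero_iff_dvd, Nat.dvd_one] at h1
  exact (Fact.out : p.Prime).ne_one h1

end CfsgLib.Geo.Elusive
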