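/-
Elements of order two modulo scalars in orthogonal groups of odd characteristic.
-/
import Cfsg.Agent.Lib.Geo.Elusive.JStructure
import Cfsg.Agent.Lib.Geo.Elusive.Involution
import Cfsg.Agent.Lib.Geo.Elusive.OddMatrices

set_option autoImplicit false
set_option maxHeartbeats 800000
set_option linter.unusedSectionVars false
set_option linter.style.haveILetI false

namespace CfsgLib.Geo.Elusive

open CfsgLib.Classical CfsgLib.Classical.Quad CfsgLib.Geo.OrthMax
open QuadraticMap (polar polarBilin)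
open Module

universe u

variable {F : Type u} [Field F] [Finite F] {ι : Type} [Fintype ι] [DecidableEq ι] {Q : QuadraticForm F (ι → F)}

theorem sqc_two_pow_eq_one_iff (h2 : (2 : F) ≠ 0) (d : ℕ) :
    (sqc (2 : F)) ^ d = 1 ↔ (Even d ∨ IsSquare (2 : F)) := by
  rcases Nat.even_or_odd d with ⟨l, hl⟩ | ⟨l, hl⟩
  · refine iff_of_true ?_ (Or.inl ⟨l, hl⟩)
    rw [hl, pow_add, sqClass_mul_self]
  · rw [hl, pow_succ, two_mul, pow_add, sqClass_mul_self, one_mul, sqc_eq_one_iff h2]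
    exact ⟨Or.inr, fun h => h.resolve_left (Nat.not_even_iff_odd.2 ⟨l, two_mul l ▸ rfl⟩)⟩

theorem invHomM_eq_invariants (hQ : (polarBilin Q).Nondegenerate)
    (hex : (∃ c : F, c ≠ 0 ∧ c ≠ 1) ∨ Fintype.card ι ≠ 4) (g : Cfsg.isometryGroup F (⇑Q)) :
    invHomM hQ hex g = invariants (oEquiv Q g) := rfl

theorem invariants_of_mem_omega (h2 : (2 : F) ≠ 0) (hQ : (polarBilin Q).Nondegenerate) (hn : 2 ≤ Fintype.card ι)
    {x : GL ι F} (hx : x ∈ Cfsg.Geo.omegaGL (⇑Q)) :
    ∃ a : OQ Q, (∀ v, (a : (ι → F) ≃ₗ[F] (ι → F)) v = Matrix.toLinAlgEquiv' (x : Matrix ι ι F) v) ∧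
      invariants a = 1 := by
  obtain ⟨g, hg, rfl⟩ := hx
  refine ⟨oEquiv Q g, fun v => rfl, ?_⟩
  rw [← invHomM_eq_invariants hQ (hex_of_two_ne_zero h2)]
  rw [SetLike.mem_coe, ← ker_invHomM hQ (hex_of_two_ne_zero h2) hn] at hg
  exact hg

theorem omega_of_invariants (h2 : (2 : F) ≠ 0) (hQ : (polarBilin Q).Nondegenerate) (hn : 2 ≤ Fintype.card ι)
    (a : OQ Q) (ha : invariants a = 1) :
    ∃ x : GL ι F, x ∈ Cfsg.Geo.omegaGL (⇑Q) ∧
      ∀ v, Matrix.toLinAlgEquiv' (x : Matrix ι ι F) v = (a : (ι → F) ≃ₗ[F] (ι → F)) v := by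
  refine ⟨((oEquiv Q).symm a : GL ι F), ⟨(oEquiv Q).symm a, ?_, rfl⟩, fun v => ?_⟩
  · show (oEquiv Q).symm a ∈ Cfsg.Omega F (⇑Q)
    rw [← ker_invHomM hQ (hex_of_two_ne_zero h2) hn, MonoidHom.mem_ker, invHomM_eq_invariants,
      MulEquiv.apply_symm_apply, ha]
  · rw [Matrix.toLinAlgEquiv'_apply, ← oEquiv_apply, MulEquiv.apply_symm_apply]

/-- An element of order two modulo scalars is an involution or squares to `-1`. -/
theorem two_cases (hQ : (polarBilin Q).Nondegenerate) (hn : 2 ≤ Fintype.card ι) {x : GL ι F}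
    (hx : x ∈ Cfsg.Geo.omegaGL (⇑Q)) {z : F}
    (hz : ((x ^ 2 : GL ι F) : Matrix ι ι F) = z • (1 : Matrix ι ι F)) :
    Matrix.toLinAlgEquiv' (x : Matrix ι ι F) * Matrix.toLinAlgEquiv' (x : Matrix ι ι F) = 1 ∨
      ∀ v, Matrix.toLinAlgEquiv' (x : Matrix ι ι F) (Matrix.toLinAlgEquiv' (x : Matrix ι ι F) v) = -v := by
  haveI : Nontrivial (ι → F) := Module.nontrivial_of_finrank_pos (R := F) (by rw [finrank_pi]; omega)
  obtain ⟨v₀, hv₀⟩ := exists_apply_ne_zero hQ
  set f := Matrix.toLinAlgEquiv' (x : Matrix ι ι F) with hf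
  have hfi := isometry_of_mem_lin hx
  have hff : f * f = z • 1 := by
    rw [hf, ← map_mul, ← Units.val_mul, ← pow_two, hz, map_smul, map_one]
  have hzz : z * z = 1 := by
    have h1 : Q ((f * f) v₀) = Q v₀ := by rw [Module.End.mul_apply, hfi, hfi]
    rw [hff, LinearMap.smul_apply, Module.End.one_apply, apply_smul] at h1
    exact mul_right_cancel₀ hv₀ (h1.trans (one_mul _).symm)
  rcases mul_self_eq_one_iff.1 hzz with rfl | rfl
  · exact Or.inl (by rw [hff, one_smul])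
  · exact Or.inr fun v => by rw [← Module.End.mul_apply, hff]; simp

/-- The criterion for nondegenerate subspaces, elements of order two modulo scalars, even dimension. -/
theorem two_iff_nd (h2 : (2 : F) ≠ 0) (hQ : (polarBilin Q).Nondegenerate) {d : ℕ} (hd : Fintype.card ι = 2 * d)
    (hd2 : 2 ≤ d) {W₀ : Submodule F (ι → F)} (hW₀ : Nondeg Q W₀) (hm : 1 ≤ finrank F W₀)
    (hlt : finrank F W₀ < 2 * d) :
    (∀ x : GL ι F, x ∈ Cfsg.Geo.omegaGL (⇑Q) →
      (∃ z : F, ((x ^ 2 : GL ι F) : Matrix ι ι F) = z • (1 : Matrix ι ι F)) →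
      (∀ z : F, (x : Matrix ι ι F) ≠ z • (1 : Matrix ι ι F)) →
      ∃ W : Submodule F (ι → F), Iso Q W W₀ ∧ W.map (Matrix.toLin' (x : Matrix ι ι F)) ≤ W) ↔
    (((Plus Q (⊤ : Submodule F (ι → F)) ↔ (IsSquare (-1 : F) ∨ Even d)) ∧ (Even d ∨ IsSquare (2 : F))) →
      Even (finrank F W₀) ∧ (Plus Q W₀ ↔ (IsSquare (-1 : F) ∨ Even (finrank F W₀ / 2)))) := by
  have hn : finrank F (ι → F) = 2 * d := by rw [finrank_pi, hd]
  have htop : Nondeg Q (⊤ : Submodule F (ι → F)) := nondeg_top hQ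
  constructor
  · rintro hall ⟨hT, hsq⟩
    obtain ⟨a, ha, -, hai⟩ := exists_J h2 hQ d (W := ⊤) (by rw [finrank_top, hn]) htop hT
    obtain ⟨x, hx, hxa⟩ := omega_of_invariants h2 hQ (by omega) a
      (by rw [hai, jInv, (sqc_two_pow_eq_one_iff h2 d).2 hsq]; rfl)
    set f := Matrix.toLinAlgEquiv' (x : Matrix ι ι F) with hf
    have hff : ∀ v, f (f v) = -v := fun v => by rw [hxa, hxa]; exact (ha v Submodule.mem_top).1
    obtain ⟨W, hiso, hmap⟩ := hall x hx ⟨-1, Matrix.toLinAlgEquiv'.injective (LinearMap.ext fun v => by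
        rw [pow_two, Units.val_mul, map_mul, Module.End.mul_apply, hff, map_smul, map_one, LinearMap.smul_apply,
          Module.End.one_apply, neg_one_smul])⟩ (fun z hz => by
        haveI : Nontrivial (ι → F) := Module.nontrivial_of_finrank_pos (R := F) (by omega)
        obtain ⟨v, hv⟩ := exists_apply_ne_zero hQ
        have h1 := polar_self_J h2 (isometry_of_mem_lin hx) hff v
        have h3 : f v = z • v := by rw [hf, hz, map_smul, map_one, LinearMap.smul_apply, Module.End.one_apply]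
        rw [h3, polar_smul_right', polar_self'] at h1
        rcases mul_eq_zero.1 h1 with h | h
        · have h4 := hff v
          rw [h3, h, zero_smul, map_zero] at h4
          exact hv (by rw [neg_eq_zero.1 h4.symm, QuadraticMap.map_zero])
        · exact mul_ne_zero h2 hv h)
    obtain ⟨l, hl, hlp, -, -⟩ := j_decomp h2 hQ (isometry_of_mem_lin hx) hff _ rfl (hiso.symm.nondeg hW₀)
      (fun v hv => by
        have h1 := hmap (Submodule.mem_map_of_mem hv)
        simpa only [Matrix.toLin'_apply, Matrix.toLinAlgEquiv'_apply, hf] using h1)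
    rw [hiso.finrank_eq] at hl
    refine ⟨⟨l, by omega⟩, ?_⟩
    rw [hl, Nat.mul_div_cancel_left _ two_pos, ← hlp]
    exact ⟨hiso.symm.plus, hiso.plus⟩
  · intro h x hx ⟨z, hz⟩ hns
    rcases two_cases hQ (by omega) hx hz with hone | hneg
    · obtain ⟨W, hinv, hiso⟩ := involution_fix h2 hQ (by omega) (isometry_of_mem_lin hx) hone hW₀ hm (by omega)
      refine ⟨W, hiso, ?_⟩
      rintro _ ⟨v, hv, rfl⟩
      simpa only [Matrix.toLin'_apply, Matrix.toLinAlgEquiv'_apply] using hinv v hv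
    · obtain ⟨l, hl, hlp, hsub, a, ha, -, hai⟩ := j_decomp h2 hQ (isometry_of_mem_lin hx) hneg _ rfl htop
        (fun v _ => Submodule.mem_top)
      rw [finrank_top, hn] at hl
      obtain rfl : d = l := by omega
      obtain ⟨b, hb, hbi⟩ := invariants_of_mem_omega h2 hQ (by omega) hx
      have hab : a = b := Subtype.ext (LinearEquiv.ext fun v => (ha v Submodule.mem_top).trans (hb v).symm)
      have hsq : Even d ∨ IsSquare (2 : F) := (sqc_two_pow_eq_one_iff h2 d).1 (by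
        rw [hab, hbi] at hai
        exact (congrArg Prod.snd hai).symm)
      obtain ⟨hev, hp⟩ := h ⟨hlp, hsq⟩
      obtain ⟨m, hm'⟩ := hev
      obtain ⟨U, -, hUi, hUn, hUd⟩ := hsub m (by omega)
      obtain ⟨l', hl', hUp, -, -⟩ := j_decomp h2 hQ (isometry_of_mem_lin hx) hneg _ rfl hUn hUi
      refine ⟨U, (iso_iff_plus hUn hW₀ (by omega) ⟨m, hm'⟩).2 ?_, ?_⟩
      · rw [hUp, hp, show l' = finrank F W₀ / 2 by omega]
      · rintro _ ⟨v, hv, rfl⟩
        simpa only [Matrix.toLin'_apply, Matrix.toLinAlgEquiv'_apply] using hUi v hv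

theorem isSquare_neg_one_iff_mod [Fintype F] {q : ℕ} (hq : Fintype.card F = q) : IsSquare (-1 : F) ↔ q % 4 ≠ 3 := by
  rw [FiniteField.isSquare_neg_one_iff, hq]

theorem isSquare_two_iff_mod [Fintype F] {q : ℕ} (hq : Fintype.card F = q) :
    IsSquare (2 : F) ↔ q % 8 ≠ 3 ∧ q % 8 ≠ 5 := by
  rw [FiniteField.isSquare_two_iff, hq]

end CfsgLib.Geo.Elusive
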