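/-
Elements of order two and totally singular subspaces, odd characteristic.
-/
import Cfsg.Agent.Lib.Geo.Elusive.Singular
import Cfsg.Agent.Lib.Geo.Elusive.TwoPrime

set_option autoImplicit false
set_option maxHeartbeats 800000
set_option linter.unusedSectionVars false
set_option linter.style.haveILetI false

namespace CfsgLib.Geo.Elusive

open CfsgLib.Classical CfsgLib.Classical.Quad CfsgLib.Geo.OrthMax
open QuadraticMap (polar polarBilin)
open Module

universe u

variable {F : Type u} [Field F] [Finite F]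

theorem isSquare_mul_iff' {a b : F} (ha : a ≠ 0) (hb : b ≠ 0) :
    IsSquare (a * b) ↔ (IsSquare a ↔ IsSquare b) := by
  classical
  haveI := Fintype.ofFinite F
  by_cases h1 : IsSquare a <;> by_cases h2 : IsSquare b
  · exact iff_of_true (h1.mul h2) (iff_of_true h1 h2)
  · refine iff_of_false (fun h => h2 ?_) fun h => h2 (h.1 h1)
    obtain ⟨s, hs⟩ := h1
    obtain ⟨t, ht⟩ := h
    have hs0 : s ≠ 0 := fun h => ha (by rw [hs, h, mul_zero])
    exact ⟨t / s, by field_simp; linear_combination ht - b * hs⟩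
  · refine iff_of_false (fun h => h1 ?_) fun h => h1 (h.2 h2)
    obtain ⟨s, hs⟩ := h2
    obtain ⟨t, ht⟩ := h
    have hs0 : s ≠ 0 := fun h => hb (by rw [hs, h, mul_zero])
    exact ⟨t / s, by field_simp; linear_combination ht - a * hs⟩
  · refine iff_of_true ((quadraticChar_one_iff_isSquare (mul_ne_zero ha hb)).1 ?_) (iff_of_false h1 h2)
    rw [map_mul, quadraticChar_neg_one_iff_not_isSquare.2 h1, quadraticChar_neg_one_iff_not_isSquare.2 h2]
    norm_num

theorem isSquare_neg_one_pow (e : ℕ) : IsSquare ((-1 : F) ^ e) ↔ (IsSquare (-1 : F) ∨ Even e) := by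
  rcases Nat.even_or_odd e with h | h
  · rw [h.neg_one_pow]; exact iff_of_true IsSquare.one (Or.inr h)
  · rw [h.neg_one_pow]; exact ⟨Or.inl, fun h' => h'.resolve_right (Nat.not_even_iff_odd.2 h)⟩

variable {V : Type u} [AddCommGroup V] [Module F V] [FiniteDimensional F V] {Q : QuadraticForm F V}

/-- The sign change on a nondegenerate subspace and its invariants. -/
theorem exists_sign_change (h2 : (2 : F) ≠ 0) (hQ : (polarBilin Q).Nondegenerate) (k : ℕ) :
    ∀ {B : Submodule F V}, finrank F B = k → Nondeg Q B →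
      ∃ (a : OQ Q) (c : F), c ≠ 0 ∧ (∀ v ∈ B, (a : V ≃ₗ[F] V) v = -v) ∧
        (∀ z ∈ OrthMax.perp Q B, (a : V ≃ₗ[F] V) z = z) ∧
        invariants a = (Multiplicative.ofAdd (k : ZMod 2), sqc c) ∧
        ∀ e, k = 2 * e → (IsSquare ((-1 : F) ^ e * c) ↔ Plus Q B) := by
  have hR : reflGroup Q = ⊤ := reflGroup_eq_top hQ (hex_of_two_ne_zero h2)
  have hrefl : ∀ {v : V} (hv : Q v ≠ 0), invariants (refl (Q := Q) hv) = (Multiplicative.ofAdd 1, sqc (Q v)) :=
    fun hv => by rw [← mul_one (refl hv), invariants_refl_mul hQ 1 hv, invariants_one hQ, mul_one]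
  have hline : ∀ {v : V}, Q v ≠ 0 → Nondeg Q (Submodule.span F {v}) ∧ finrank F (Submodule.span F {v}) = 1 := by
    intro v hv
    refine ⟨fun y hy hall => ?_, finrank_span_singleton fun h => hv (by rw [h, QuadraticMap.map_zero])⟩
    obtain ⟨c, rfl⟩ := Submodule.mem_span_singleton.1 hy
    have h := hall v (Submodule.mem_span_singleton_self v)
    rw [polar_smul_left', polar_self'] at h
    rw [(mul_eq_zero.1 h).resolve_right (mul_ne_zero h2 hv), zero_smul]
  induction k using Nat.strong_induction_on with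
  | h k ih =>
    intro B hBd hB
    rcases Nat.eq_zero_or_pos k with rfl | hk
    · obtain rfl := Submodule.finrank_eq_zero.1 hBd
      refine ⟨1, 1, one_ne_zero, fun v hv => ?_, fun z _ => rfl, ?_, fun e he => ?_⟩
      · rw [(Submodule.mem_bot F).1 hv, map_zero, neg_zero]
      · rw [invariants_one hQ, sqc_one]; rfl
      · obtain rfl : e = 0 := by omega
        exact iff_of_true (by rw [pow_zero, one_mul]; exact IsSquare.one) plus_bot
    haveI : Nontrivial B := Module.nontrivial_of_finrank_pos (R := F) (by omega)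
    rcases Nat.lt_or_ge k 2 with hk1 | hk2
    · obtain rfl : k = 1 := by omega
      obtain ⟨⟨v, hvB⟩, hv⟩ := exists_apply_ne_zero hB.comp
      change Q v ≠ 0 at hv
      have hspan : Submodule.span F {v} = B := Submodule.eq_of_le_of_finrank_eq
        ((Submodule.span_singleton_le_iff_mem _ _).2 hvB) (by rw [(hline hv).2, hBd])
      refine ⟨refl hv, Q v, hv, fun x hx => ?_, fun z hz => ?_, by rw [hrefl hv, Nat.cast_one], fun e he => by omega⟩
      · obtain ⟨c, rfl⟩ := Submodule.mem_span_singleton.1 (hspan.ge hx)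
        rw [map_smul, show (refl hv : V ≃ₗ[F] V) v = -v from reflMap_self hv, smul_neg]
      · exact reflMap_perp (by rw [QuadraticMap.polar_comm]; exact mem_perp.1 hz v hvB)
    obtain ⟨⟨v, hvB⟩, hv⟩ := exists_apply_eq hB.comp (by omega) (one_ne_zero (α := F))
    change Q v = 1 at hv
    have hv1 : Q v ≠ 0 := hv ▸ one_ne_zero
    obtain ⟨hL', -, hLd⟩ := nondeg_inf_perp (hline hv1).1 hB ((Submodule.span_singleton_le_iff_mem _ _).2 hvB)
    rw [(hline hv1).2] at hLd
    obtain ⟨w, hwB, hvw, hw, hw3⟩ : ∃ w ∈ B, polar Q v w = 0 ∧ Q w ≠ 0 ∧ (3 ≤ k → Q w = -1) := by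
      rcases Nat.lt_or_ge k 3 with hk3 | hk3
      · haveI : Nontrivial ↥(B ⊓ OrthMax.perp Q (Submodule.span F {v})) :=
          Module.nontrivial_of_finrank_pos (R := F) (by omega)
        obtain ⟨⟨w, hwB, hw⟩, hw0⟩ := exists_apply_ne_zero hL'.comp
        exact ⟨w, hwB, mem_perp.1 hw v (Submodule.mem_span_singleton_self v), hw0, fun h => by omega⟩
      · obtain ⟨⟨w, hwB, hw⟩, hw0⟩ := exists_apply_eq hL'.comp (by omega) (neg_ne_zero.2 (one_ne_zero (α := F)))
        change Q w = -1 at hw0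
        exact ⟨w, hwB, mem_perp.1 hw v (Submodule.mem_span_singleton_self v),
          by rw [hw0]; exact neg_ne_zero.2 one_ne_zero, fun _ => hw0⟩
    have horth₁ : ∀ a ∈ Submodule.span F {v}, ∀ b ∈ Submodule.span F {w}, polar Q a b = 0 := fun a ha b hb => by
      obtain ⟨s, rfl⟩ := Submodule.mem_span_singleton.1 ha
      obtain ⟨t, rfl⟩ := Submodule.mem_span_singleton.1 hb
      rw [polar_smul_left', polar_smul_right', hvw, mul_zero, mul_zero]
    set P := Submodule.span F {v} ⊔ Submodule.span F {w} with hP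
    have hPn : Nondeg Q P := nondeg_sup (hline hv1).1 (hline hw).1 horth₁
    have hPd : finrank F P = 2 := by rw [hP, finrank_sup_orth (hline hv1).1 horth₁, (hline hv1).2, (hline hw).2]
    have hPB : P ≤ B := sup_le ((Submodule.span_singleton_le_iff_mem _ _).2 hvB)
      ((Submodule.span_singleton_le_iff_mem _ _).2 hwB)
    have hPp : Plus Q P ↔ IsSquare (-Q w) := by
      have hval : ∀ a b : F, Q (a • v + b • w) = a * a + b * b * Q w := fun a b => by
        rw [apply_add, apply_smul, apply_smul, polar_smul_left', polar_smul_right', hvw, hv]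
        ring
      constructor
      · rintro ⟨S, hSP, hS, hSd⟩
        obtain ⟨x, hx, hx0⟩ : ∃ x ∈ S, x ≠ 0 := S.exists_mem_ne_zero_of_ne_bot fun h => by
          rw [h, finrank_bot] at hSd
          omega
        obtain ⟨a', ha', b', hb', rfl⟩ := Submodule.mem_sup.1 (hSP hx)
        obtain ⟨a, rfl⟩ := Submodule.mem_span_singleton.1 ha'
        obtain ⟨b, rfl⟩ := Submodule.mem_span_singleton.1 hb'
        have h := (hval a b).symm.trans (hS _ hx)
        by_cases hb : b = 0
        · rw [hb, mul_zero, zero_mul, add_zero, mul_self_eq_zero] at h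
          exact absurd (by rw [h, hb, zero_smul, zero_smul, add_zero]) hx0
        · exact ⟨a / b, by field_simp; linear_combination -h⟩
      · rintro ⟨s, hs⟩
        refine ⟨Submodule.span F {s • v + w}, (Submodule.span_singleton_le_iff_mem _ _).2 (Submodule.add_mem_sup
          (Submodule.smul_mem _ s (Submodule.mem_span_singleton_self v)) (Submodule.mem_span_singleton_self w)), ?_, ?_⟩
        · intro x hx
          obtain ⟨c, rfl⟩ := Submodule.mem_span_singleton.1 hx
          have h := hval s 1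
          rw [one_smul] at h
          rw [apply_smul, h]
          linear_combination (-(c * c)) * hs
        · rw [hPd, finrank_span_singleton fun h => hw ?_]
          have h' := congrArg (polar Q w) h
          rw [polar_add_right', polar_smul_right', polar_self', QuadraticMap.polar_comm, hvw, mul_zero, zero_add,
            QuadraticMap.polar_zero_right] at h'
          exact (mul_eq_zero.1 h').resolve_left h2
    obtain ⟨hB', hsup, hd⟩ := nondeg_inf_perp hPn hB hPB
    obtain ⟨a, c, hc, han, haf, hai, hap⟩ := ih (k - 2) (by omega) (B := B ⊓ OrthMax.perp Q P) (by omega) hB'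
    have horth : ∀ x ∈ P, ∀ y ∈ B ⊓ OrthMax.perp Q P, polar Q x y = 0 := fun x hx y hy => mem_perp.1 hy.2 x hx
    have hvP : v ∈ P := Submodule.mem_sup_left (Submodule.mem_span_singleton_self v)
    have hwP : w ∈ P := Submodule.mem_sup_right (Submodule.mem_span_singleton_self w)
    refine ⟨refl hv1 * refl hw * a, Q v * Q w * c, mul_ne_zero (mul_ne_zero hv1 hw) hc, fun x hx => ?_,
      fun z hz => ?_, ?_, fun e he => ?_⟩
    · rw [← hsup] at hx
      obtain ⟨p, hp, y, hy, rfl⟩ := Submodule.mem_sup.1 hx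
      show (refl hv1 : V ≃ₗ[F] V) ((refl hw : V ≃ₗ[F] V) ((a : V ≃ₗ[F] V) (p + y))) = -(p + y)
      have hap : (a : V ≃ₗ[F] V) p = p := haf p (mem_perp.2 fun z hz => by
        rw [QuadraticMap.polar_comm]; exact horth p hp z hz)
      rw [map_add, hap, han y hy]
      obtain ⟨a', ha', b', hb', rfl⟩ := Submodule.mem_sup.1 hp
      obtain ⟨s, rfl⟩ := Submodule.mem_span_singleton.1 ha'
      obtain ⟨t, rfl⟩ := Submodule.mem_span_singleton.1 hb'
      have e1 : (refl hw : V ≃ₗ[F] V) v = v := reflMap_perp hvw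
      have e2 : (refl hw : V ≃ₗ[F] V) w = -w := reflMap_self hw
      have e3 : (refl hw : V ≃ₗ[F] V) y = y := reflMap_perp (by rw [QuadraticMap.polar_comm]; exact horth w hwP y hy)
      have e4 : (refl hv1 : V ≃ₗ[F] V) v = -v := reflMap_self hv1
      have e5 : (refl hv1 : V ≃ₗ[F] V) w = w := reflMap_perp (by rw [QuadraticMap.polar_comm]; exact hvw)
      have e6 : (refl hv1 : V ≃ₗ[F] V) y = y := reflMap_perp (by rw [QuadraticMap.polar_comm]; exact horth v hvP y hy)
      simp only [map_add, map_smul, map_neg, e1, e2, e3, e4, e5, e6]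
      module
    · show (refl hv1 : V ≃ₗ[F] V) ((refl hw : V ≃ₗ[F] V) ((a : V ≃ₗ[F] V) z)) = z
      rw [haf z (mem_perp.2 fun y hy => mem_perp.1 hz y hy.1),
        show (refl hw : V ≃ₗ[F] V) z = z from reflMap_perp (by
          rw [QuadraticMap.polar_comm]; exact mem_perp.1 hz w hwB)]
      exact reflMap_perp (by rw [QuadraticMap.polar_comm]; exact mem_perp.1 hz v hvB)
    · rw [invariants_mul hQ hR, invariants_mul hQ hR, hrefl hv1, hrefl hw, hai, sqc_mul (mul_ne_zero hv1 hw) hc,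
        sqc_mul hv1 hw]
      refine Prod.ext ?_ rfl
      show Multiplicative.ofAdd _ * Multiplicative.ofAdd _ * Multiplicative.ofAdd _ = _
      rw [← ofAdd_add, ← ofAdd_add, Nat.cast_sub (by omega : 2 ≤ k),
        show (1 : ZMod 2) + 1 = 0 from by decide, zero_add, show ((2 : ℕ) : ZMod 2) = 0 from rfl, sub_zero]
    · obtain ⟨e', rfl⟩ : ∃ e', e = e' + 1 := ⟨e - 1, by omega⟩
      have hd' : finrank F ↥(B ⊓ OrthMax.perp Q P) = 2 * e' := by omega
      rw [← hsup, plus_sup_iff hPn hB' horth (hPd ▸ even_two) (hd' ▸ even_two_mul e'), hPp, ← hap e' (by omega),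
        ← isSquare_mul_iff' (neg_ne_zero.2 hw) (mul_ne_zero (pow_ne_zero _ (neg_ne_zero.2 one_ne_zero)) hc)]
      refine iff_of_eq (congrArg IsSquare ?_)
      rw [hv, pow_succ]; ring

variable {g : Module.End F V}

/-- Eigenspaces of an involution. -/
theorem eigen_split (h2 : (2 : F) ≠ 0) (hQ : (polarBilin Q).Nondegenerate) (hg : ∀ v, Q (g v) = Q v)
    (hgg : g * g = 1) :
    Nondeg Q (LinearMap.ker (g - 1)) ∧ Nondeg Q (LinearMap.ker (g + 1)) ∧
      (∀ a ∈ LinearMap.ker (g - 1), ∀ b ∈ LinearMap.ker (g + 1), polar Q a b = 0) ∧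
      LinearMap.ker (g - 1) ⊔ LinearMap.ker (g + 1) = ⊤ ∧ (∀ v ∈ LinearMap.ker (g - 1), g v = v) ∧
      (∀ v ∈ LinearMap.ker (g + 1), g v = -v) ∧
      ∀ S : Submodule F V, (∀ v ∈ S, g v ∈ S) →
        S ≤ (S ⊓ LinearMap.ker (g - 1)) ⊔ (S ⊓ LinearMap.ker (g + 1)) := by
  set A := LinearMap.ker (g - 1) with hAdef
  set B := LinearMap.ker (g + 1) with hBdef
  have hgg' : ∀ v, g (g v) = v := fun v => by rw [← Module.End.mul_apply, hgg]; rfl
  have hA' : ∀ v ∈ A, g v = v := fun v hv => sub_eq_zero.1 hv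
  have hB' : ∀ v ∈ B, g v = -v := fun v hv => eq_neg_of_add_eq_zero_left hv
  have hS : ∀ S : Submodule F V, (∀ v ∈ S, g v ∈ S) → S ≤ (S ⊓ A) ⊔ (S ⊓ B) := fun S hS v hv =>
    Submodule.mem_sup.2 ⟨(2 : F)⁻¹ • (v + g v), ⟨S.smul_mem _ (S.add_mem hv (hS v hv)), by
      show g _ - _ = 0
      rw [map_smul, map_add, hgg', Module.End.one_apply, add_comm (g v) v, sub_self]⟩,
     (2 : F)⁻¹ • (v - g v), ⟨S.smul_mem _ (S.sub_mem hv (hS v hv)), by
      show g _ + _ = 0
      rw [map_smul, map_sub, hgg', Module.End.one_apply, ← smul_add]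
      simp⟩,
     by rw [← smul_add, add_add_sub_cancel, ← two_smul F v, smul_smul, inv_mul_cancel₀ h2, one_smul]⟩
  have hsup : A ⊔ B = ⊤ := eq_top_iff.2 ((hS ⊤ fun _ _ => Submodule.mem_top).trans
    (sup_le_sup inf_le_right inf_le_right))
  have horth : ∀ a ∈ A, ∀ b ∈ B, polar Q a b = 0 := fun a ha b hb => by
    have h : polar Q (g a) (g b) = polar Q a b := by simp only [polar, ← map_add, hg]
    rw [hA' a ha, hB' b hb, QuadraticMap.polar_neg_right] at h
    exact (mul_eq_zero.1 (show (2 : F) * polar Q a b = 0 by linear_combination -h)).resolve_left h2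
  have nd : ∀ {X Y : Submodule F V}, X ⊔ Y = ⊤ → (∀ a ∈ X, ∀ b ∈ Y, polar Q a b = 0) → Nondeg Q X :=
    fun {X Y} h ho x hx hall => hQ.1 x fun z => by
      obtain ⟨a, ha, b, hb, rfl⟩ := Submodule.mem_sup.1 (h.ge (Submodule.mem_top (x := z)))
      show polar Q x (a + b) = 0
      rw [polar_add_right', hall a ha, ho x hx b hb, add_zero]
  exact ⟨nd hsup horth, nd (by rw [sup_comm]; exact hsup) (fun b hb a ha => by
    rw [QuadraticMap.polar_comm]; exact horth a ha b hb), horth, hsup, hA', hB', hS⟩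

theorem singular_sup {A B : Submodule F V} (hA : Nondeg Q A) (horth : ∀ a ∈ A, ∀ b ∈ B, polar Q a b = 0)
    {j k : ℕ} (h1 : TSIn Q A j) (h3 : TSIn Q B k) :
    ∃ S T : Submodule F V, S ≤ A ∧ T ≤ B ∧ finrank F ↥(S ⊔ T) = j + k ∧ ∀ x ∈ S ⊔ T, Q x = 0 := by
  obtain ⟨S, hSA, hS, hSd⟩ := h1
  obtain ⟨T, hTB, hT, hTd⟩ := h3
  refine ⟨S, T, hSA, hTB, ?_, fun x hx => ?_⟩
  · have h := Submodule.finrank_sup_add_finrank_inf_eq S T
    have h0 : S ⊓ T = ⊥ := le_bot_iff.1 ((inf_le_inf hSA hTB).trans (inf_eq_bot_of_orth hA horth).le)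
    rw [h0, finrank_bot, hSd, hTd] at h
    omega
  · obtain ⟨a, ha, b, hb, rfl⟩ := Submodule.mem_sup.1 hx
    rw [apply_add, hS a ha, hT b hb, horth a (hSA ha) b (hTB hb), add_zero, add_zero]

/-- Invariant totally singular subspaces of a square root of `-1` when `-1` is a square. -/
theorem j_singular_split (h2 : (2 : F) ≠ 0) (hQ : (polarBilin Q).Nondegenerate) (hg : ∀ v, Q (g v) = Q v)
    (hgg : ∀ v, g (g v) = -v) (hsq : IsSquare (-1 : F)) {d m : ℕ} (hd : finrank F V = 2 * d) (hm : m ≤ d) :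
    ∃ S : Submodule F V, (∀ v ∈ S, g v ∈ S) ∧ (∀ x ∈ S, Q x = 0) ∧ finrank F S = m := by
  obtain ⟨l, hl⟩ := hsq
  have hl0 : l ≠ 0 := fun h => by rw [h, mul_zero, neg_eq_zero] at hl; exact one_ne_zero hl
  set A := LinearMap.ker (g - l • (1 : Module.End F V)) with hA
  set B := LinearMap.ker (g + l • (1 : Module.End F V)) with hB
  have hA' : ∀ v ∈ A, g v = l • v := fun v hv => sub_eq_zero.1 hv
  have hB' : ∀ v ∈ B, g v = -(l • v) := fun v hv => eq_neg_of_add_eq_zero_left hv
  have hsing : ∀ {c : F}, c * c = -1 → ∀ v, g v = c • v → Q v = 0 := fun {c} hc v hv => by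
    have h := hg v
    rw [hv, apply_smul, hc] at h
    exact (mul_eq_zero.1 (show (2 : F) * Q v = 0 by linear_combination -h)).resolve_left h2
  have hAs : ∀ v ∈ A, Q v = 0 := fun v hv => hsing hl.symm v (hA' v hv)
  have hBs : ∀ v ∈ B, Q v = 0 := fun v hv => hsing (c := -l) (by rw [neg_mul_neg]; exact hl.symm) v
    (by rw [hB' v hv, neg_smul])
  have hsup : A ⊔ B = ⊤ := eq_top_iff.2 fun v _ => Submodule.mem_sup.2
    ⟨(2 * l)⁻¹ • (l • v + g v), by
      show g _ - (l • (1 : Module.End F V)) _ = 0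
      rw [LinearMap.smul_apply, Module.End.one_apply, map_smul, map_add, map_smul, hgg,
        smul_comm l, ← smul_sub, smul_eq_zero]
      refine Or.inr ?_
      rw [smul_add, smul_smul, ← hl, neg_smul, one_smul]
      abel,
     (2 * l)⁻¹ • (l • v - g v), by
      show g _ + (l • (1 : Module.End F V)) _ = 0
      rw [LinearMap.smul_apply, Module.End.one_apply, map_smul, map_sub, map_smul, hgg,
        smul_comm l, ← smul_add, smul_eq_zero]
      refine Or.inr ?_
      rw [smul_sub, smul_smul, ← hl, neg_smul, one_smul]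
      abel,
     by
      rw [← smul_add, add_add_sub_cancel, ← two_smul F (l • v), smul_smul, smul_smul, mul_assoc,
        inv_mul_cancel₀ (mul_ne_zero h2 hl0), one_smul]⟩
  have htop : Nondeg Q (⊤ : Submodule F V) := fun x _ h => hQ.1 x fun y => h y Submodule.mem_top
  have hAd : finrank F A = d := by
    have h1 := two_mul_le_of_singular htop le_top hAs
    have h3 := two_mul_le_of_singular htop le_top hBs
    have h4 := Submodule.finrank_sup_add_finrank_inf_eq A B
    rw [hsup, finrank_top] at h4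
    rw [finrank_top] at h1 h3
    omega
  obtain ⟨S, hSA, hSd⟩ := exists_sub_dim A (hAd ▸ hm)
  exact ⟨S, fun v hv => by rw [hA' v (hSA hv)]; exact S.smul_mem _ hv, fun x hx => hAs x (hSA hx), hSd⟩

/-- Invariant totally singular subspaces of even dimension of a square root of `-1`. -/
theorem j_singular_even (h2 : (2 : F) ≠ 0) (hQ : (polarBilin Q).Nondegenerate) (hg : ∀ v, Q (g v) = Q v)
    (hgg : ∀ v, g (g v) = -v) (l : ℕ) : ∀ {W : Submodule F V}, Nondeg Q W → (∀ v ∈ W, g v ∈ W) →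
    4 * l ≤ finrank F W →
    ∃ S : Submodule F V, S ≤ W ∧ (∀ v ∈ S, g v ∈ S) ∧ (∀ x ∈ S, Q x = 0) ∧ finrank F S = 2 * l := by
  induction l with
  | zero =>
    intro W _ _ _
    exact ⟨⊥, bot_le, fun v hv => by rw [(Submodule.mem_bot F).1 hv, map_zero]; exact zero_mem _,
      fun x hx => by rw [(Submodule.mem_bot F).1 hx, QuadraticMap.map_zero], by simp⟩
  | succ l ih =>
    intro W hW hinv hle
    haveI : Nontrivial W := Module.nontrivial_of_finrank_pos (R := F) (by omega)
    obtain ⟨⟨v, hvW⟩, hv⟩ := exists_apply_ne_zero hW.comp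
    change Q v ≠ 0 at hv
    have plane : ∀ {v : V} {X : Submodule F V}, Q v ≠ 0 → v ∈ X → (∀ x ∈ X, g x ∈ X) → Nondeg Q X →
        ∃ P : Submodule F V, P ≤ X ∧ v ∈ P ∧ g v ∈ P ∧ Nondeg Q P ∧ (∀ x ∈ P, g x ∈ P) ∧ finrank F P = 2 := by
      intro v X hv hvX hXi _
      obtain ⟨h1, h3, -⟩ := plane_facts h2 hv (hg v) (polar_self_J h2 hg hgg v)
      refine ⟨_, sup_le ((Submodule.span_singleton_le_iff_mem _ _).2 hvX)
        ((Submodule.span_singleton_le_iff_mem _ _).2 (hXi v hvX)),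
        Submodule.mem_sup_left (Submodule.mem_span_singleton_self v),
        Submodule.mem_sup_right (Submodule.mem_span_singleton_self (g v)), h1, fun x hx => ?_, h3⟩
      obtain ⟨a', ha', b', hb', rfl⟩ := Submodule.mem_sup.1 hx
      obtain ⟨a, rfl⟩ := Submodule.mem_span_singleton.1 ha'
      obtain ⟨b, rfl⟩ := Submodule.mem_span_singleton.1 hb'
      rw [map_add, map_smul, map_smul, hgg, smul_neg, ← neg_smul, add_comm]
      exact Submodule.add_mem_sup (Submodule.smul_mem _ _ (Submodule.mem_span_singleton_self v))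
        (Submodule.smul_mem _ _ (Submodule.mem_span_singleton_self (g v)))
    obtain ⟨P, hPW, hvP, hgvP, hP, hPi, hPd⟩ := plane hv hvW hinv hW
    obtain ⟨hW₁, -, hd₁⟩ := nondeg_inf_perp hP hW hPW
    have hW₁i : ∀ x ∈ W ⊓ OrthMax.perp Q P, g x ∈ W ⊓ OrthMax.perp Q P := fun x hx =>
      ⟨hinv x hx.1, jperp_invariant hg hgg hPi x hx.2⟩
    obtain ⟨⟨y, hy⟩, hy0⟩ := exists_apply_eq hW₁.comp (by omega) (neg_ne_zero.2 hv)
    change Q y = -Q v at hy0
    have hy' : Q y ≠ 0 := hy0 ▸ neg_ne_zero.2 hv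
    obtain ⟨P', hP'W, hyP, hgyP, hP', hP'i, hP'd⟩ := plane hy' hy hW₁i hW₁
    obtain ⟨hW₂, -, hd₂⟩ := nondeg_inf_perp hP' hW₁ hP'W
    obtain ⟨S, hSW, hSi, hSs, hSd⟩ := ih hW₂
      (fun x hx => ⟨hW₁i x hx.1, jperp_invariant hg hgg hP'i x hx.2⟩) (by omega)
    set u := v + y with hu
    have hPy : ∀ x ∈ P, ∀ z ∈ W ⊓ OrthMax.perp Q P, polar Q x z = 0 := fun x hx z hz => mem_perp.1 hz.2 x hx
    have hQu : Q u = 0 := by rw [hu, apply_add, hy0, hPy v hvP y hy]; ring
    have hjj : polar Q (g v) v = 0 := by rw [QuadraticMap.polar_comm]; exact polar_self_J h2 hg hgg v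
    have hgu_v : polar Q (g u) v = 0 := by
      rw [hu, map_add, polar_add_left', hjj, QuadraticMap.polar_comm, hPy v hvP _ (hP'W hgyP), add_zero]
    have hu_gv : polar Q u (g v) = 0 := by
      rw [hu, polar_add_left', polar_self_J h2 hg hgg v, QuadraticMap.polar_comm, hPy _ hgvP y hy, add_zero]
    have hu_v : polar Q u v = 2 * Q v := by
      rw [hu, polar_add_left', polar_self', QuadraticMap.polar_comm, hPy v hvP y hy, add_zero]
    have hgu_gv : polar Q (g u) (g v) = 2 * Q v := by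
      rw [hu, map_add, polar_add_left', polar_self', hg, QuadraticMap.polar_comm, hPy _ hgvP _ (hP'W hgyP), add_zero]
    set S₁ := Submodule.span F (Set.range ![u, g u]) with hS₁
    have hmem : u ∈ S₁ ∧ g u ∈ S₁ := ⟨Submodule.subset_span ⟨0, rfl⟩, Submodule.subset_span ⟨1, rfl⟩⟩
    have hexp : ∀ x ∈ S₁, ∃ a b : F, a • u + b • g u = x := fun x hx => by
      obtain ⟨l, hl⟩ := (Submodule.mem_span_range_iff_exists_fun F).1 hx
      exact ⟨l 0, l 1, by simpa [Fin.sum_univ_two] using hl⟩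
    have hli : LinearIndependent F ![u, g u] := LinearIndependent.pair_iff.2 fun s t hst => by
      have h1 := congrArg (fun z => polar Q z v) hst
      have h3 := congrArg (fun z => polar Q z (g v)) hst
      simp only [polar_add_left', polar_smul_left', hgu_v, hu_gv, hu_v, hgu_gv, QuadraticMap.polar_zero_left,
        mul_zero, add_zero, zero_add] at h1 h3
      exact ⟨(mul_eq_zero.1 h1).resolve_right (mul_ne_zero h2 hv), (mul_eq_zero.1 h3).resolve_right (mul_ne_zero h2 hv)⟩
    have hS₁le : S₁ ≤ P ⊔ P' := by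
      rw [hS₁, Submodule.span_le]
      rintro _ ⟨i, rfl⟩
      fin_cases i
      · exact Submodule.add_mem_sup hvP hyP
      · show g (v + y) ∈ P ⊔ P'
        rw [map_add]; exact Submodule.add_mem_sup hgvP hgyP
    have horth : ∀ a ∈ P ⊔ P', ∀ b ∈ S, polar Q a b = 0 := fun a ha b hb => by
      obtain ⟨p, hp, p', hp', rfl⟩ := Submodule.mem_sup.1 ha
      rw [polar_add_left', hPy p hp b (hSW hb).1, mem_perp.1 (hSW hb).2 p' hp', add_zero]
    have hPP' : Nondeg Q (P ⊔ P') := nondeg_sup hP hP' fun a ha b hb => hPy a ha b (hP'W hb)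
    refine ⟨S₁ ⊔ S, sup_le (hS₁le.trans (sup_le hPW (hP'W.trans inf_le_left)))
      (hSW.trans (inf_le_left.trans inf_le_left)), fun x hx => ?_, fun x hx => ?_, ?_⟩
    · obtain ⟨a, ha, b, hb, rfl⟩ := Submodule.mem_sup.1 hx
      obtain ⟨s, t, rfl⟩ := hexp a ha
      rw [map_add]
      refine Submodule.add_mem_sup ?_ (hSi b hb)
      rw [map_add, map_smul, map_smul, hgg u, smul_neg, ← neg_smul, add_comm]
      exact add_mem (S₁.smul_mem _ hmem.1) (S₁.smul_mem _ hmem.2)
    · obtain ⟨a, ha, b, hb, rfl⟩ := Submodule.mem_sup.1 hx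
      rw [apply_add, hSs b hb, horth a (hS₁le ha) b hb, add_zero, add_zero]
      obtain ⟨s, t, rfl⟩ := hexp a ha
      rw [apply_add, apply_smul, apply_smul, polar_smul_left', polar_smul_right', hg, hQu, polar_self_J h2 hg hgg u]
      ring
    · have h := Submodule.finrank_sup_add_finrank_inf_eq S₁ S
      have h0 : S₁ ⊓ S = ⊥ := le_bot_iff.1 ((inf_le_inf_right S hS₁le).trans
        (inf_eq_bot_of_orth hPP' horth).le)
      have hS₁d : finrank F S₁ = 2 := by rw [hS₁, finrank_span_eq_card hli, Fintype.card_fin]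
      rw [h0, finrank_bot, hS₁d, hSd] at h
      omega

/-- Subspaces invariant under a square root of `-1` have even dimension, `-1` being a nonsquare. -/
theorem j_even_dim (hgg : ∀ v, g (g v) = -v) (hsq : ¬ IsSquare (-1 : F)) {S : Submodule F V}
    (hS : ∀ v ∈ S, g v ∈ S) : Even (finrank F S) := by
  set J : Module.End F S := g.restrict hS
  have hJ : J * J = (-1 : F) • (1 : Module.End F S) := LinearMap.ext fun v => Subtype.ext (by
    show g (g (v : V)) = ((-1 : F) • v : S)
    rw [hgg, neg_one_smul, Submodule.coe_neg])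
  have h := congrArg LinearMap.det hJ
  rw [map_mul, LinearMap.det_smul, map_one, mul_one] at h
  by_contra ho
  rw [(Nat.not_even_iff_odd.1 ho).neg_one_pow] at h
  exact hsq ⟨_, h.symm⟩

section matrices

variable {ι : Type} [Fintype ι] [DecidableEq ι] {Q : QuadraticForm F (ι → F)}

theorem minus_space_type (h2 : (2 : F) ≠ 0) (hQ : (polarBilin Q).Nondegenerate) (hn : 2 ≤ Fintype.card ι)
    {x : GL ι F} (hx : x ∈ Cfsg.Geo.omegaGL (⇑Q))
    (hxx : Matrix.toLinAlgEquiv' (x : Matrix ι ι F) * Matrix.toLinAlgEquiv' (x : Matrix ι ι F) = 1) :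
    ∃ e, finrank F (LinearMap.ker (Matrix.toLinAlgEquiv' (x : Matrix ι ι F) + 1)) = 2 * e ∧
      (Plus Q (LinearMap.ker (Matrix.toLinAlgEquiv' (x : Matrix ι ι F) + 1)) ↔ (IsSquare (-1 : F) ∨ Even e)) := by
  set f := Matrix.toLinAlgEquiv' (x : Matrix ι ι F) with hf
  obtain ⟨hA, hB, horth, hsup, hA', hB', -⟩ := eigen_split (g := f) h2 hQ (isometry_of_mem_lin hx) hxx
  obtain ⟨a, c, hc, han, haf, hai, hap⟩ := exists_sign_change h2 hQ _ rfl hB
  obtain ⟨b, hb, hbi⟩ := invariants_of_mem_omega h2 hQ hn hx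
  have hab : a = b := Subtype.ext (LinearEquiv.ext fun v => by
    obtain ⟨p, hp, q, hq, rfl⟩ := Submodule.mem_sup.1 (hsup.ge (Submodule.mem_top (x := v)))
    rw [hb, map_add, map_add, han q hq, haf p (mem_perp.2 fun y hy => by
      rw [QuadraticMap.polar_comm]; exact horth p hp y hy), hA' p hp, hB' q hq])
  rw [hab, hbi] at hai
  have h1 : ((finrank F (LinearMap.ker (f + 1)) : ℕ) : ZMod 2) = 0 :=
    (Multiplicative.ofAdd.injective ((congrArg Prod.fst hai).symm.trans rfl) : _)
  obtain ⟨e, he⟩ := (ZMod.natCast_eq_zero_iff_even).1 h1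
  refine ⟨e, by omega, ?_⟩
  rw [← hap e (by omega), isSquare_mul_iff' (pow_ne_zero _ (neg_ne_zero.2 one_ne_zero)) hc, isSquare_neg_one_pow]
  have hcs : IsSquare c := (sqc_eq_one_iff hc).1 (congrArg Prod.snd hai).symm
  simp [hcs]

theorem exists_involution_plane (h2 : (2 : F) ≠ 0) (hQ : (polarBilin Q).Nondegenerate) (hn : 3 ≤ Fintype.card ι)
    (hsq : ¬ IsSquare (-1 : F)) :
    ∃ x : GL ι F, x ∈ Cfsg.Geo.omegaGL (⇑Q) ∧ x ^ 2 = 1 ∧ (∀ z : F, (x : Matrix ι ι F) ≠ z • (1 : Matrix ι ι F)) ∧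
      finrank F (LinearMap.ker (Matrix.toLinAlgEquiv' (x : Matrix ι ι F) + 1)) = 2 ∧
      ¬ Plus Q (LinearMap.ker (Matrix.toLinAlgEquiv' (x : Matrix ι ι F) + 1)) := by
  have hnd : finrank F (ι → F) = Fintype.card ι := finrank_pi F
  obtain ⟨B, -, hB, hBp, hBd⟩ := exists_minus_sub (Q := Q) (nondeg_top hQ) (k := 1) le_rfl (by rw [finrank_top]; omega)
  obtain ⟨a, c, hc, han, haf, hai, hap⟩ := exists_sign_change h2 hQ _ hBd hB
  have hcs : IsSquare c := by
    by_contra hns
    refine hBp ((hap 1 rfl).1 ?_)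
    rw [pow_one, isSquare_mul_iff' (neg_ne_zero.2 one_ne_zero) hc]
    exact iff_of_false hsq hns
  obtain ⟨x, hx, hxa⟩ := omega_of_invariants h2 hQ (by omega) a (by
    rw [hai, (sqc_eq_one_iff hc).2 hcs]; rfl)
  set f := Matrix.toLinAlgEquiv' (x : Matrix ι ι F) with hf
  have hsplit : ∀ v, ∃ p ∈ OrthMax.perp Q B, ∃ q ∈ B, p + q = v := fun v => by
    obtain ⟨b, hb, p, hp, hbp⟩ := Submodule.mem_sup.1 ((hB.isCompl hQ).sup_eq_top.ge (Submodule.mem_top (x := v)))
    exact ⟨p, hp, b, hb, by rw [add_comm, hbp]⟩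
  have hff : f * f = 1 := LinearMap.ext fun v => by
    obtain ⟨p, hp, q, hq, rfl⟩ := hsplit v
    rw [Module.End.mul_apply, hxa, hxa, map_add, map_add, haf p hp, haf p hp, han q hq, map_neg, han q hq, neg_neg]
    rfl
  have hker : LinearMap.ker (f + 1) = B := by
    ext v
    obtain ⟨p, hp, q, hq, rfl⟩ := hsplit v
    rw [LinearMap.mem_ker, LinearMap.add_apply, Module.End.one_apply, hxa, map_add, haf p hp, han q hq]
    have e : p + -q + (p + q) = (2 : F) • p := by module
    rw [e, smul_eq_zero]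
    constructor
    · intro h
      rw [h.resolve_left h2, zero_add]; exact hq
    · intro h
      refine Or.inr (Submodule.disjoint_def.1 (hB.isCompl hQ).disjoint p ?_ hp)
      have := B.sub_mem h hq
      rwa [add_sub_cancel_right] at this
  refine ⟨x, hx, Units.ext (Matrix.toLinAlgEquiv'.injective (by rw [pow_two, Units.val_mul, map_mul, ← hf, hff,
    Units.val_one, map_one])), fun z hz => ?_, by rw [hker, hBd], by rw [hker]; exact hBp⟩
  have hfz : ∀ v, f v = z • v := fun v => by rw [hf, hz, map_smul, map_one]; rfl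
  obtain ⟨q, hq, hq0⟩ : ∃ q ∈ B, q ≠ 0 := B.exists_mem_ne_zero_of_ne_bot fun h => by
    rw [h, finrank_bot] at hBd; omega
  obtain ⟨p, hp, hp0⟩ : ∃ p ∈ OrthMax.perp Q B, p ≠ 0 := Submodule.exists_mem_ne_zero_of_ne_bot fun h => by
    have h' := finrank_perp hQ (W := B)
    rw [h, finrank_bot, hBd] at h'
    omega
  have e1 : -q = z • q := by rw [← hfz, hxa, han q hq]
  have e2 : p = z • p := by rw [← hfz, hxa, haf p hp]
  have hz1 : z = 1 := smul_left_injective F hp0 (e2.symm.trans (one_smul F p).symm)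
  rw [hz1, one_smul] at e1
  exact hq0 ((smul_eq_zero.1 (show (2 : F) • q = 0 by rw [two_smul]; nth_rw 1 [← e1]; exact neg_add_cancel q)).resolve_left h2)

theorem witt_max {A : Submodule F (ι → F)} (hA : Nondeg Q A) {a : ℕ} (hd : finrank F A = 2 * a) :
    (Plus Q A → TSIn Q A a) ∧ (¬ Plus Q A → 1 ≤ a ∧ TSIn Q A (a - 1) ∧ ∀ j, TSIn Q A j → j + 1 ≤ a) := by
  refine ⟨fun hp => (tsIn_iff hA _).2 (Or.inr ⟨hd.symm, hp⟩), fun hp => ?_⟩
  have ha : 1 ≤ a := by
    by_contra h
    refine hp ?_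
    rw [Submodule.finrank_eq_zero.1 (show finrank F A = 0 by omega)]
    exact plus_bot
  refine ⟨ha, (tsIn_iff hA _).2 (Or.inl (by omega)), fun j hj => ?_⟩
  rcases (tsIn_iff hA j).1 hj with h | ⟨-, h⟩
  · omega
  · exact absurd h hp

/-- The criterion in even dimension. -/
theorem two_iff_ts (h2 : (2 : F) ≠ 0) (hQ : (polarBilin Q).Nondegenerate) {d m : ℕ} (hd : Fintype.card ι = 2 * d)
    (hd2 : 2 ≤ d) (hm : m + 1 ≤ d) {W₀ : Submodule F (ι → F)} (hW₀ : ∀ x ∈ W₀, Q x = 0)
    (hW₀d : finrank F W₀ = m) :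
    (∀ x : GL ι F, x ∈ Cfsg.Geo.omegaGL (⇑Q) →
      (∃ z : F, ((x ^ 2 : GL ι F) : Matrix ι ι F) = z • (1 : Matrix ι ι F)) →
      (∀ z : F, (x : Matrix ι ι F) ≠ z • (1 : Matrix ι ι F)) →
      ∃ W : Submodule F (ι → F), Iso Q W W₀ ∧ W.map (Matrix.toLin' (x : Matrix ι ι F)) ≤ W) ↔
    ((Plus Q (⊤ : Submodule F (ι → F)) → IsSquare (-1 : F) ∨ m + 2 ≤ d) ∧
      (((Plus Q (⊤ : Submodule F (ι → F)) ↔ (IsSquare (-1 : F) ∨ Even d)) ∧ (Even d ∨ IsSquare (2 : F))) →
        IsSquare (-1 : F) ∨ Even m)) := by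
  have hn : finrank F (ι → F) = 2 * d := by rw [finrank_pi, hd]
  have htop : Nondeg Q (⊤ : Submodule F (ι → F)) := nondeg_top hQ
  constructor
  · intro hall
    refine ⟨fun hT => ?_, fun ⟨hT, hsq⟩ => ?_⟩
    · by_contra hc
      push Not at hc
      obtain ⟨x, hx, hxx, hns, hBd, hBp⟩ := exists_involution_plane h2 hQ (by omega) hc.1
      have hff : Matrix.toLinAlgEquiv' (x : Matrix ι ι F) * Matrix.toLinAlgEquiv' (x : Matrix ι ι F) = 1 := by
        rw [← map_mul, ← Units.val_mul, ← pow_two, hxx, Units.val_one, map_one]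
      obtain ⟨W, hiso, hmap⟩ := hall x hx ⟨1, by rw [hxx, Units.val_one, one_smul]⟩ hns
      obtain ⟨hA, hB, horth, hsup, -, -, hS⟩ := eigen_split h2 hQ (isometry_of_mem_lin hx) hff
      obtain ⟨hWd, hWs⟩ := (iso_singular hW₀).1 hiso
      set f := Matrix.toLinAlgEquiv' (x : Matrix ι ι F) with hf
      have hd1 := Submodule.finrank_mono (hS W fun v hv => by
        have h1 := hmap (Submodule.mem_map_of_mem hv)
        simpa only [Matrix.toLin'_apply, Matrix.toLinAlgEquiv'_apply, hf] using h1)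
      have hd3 := Submodule.finrank_sup_add_finrank_inf_eq (W ⊓ LinearMap.ker (f - 1)) (W ⊓ LinearMap.ker (f + 1))
      have hsum : finrank F (LinearMap.ker (f - 1)) + finrank F (LinearMap.ker (f + 1)) = 2 * d := by
        rw [← finrank_sup_orth hA horth, hsup, finrank_top, hn]
      have hAp : ¬ Plus Q (LinearMap.ker (f - 1)) := fun h => by
        have hev : Even (finrank F (LinearMap.ker (f - 1))) := ⟨d - 1, by omega⟩
        have h' := (plus_sup_iff hA hB horth hev (hBd ▸ even_two)).1 (hsup ▸ hT)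
        exact hBp (h'.1 h)
      obtain ⟨-, -, hmaxA⟩ := (witt_max hA (a := d - 1) (by omega)).2 hAp
      obtain ⟨-, -, hmaxB⟩ := (witt_max hB (a := 1) (by omega)).2 hBp
      have h4 := hmaxA _ ⟨W ⊓ LinearMap.ker (f - 1), inf_le_right, fun v hv => hWs v hv.1, rfl⟩
      have h5 := hmaxB _ ⟨W ⊓ LinearMap.ker (f + 1), inf_le_right, fun v hv => hWs v hv.1, rfl⟩
      omega
    · by_contra hc
      push Not at hc
      obtain ⟨a, ha, -, hai⟩ := exists_J h2 hQ d (W := ⊤) (by rw [finrank_top, hn]) htop hT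
      obtain ⟨x, hx, hxa⟩ := omega_of_invariants h2 hQ (by omega) a
        (by rw [hai, jInv, (sqc_two_pow_eq_one_iff h2 d).2 hsq]; rfl)
      set f := Matrix.toLinAlgEquiv' (x : Matrix ι ι F) with hf
      have hff : ∀ v, f (f v) = -v := fun v => by rw [hxa, hxa]; exact (ha v Submodule.mem_top).1
      obtain ⟨W, hiso, hmap⟩ := hall x hx ⟨-1, Matrix.toLinAlgEquiv'.injective (LinearMap.ext fun v => by
          rw [pow_two, Units.val_mul, map_mul, Module.End.mul_apply, hff, map_smul, map_one, LinearMap.smul_apply,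
            Module.End.one_apply, neg_one_smul])⟩ (fun z hz => by
          refine hc.1 ⟨z, ?_⟩
          haveI : Nontrivial (ι → F) := Module.nontrivial_of_finrank_pos (R := F) (by omega)
          obtain ⟨v, hv⟩ := exists_ne (0 : ι → F)
          have h3 : ∀ w, f w = z • w := fun w => by
            rw [hf, hz, map_smul, map_one, LinearMap.smul_apply, Module.End.one_apply]
          have h4 := hff v
          rw [h3, h3, smul_smul, ← neg_one_smul F v] at h4
          exact (smul_left_injective F hv h4).symm)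
      have hev := j_even_dim hff hc.1 (S := W) fun v hv => by
        have h1 := hmap (Submodule.mem_map_of_mem hv)
        simpa only [Matrix.toLin'_apply, Matrix.toLinAlgEquiv'_apply, hf] using h1
      rw [hiso.finrank_eq, hW₀d] at hev
      exact hc.2 hev
  · rintro ⟨hC1, hC2⟩ x hx ⟨z, hz⟩ hns
    suffices h : ∃ S : Submodule F (ι → F), (∀ v ∈ S, Matrix.toLinAlgEquiv' (x : Matrix ι ι F) v ∈ S) ∧
        (∀ v ∈ S, Q v = 0) ∧ finrank F S = m by
      obtain ⟨S, hi, hs, hdS⟩ := h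
      refine ⟨S, (iso_singular hW₀).2 ⟨hdS.trans hW₀d.symm, hs⟩, ?_⟩
      rintro _ ⟨v, hv, rfl⟩
      simpa only [Matrix.toLin'_apply, Matrix.toLinAlgEquiv'_apply] using hi v hv
    set f := Matrix.toLinAlgEquiv' (x : Matrix ι ι F) with hf
    rcases two_cases hQ (by omega) hx hz with hone | hneg
    · obtain ⟨hA, hB, horth, hsup, hA', hB', -⟩ := eigen_split (g := f) h2 hQ (isometry_of_mem_lin hx) hone
      obtain ⟨e, hBd, hBp⟩ := minus_space_type h2 hQ (by omega) hx hone
      have hsum : finrank F (LinearMap.ker (f - 1)) + finrank F (LinearMap.ker (f + 1)) = 2 * d := by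
        rw [← finrank_sup_orth hA horth, hsup, finrank_top, hn]
      have hAp : Plus Q (⊤ : Submodule F (ι → F)) ↔ (Plus Q (LinearMap.ker (f - 1)) ↔ Plus Q (LinearMap.ker (f + 1))) := by
        rw [← hsup]
        exact plus_sup_iff hA hB horth ⟨d - e, by rw [← hf] at hBd; omega⟩ ⟨e, by rw [← hf] at hBd; omega⟩
      rw [← hf] at hBd hBp
      obtain ⟨wA₁, wA₂⟩ := witt_max hA (a := d - e) (by omega)
      obtain ⟨wB₁, wB₂⟩ := witt_max hB (a := e) hBd
      have key : ∃ j k, TSIn Q (LinearMap.ker (f - 1)) j ∧ TSIn Q (LinearMap.ker (f + 1)) k ∧ m ≤ j + k := by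
        by_cases hpA : Plus Q (LinearMap.ker (f - 1)) <;> by_cases hpB : Plus Q (LinearMap.ker (f + 1))
        · exact ⟨_, _, wA₁ hpA, wB₁ hpB, by omega⟩
        · obtain ⟨h1, h3, -⟩ := wB₂ hpB
          exact ⟨_, _, wA₁ hpA, h3, by omega⟩
        · obtain ⟨h1, h3, -⟩ := wA₂ hpA
          exact ⟨_, _, h3, wB₁ hpB, by omega⟩
        · obtain ⟨h1, h3, -⟩ := wA₂ hpA
          obtain ⟨h4, h5, -⟩ := wB₂ hpB
          have hT : Plus Q (⊤ : Submodule F (ι → F)) := hAp.2 (iff_of_false hpA hpB)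
          rcases hC1 hT with h | h
          · exact absurd (hBp.2 (Or.inl h)) hpB
          · exact ⟨_, _, h3, h5, by omega⟩
      obtain ⟨j, k, hj, hk, hjk⟩ := key
      obtain ⟨S, T, hS, hT, hd', hsing⟩ := singular_sup hA horth (hj.mono (min_le_left j m))
        (hk.mono (show m - min j m ≤ k by omega))
      refine ⟨S ⊔ T, fun v hv => ?_, hsing, by omega⟩
      obtain ⟨a, ha, b, hb, rfl⟩ := Submodule.mem_sup.1 hv
      rw [map_add, hA' a (hS ha), hB' b (hT hb)]
      exact Submodule.add_mem_sup ha (T.neg_mem hb)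
    · by_cases hsq : IsSquare (-1 : F)
      · exact j_singular_split h2 hQ (isometry_of_mem_lin hx) hneg hsq hn (by omega)
      obtain ⟨l, hl, hlp, -, a, ha, -, hai⟩ := j_decomp h2 hQ (isometry_of_mem_lin hx) hneg _ rfl htop
        (fun v _ => Submodule.mem_top)
      rw [finrank_top, hn] at hl
      obtain rfl : d = l := by omega
      obtain ⟨b, hb, hbi⟩ := invariants_of_mem_omega h2 hQ (by omega) hx
      have hab : a = b := Subtype.ext (LinearEquiv.ext fun v => (ha v Submodule.mem_top).trans (hb v).symm)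
      rw [hab, hbi] at hai
      obtain ⟨k, hk⟩ := (hC2 ⟨hlp, (sqc_two_pow_eq_one_iff h2 d).1 (congrArg Prod.snd hai).symm⟩).resolve_left hsq
      obtain ⟨S, -, hi, hs, hdS⟩ := j_singular_even h2 hQ (isometry_of_mem_lin hx) hneg k htop
        (fun v _ => Submodule.mem_top) (by rw [finrank_top, hn]; omega)
      exact ⟨S, hi, hs, by omega⟩

/-- The criterion in odd dimension. -/
theorem two_iff_ts_odd (h2 : (2 : F) ≠ 0) (hQ : (polarBilin Q).Nondegenerate) {d m : ℕ}
    (hd : Fintype.card ι = 2 * d + 1) (hd2 : 2 ≤ d) (hm : m ≤ d) {W₀ : Submodule F (ι → F)}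
    (hW₀ : ∀ x ∈ W₀, Q x = 0) (hW₀d : finrank F W₀ = m) :
    (∀ x : GL ι F, x ∈ Cfsg.Geo.omegaGL (⇑Q) → orderOf x = 2 →
      ∃ W : Submodule F (ι → F), Iso Q W W₀ ∧ W.map (Matrix.toLin' (x : Matrix ι ι F)) ≤ W) ↔
    (IsSquare (-1 : F) ∨ m < d) := by
  have hn : finrank F (ι → F) = 2 * d + 1 := by rw [finrank_pi, hd]
  constructor
  · intro hall
    by_contra hc
    push Not at hc
    obtain ⟨x, hx, hxx, hns, hBd, hBp⟩ := exists_involution_plane h2 hQ (by omega) hc.1
    have hff : Matrix.toLinAlgEquiv' (x : Matrix ι ι F) * Matrix.toLinAlgEquiv' (x : Matrix ι ι F) = 1 := by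
      rw [← map_mul, ← Units.val_mul, ← pow_two, hxx, Units.val_one, map_one]
    obtain ⟨W, hiso, hmap⟩ := hall x hx (orderOf_eq_prime hxx fun h => hns 1 (by rw [h, Units.val_one, one_smul]))
    obtain ⟨hA, hB, horth, hsup, -, -, hS⟩ := eigen_split h2 hQ (isometry_of_mem_lin hx) hff
    obtain ⟨hWd, hWs⟩ := (iso_singular hW₀).1 hiso
    set f := Matrix.toLinAlgEquiv' (x : Matrix ι ι F) with hf
    have hd1 := Submodule.finrank_mono (hS W fun v hv => by
      have h1 := hmap (Submodule.mem_map_of_mem hv)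
      simpa only [Matrix.toLin'_apply, Matrix.toLinAlgEquiv'_apply, hf] using h1)
    have hd3 := Submodule.finrank_sup_add_finrank_inf_eq (W ⊓ LinearMap.ker (f - 1)) (W ⊓ LinearMap.ker (f + 1))
    have hsum : finrank F (LinearMap.ker (f - 1)) + finrank F (LinearMap.ker (f + 1)) = 2 * d + 1 := by
      rw [← finrank_sup_orth hA horth, hsup, finrank_top, hn]
    have h4 := two_mul_le_of_singular hA (inf_le_right : W ⊓ LinearMap.ker (f - 1) ≤ _) fun v hv => hWs v hv.1
    obtain ⟨-, -, hmaxB⟩ := (witt_max hB (a := 1) (by omega)).2 hBp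
    have h5 := hmaxB _ ⟨W ⊓ LinearMap.ker (f + 1), inf_le_right, fun v hv => hWs v hv.1, rfl⟩
    omega
  · intro hC x hx ho
    have hone : Matrix.toLinAlgEquiv' (x : Matrix ι ι F) * Matrix.toLinAlgEquiv' (x : Matrix ι ι F) = 1 := by
      rw [← map_mul, ← Units.val_mul, ← pow_two, show x ^ 2 = 1 from ho ▸ pow_orderOf_eq_one x, Units.val_one, map_one]
    set f := Matrix.toLinAlgEquiv' (x : Matrix ι ι F) with hf
    obtain ⟨hA, hB, horth, hsup, hA', hB', -⟩ := eigen_split (g := f) h2 hQ (isometry_of_mem_lin hx) hone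
    obtain ⟨e, hBd, hBp⟩ := minus_space_type h2 hQ (by omega) hx hone
    rw [← hf] at hBd hBp
    have hsum : finrank F (LinearMap.ker (f - 1)) + finrank F (LinearMap.ker (f + 1)) = 2 * d + 1 := by
      rw [← finrank_sup_orth hA horth, hsup, finrank_top, hn]
    obtain ⟨wB₁, wB₂⟩ := witt_max hB (a := e) hBd
    have hjA : TSIn Q (LinearMap.ker (f - 1)) (d - e) := (tsIn_iff hA _).2 (Or.inl (by omega))
    obtain ⟨k, hk, hjk⟩ : ∃ k, TSIn Q (LinearMap.ker (f + 1)) k ∧ m ≤ d - e + k := by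
      by_cases hpB : Plus Q (LinearMap.ker (f + 1))
      · exact ⟨_, wB₁ hpB, by omega⟩
      · obtain ⟨h1, h3, -⟩ := wB₂ hpB
        rcases hC with h | h
        · exact absurd (hBp.2 (Or.inl h)) hpB
        · exact ⟨_, h3, by omega⟩
    obtain ⟨S, T, hS, hT, hd', hsing⟩ := singular_sup hA horth (hjA.mono (min_le_left (d - e) m))
      (hk.mono (show m - min (d - e) m ≤ k by omega))
    refine ⟨S ⊔ T, (iso_singular hW₀).2 ⟨by omega, hsing⟩, ?_⟩
    rintro _ ⟨v, hv, rfl⟩
    obtain ⟨a, ha, b, hb, rfl⟩ := Submodule.mem_sup.1 hv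
    rw [Matrix.toLin'_apply, ← Matrix.toLinAlgEquiv'_apply, ← hf, map_add, hA' a (hS ha), hB' b (hT hb)]
    exact Submodule.add_mem_sup ha (T.neg_mem hb)

end matrices

end CfsgLib.Geo.Elusive
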