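/-
Unipotent witnesses for classes of odd-dimensional nondegenerate subspaces.
-/
import Cfsg.Agent.Lib.Geo.Elusive.UnipotentWitness
import Cfsg.Agent.Lib.Geo.Elusive.Involution

set_option autoImplicit false
set_option maxHeartbeats 800000
set_option linter.unusedSectionVars false
set_option linter.style.haveILetI false

namespace CfsgLib.Geo.Elusive

open CfsgLib.Classical CfsgLib.Classical.Quad CfsgLib.Geo.OrthMax
open QuadraticMap (polar polarBilin)
open Module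

universe u

variable {F : Type u} [Field F] [Finite F]
variable {V : Type u} [AddCommGroup V] [Module F V] [FiniteDimensional F V] {Q : QuadraticForm F V}

/-- Every space of odd dimension has a singular half with an orthogonal non-singular vector. -/
theorem exists_value (h2 : (2 : F) ≠ 0) {W : Submodule F V} (hW : Nondeg Q W) (hodd : Odd (finrank F W)) :
    ∃ (T : Submodule F V) (v : V), T ≤ W ∧ (∀ x ∈ T, Q x = 0) ∧ finrank F W = 2 * finrank F T + 1 ∧ v ∈ W ∧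
      Q v ≠ 0 ∧ ∀ x ∈ T, polar Q x v = 0 := by
  obtain ⟨k, hk⟩ := hodd
  obtain ⟨A, hAW, hA, ⟨S, hSA, hS, hSd⟩, hAd⟩ := exists_plus_sub hW (k := k) (by omega)
  obtain ⟨hA', -, hd⟩ := nondeg_inf_perp hA hW hAW
  haveI : Nontrivial ↥(W ⊓ OrthMax.perp Q A) := Module.nontrivial_of_finrank_pos (R := F) (by omega)
  obtain ⟨⟨v, hvW, hv⟩, hv0⟩ := exists_apply_ne_zero hA'.comp
  exact ⟨S, v, hSA.trans hAW, hS, by omega, hvW, hv0, fun x hx => mem_perp.1 hv x (hSA hx)⟩

/-- A transported half and vector in a subspace isometric to another one. -/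
theorem exists_value_transport {W W₀ : Submodule F V} (hiso : Iso Q W W₀) {T : Submodule F V} (hTW : T ≤ W)
    (hT : ∀ x ∈ T, Q x = 0) {v : V} (hv : v ∈ W) (hperp : ∀ x ∈ T, polar Q x v = 0) :
    ∃ (T' : Submodule F V) (v' : V), T' ≤ W₀ ∧ (∀ x ∈ T', Q x = 0) ∧ finrank F T' = finrank F T ∧ v' ∈ W₀ ∧
      Q v' = Q v ∧ ∀ x ∈ T', polar Q x v' = 0 := by
  obtain ⟨e, he⟩ := hiso
  refine ⟨((T.comap W.subtype).map e.toLinearMap).map W₀.subtype, (e ⟨v, hv⟩ : W₀), Submodule.map_subtype_le _ _,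
    ?_, ?_, (e ⟨v, hv⟩).2, he _, ?_⟩
  · rintro _ ⟨_, ⟨x, hx, rfl⟩, rfl⟩
    exact (he x).trans (hT _ hx)
  · rw [Submodule.finrank_map_subtype_eq, LinearEquiv.finrank_map_eq, (Submodule.comapSubtypeEquivOfLe hTW).finrank_eq]
  · rintro _ ⟨_, ⟨x, hx, rfl⟩, rfl⟩
    have h : polar Q ((e x : W₀) : V) ((e ⟨v, hv⟩ : W₀) : V) = polar Q (x : V) v := by
      simp only [polar, ← Submodule.coe_add, ← map_add, he]
      rfl
    exact h.trans (hperp _ hx)

variable {p : ℕ} [Fact p.Prime] [CharP F p]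

/-- Elements of order `p` without invariant nondegenerate subspaces of odd dimension `m`. -/
theorem exists_no_odd (hp2 : p ≠ 2) (h2 : (2 : F) ≠ 0) (hQ : (polarBilin Q).Nondegenerate) {d m : ℕ}
    (hd : finrank F V = 2 * d) (hd3 : 2 ≤ d) (hm : Odd m) (hcase : Plus Q (⊤ : Submodule F V) ∨ Odd d) :
    ∃ g : Module.End F V, g ^ p = 1 ∧ g ≠ 1 ∧ (∀ v, Q (g v) = Q v) ∧
      ∀ W : Submodule F V, (∀ v ∈ W, g v ∈ W) → Nondeg Q W → finrank F W ≠ m := by
  have htop : Nondeg Q (⊤ : Submodule F V) := fun x _ h => hQ.1 x fun y => h y Submodule.mem_top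
  have hpodd := (Fact.out : p.Prime).odd_of_ne_two hp2
  have finish : ∀ {k ε s : ℕ} {g : Module.End F V}, UData Q g ε s → (1 ≤ k → g ≠ 1) → (1 ≤ k ∨ g ≠ 1) →
      (∀ δ a t : ℕ, δ ≤ ε → a ≤ s → m = 2 * t + a + δ → Even (t + a) → False) →
      ∃ g : Module.End F V, g ^ p = 1 ∧ g ≠ 1 ∧ (∀ v, Q (g v) = Q v) ∧
        ∀ W : Submodule F V, (∀ v ∈ W, g v ∈ W) → Nondeg Q W → finrank F W ≠ m := by
    intro k ε s g hu hne hk harith
    have hgp := pow_eq_one_of_cube hp2 hu.cube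
    refine ⟨g, hgp, hk.elim hne id, hu.iso, fun W hinv hW hWd => ?_⟩
    obtain ⟨T, δ, a, -, -, -, -, hm', hev, hδ, ha, -, -⟩ := unipotent_dims h2 hu.iso hpodd hgp hW hinv
    have := hu.fixd
    exact harith δ a (finrank F T) (by omega) (le_trans ha hu.sq) (hWd ▸ hm') hev
  obtain ⟨j, hj⟩ := hm
  rcases Nat.even_or_odd d with ⟨l, hl⟩ | hdo
  · have hp : Plus Q (⊤ : Submodule F V) := hcase.resolve_right (by rw [Nat.not_odd_iff_even]; exact ⟨l, hl⟩)
    have hBd : finrank F (OrthMax.perp Q (⊤ : Submodule F V)) = 0 := by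
      rw [finrank_perp hQ, finrank_top, Nat.sub_self]
    obtain ⟨g, gA, hu, -, -, -, -, -, hne⟩ := exists_twos_glue hQ htop hp (k := l) (by rw [finrank_top]; omega) 1
      (udata_one _)
    refine finish hu hne (Or.inl (by omega)) fun δ a t h1 h3 h4 _ => ?_
    omega
  · obtain ⟨l, hl⟩ := hdo
    by_cases hm3 : m % 4 = 3
    · obtain ⟨A, -, hA, hAp, hAd⟩ := exists_plus_sub htop (k := l + l) (by rw [finrank_top]; omega)
      have hBd : finrank F (OrthMax.perp Q A) = 2 := by rw [finrank_perp hQ, hd, hAd]; omega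
      obtain ⟨g, gA, hu, -, -, -, -, -, hne⟩ := exists_twos_glue hQ hA hAp hAd 1 (udata_one _)
      refine finish hu hne (Or.inl (by omega)) fun δ a t h1 h3 h4 ⟨e, he⟩ => ?_
      omega
    · obtain ⟨A, -, hA, hAp, hAd⟩ := exists_plus_sub htop (k := (l - 1) + (l - 1)) (by rw [finrank_top]; omega)
      set B := OrthMax.perp Q A with hB
      have hBd : finrank F B = 6 := by rw [hB, finrank_perp hQ, hd, hAd]; omega
      have hBn : Nondeg Q B := hA.perp hQ
      obtain ⟨B₁, -, hB₁, hB₁d⟩ := exists_nondeg_sub h2 (A := (⊤ : Submodule F B)) (Q := Q.comp B.subtype)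
        (fun x _ h => hBn.comp.1 x fun y => h y Submodule.mem_top) (k := 3) (by rw [finrank_top]; omega)
      have hB₂d : finrank F (OrthMax.perp (Q.comp B.subtype) B₁) = 3 := by
        rw [finrank_perp hBn.comp, hBd, hB₁d]
      obtain ⟨g₁, b₁, -, hu₁, -⟩ := exists_three h2 hB₁.comp hB₁d
      obtain ⟨g₂, b₂, -, hu₂, -⟩ := exists_three h2 (hB₁.perp hBn.comp).comp hB₂d
      obtain ⟨gB, hgB, hBiso, hBpow⟩ := exists_glue (hB₁.isCompl hBn.comp) (fun a ha b hb => mem_perp.1 hb a ha) g₁ g₂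
      have huB := glue_udata (hB₁.isCompl hBn.comp) hBpow (hBiso hu₁.iso hu₂.iso) hu₁ hu₂
      obtain ⟨g, gA, hu, -, -, -, -, hpow, hne⟩ := exists_twos_glue hQ hA hAp hAd gB huB
      have hg1 : g ≠ 1 := by
        intro h1
        have hgB1 : ∀ b : B, (gB - 1) b = 0 := fun b => by
          have h := hpow 1 0 b
          rw [h1, sub_self, pow_one, LinearMap.zero_apply, map_zero, pow_one] at h
          exact Subtype.ext (by simpa using h.symm)
        have hg1' : ∀ x : B₁, (g₁ - 1) x = 0 := fun x => by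
          have h := hBpow 1 x 0
          rw [pow_one, pow_one, pow_one, map_zero, hgB1] at h
          exact Subtype.ext (by simpa using h.symm)
        have h := hu₁.fixd
        have hfull : fixedK g₁ = ⊤ := eq_top_iff.2 fun x _ => hg1' x
        have hmoved : movedN g₁ = ⊥ := LinearMap.range_eq_bot.2 (LinearMap.ext hg1')
        rw [hfull, hmoved, inf_bot_eq, finrank_bot, finrank_top, hB₁d] at h
        omega
      refine finish (k := 0) hu (fun h => absurd h (by omega)) (Or.inr hg1) fun δ a t h1 h3 h4 ⟨e, he⟩ => ?_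
      omega

/-- Minus type, `d` even: an element of order `p` with no invariant member of a given odd class. -/
theorem exists_no_class (hp2 : p ≠ 2) (h2 : (2 : F) ≠ 0) (hQ : (polarBilin Q).Nondegenerate) {d : ℕ}
    (hd : finrank F V = 2 * d) (hd4 : 4 ≤ d) (hde : Even d) {W₀ : Submodule F V} (hW₀ : Nondeg Q W₀)
    (hm : Odd (finrank F W₀)) :
    ∃ g : Module.End F V, g ^ p = 1 ∧ g ≠ 1 ∧ (∀ v, Q (g v) = Q v) ∧
      ∀ W : Submodule F V, (∀ v ∈ W, g v ∈ W) → ¬ Iso Q W W₀ := by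
  obtain ⟨l, hl⟩ := hde
  obtain ⟨T₀, v₀, hT₀W, hT₀, hT₀d, hv₀W, hv₀, hT₀p⟩ := exists_value h2 hW₀ hm
  haveI := Fintype.ofFinite F
  obtain ⟨ν, hν⟩ := FiniteField.exists_nonsquare (F := F) fun h => h2 (by
    have := ringChar.eq_iff.1 h
    exact CharTwo.two_eq_zero)
  have hc0 : ν * Q v₀ ≠ 0 := mul_ne_zero (fun h => hν (h ▸ IsSquare.zero)) hv₀
  obtain ⟨A, -, hA, hAp, hAd⟩ := exists_plus_sub (C := (⊤ : Submodule F V))
    (fun x _ h => hQ.1 x fun y => h y Submodule.mem_top) (k := (l - 1) + (l - 1)) (by rw [finrank_top]; omega)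
  set B := OrthMax.perp Q A with hB
  have hBn : Nondeg Q B := hA.perp hQ
  have hBd : finrank F B = 4 := by rw [hB, finrank_perp hQ, hd, hAd]; omega
  have hBtop : Nondeg (Q.comp B.subtype) (⊤ : Submodule F B) := fun x _ h => hBn.comp.1 x fun y => h y Submodule.mem_top
  -- the block and the fixed line
  obtain ⟨gB, huB, hval⟩ : ∃ gB : Module.End F B, UData (Q.comp B.subtype) gB 1 1 ∧
      ((finrank F W₀ % 4 = 1 → ∀ x ∈ fixedK gB, ∃ t, (Q.comp B.subtype) x = t * t * (ν * Q v₀)) ∧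
        (finrank F W₀ % 4 = 3 → ∀ x, ∃ t, (Q.comp B.subtype) ((gB - 1) x) = t * t * (ν * Q v₀))) := by
    by_cases hm1 : finrank F W₀ % 4 = 1
    · obtain ⟨u, hu⟩ := exists_apply_eq hBn.comp (by omega) hc0
      set L := Submodule.span F {u} with hL
      have hu0 : u ≠ 0 := fun h => hc0 (by rw [← hu, h, QuadraticMap.map_zero])
      have hLn : Nondeg (Q.comp B.subtype) L := fun y hy hall => by
        obtain ⟨c, rfl⟩ := Submodule.mem_span_singleton.1 hy
        have h := hall u (Submodule.mem_span_singleton_self u)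
        rw [polar_smul_left', polar_self', hu] at h
        rw [(mul_eq_zero.1 h).resolve_right (mul_ne_zero h2 hc0), zero_smul]
      have hL1 : finrank F L = 1 := finrank_span_singleton hu0
      have hB'd : finrank F (OrthMax.perp (Q.comp B.subtype) L) = 3 := by
        rw [finrank_perp hBn.comp, hBd, hL1]
      obtain ⟨g₁, b₁, -, hu₁, hK₁, -⟩ := exists_three h2 (hLn.perp hBn.comp).comp hB'd
      obtain ⟨gB, -, hBiso, hBpow⟩ := exists_glue (hLn.isCompl hBn.comp) (fun a ha b hb => mem_perp.1 hb a ha)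
        (1 : Module.End F L) g₁
      have hu1 := udata_one ((Q.comp B.subtype).comp L.subtype)
      rw [hL1] at hu1
      have huB := glue_udata (hLn.isCompl hBn.comp) hBpow (hBiso hu1.iso hu₁.iso) hu1 hu₁
      refine ⟨gB, huB, fun _ x hx => ?_, fun h => absurd h (by omega)⟩
      rw [(glue_ker (hLn.isCompl hBn.comp) hBpow).1] at hx
      obtain ⟨_, ⟨⟨a, ha⟩, -, rfl⟩, _, ⟨b, hb, rfl⟩, rfl⟩ := Submodule.mem_sup.1 hx
      obtain ⟨c, rfl⟩ := Submodule.mem_span_singleton.1 ha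
      refine ⟨c, ?_⟩
      rw [apply_add, Submodule.subtype_apply, Submodule.subtype_apply,
        show (Q.comp B.subtype) (b : B) = 0 from hK₁ b hb, apply_smul, hu,
        mem_perp.1 b.2 _ ha]
      ring
    · obtain ⟨B₁, -, hB₁, hB₁d, g₁, hu₁, -, hN₁⟩ := exists_three_sub h2 hBtop (by rw [finrank_top]; omega) hc0
      have hL1 : finrank F (OrthMax.perp (Q.comp B.subtype) B₁) = 1 := by
        rw [finrank_perp hBn.comp, hBd, hB₁d]
      obtain ⟨gB, -, hBiso, hBpow⟩ := exists_glue (hB₁.isCompl hBn.comp) (fun a ha b hb => mem_perp.1 hb a ha) g₁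
        (1 : Module.End F (OrthMax.perp (Q.comp B.subtype) B₁))
      have hu1 := udata_one ((Q.comp B.subtype).comp (OrthMax.perp (Q.comp B.subtype) B₁).subtype)
      rw [hL1] at hu1
      have huB := glue_udata (hB₁.isCompl hBn.comp) hBpow (hBiso hu₁.iso hu1.iso) hu₁ hu1
      refine ⟨gB, huB, fun h => absurd h hm1, fun _ x => ?_⟩
      obtain ⟨a', b', ha, hb, rfl⟩ := Submodule.codisjoint_iff_exists_add_eq.1 (hB₁.isCompl hBn.comp).codisjoint x
      have h := hBpow 1 ⟨a', ha⟩ ⟨b', hb⟩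
      rw [pow_one, pow_one, pow_one, show ((1 : Module.End F ↥(OrthMax.perp (Q.comp B.subtype) B₁)) - 1) ⟨b', hb⟩ = 0 from sub_self _, Submodule.coe_zero, add_zero] at h
      rw [h]
      exact hN₁ _
  obtain ⟨g, gA, hu, -, hMK, hKs, -, hpow, hne⟩ := exists_twos_glue hQ hA hAp hAd gB huB
  have hgp := pow_eq_one_of_cube hp2 hu.cube
  refine ⟨g, hgp, hne (by omega), hu.iso, fun W hinv hiso => ?_⟩
  have hW := hiso.symm.nondeg hW₀
  have hWd := hiso.finrank_eq
  obtain ⟨T, δ, a, hTW, hTs, hTK, hTM, hm', hev, hδ, ha, hv1, hw1⟩ :=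
    unipotent_dims h2 hu.iso ((Fact.out : p.Prime).odd_of_ne_two hp2) hgp hW hinv
  have hfix := hu.fixd
  have hsq := hu.sq
  obtain ⟨e, he⟩ := hev
  obtain ⟨v, hv, hvT, hperp, hQv⟩ : ∃ v ∈ W, v ∉ T ∧ (∀ x ∈ T, polar Q x v = 0) ∧
      ∃ t : F, Q v = t * t * (ν * Q v₀) := by
    obtain ⟨j, hj⟩ := hm
    by_cases hm1 : finrank F W₀ % 4 = 1
    · obtain ⟨v, hv, hvK, hvT⟩ := hv1 (by omega)
      refine ⟨v, hv, hvT, fun x hx => polar_moved_fixed hu.iso (hTM x hx) hvK, ?_⟩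
      rw [(glue_ker (hA.isCompl hQ) hpow).1] at hvK
      obtain ⟨_, ⟨a₁, ha₁, rfl⟩, _, ⟨b₁, hb₁, rfl⟩, rfl⟩ := Submodule.mem_sup.1 hvK
      obtain ⟨t, ht⟩ := hval.1 hm1 b₁ hb₁
      refine ⟨t, ?_⟩
      rw [apply_add, Submodule.subtype_apply, Submodule.subtype_apply, show Q (a₁ : V) = 0 from hKs a₁ ha₁,
        mem_perp.1 b₁.2 _ a₁.2, show Q (b₁ : V) = _ from ht]
      ring
    · obtain ⟨w, hw, hNw, hNN⟩ := hw1 (by omega)
      refine ⟨(g - 1) w, hNw, fun hmem => hNN (hTK _ hmem), fun x hx => ?_, ?_⟩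
      · rw [QuadraticMap.polar_comm]
        exact polar_moved_fixed hu.iso ⟨w, rfl⟩ (hTK x hx)
      obtain ⟨a₁, b₁, ha₁, hb₁, rfl⟩ := Submodule.codisjoint_iff_exists_add_eq.1 (hA.isCompl hQ).codisjoint w
      have h := hpow 1 ⟨a₁, ha₁⟩ ⟨b₁, hb₁⟩
      simp only [pow_one] at h
      obtain ⟨t, ht⟩ := hval.2 (by omega) ⟨b₁, hb₁⟩
      refine ⟨t, ?_⟩
      rw [h, apply_add, show Q (((gA - 1) ⟨a₁, ha₁⟩ : A) : V) = 0 from hKs _ (hMK.le ⟨_, rfl⟩),
        mem_perp.1 ((gB - 1) ⟨b₁, hb₁⟩).2 _ ((gA - 1) ⟨a₁, ha₁⟩).2, show Q (((gB - 1) ⟨b₁, hb₁⟩ : B) : V) = _ from ht]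
      ring
  have hdT : finrank F W = 2 * finrank F T + 1 := by
    obtain ⟨j, hj⟩ := hm
    omega
  obtain ⟨t, ht⟩ := hQv
  have hv0 := apply_ne_zero_of_perp hW hTW hTs (by omega) hv hvT hperp
  obtain ⟨T', v', hT'W, hT', hT'd, hv'W, hv'Q, hT'p⟩ := exists_value_transport hiso hTW hTs hv hperp
  obtain ⟨s, hs⟩ := value_unique hW₀ hT'W hT₀W hT' hT₀ (by omega) hT₀d hv'W hv₀W hv₀ hT'p hT₀p
  rw [hv'Q, ht, ← mul_assoc, mul_left_inj' hv₀] at hs
  have ht0 : t ≠ 0 := fun h => hv0 (by rw [ht, h]; ring)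
  exact hν ⟨s / t, by field_simp; linear_combination hs⟩

end CfsgLib.Geo.Elusive
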